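import Mathlib
import Cfsg.Agent.Lib.Helper80.Restrict
import Cfsg.Agent.Lib.CT.FrobRec
import Cfsg.Agent.Lib.CT.IndChar

/-!
Degrees of induced characters and constituents of degree prime to `p`.
-/

set_option autoImplicit false

namespace Cfsg.Agent.Lib.Helper80.IndDeg

open Cfsg Cfsg.Agent.Lib.Helper80.Integrality Cfsg.Agent.Lib.Helper80.Restrict
open Cfsg.Agent.Lib.CT.Wedderburn Cfsg.Agent.Lib.CT.Orth
open Cfsg.Agent.Lib.CT.FrobRec Cfsg.Agent.Lib.CT.IndChar
open scoped ComplexConjugate

universe u
variable {G : Type u} [Group G]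

/-- The degree of an induced character. -/
theorem charDegree_indFun [Fintype G] (H : Subgroup G) (θ : H → ℂ) (hθ : IsCharacter H θ) :
    charDegree (indFun H θ) = H.index * charDegree θ := by
  show ⌊(indFun H θ 1).re⌋₊ = _
  rw [indFun_one, apply_one_eq_charDegree hθ]
  have : ((H.index : ℂ) * (charDegree θ : ℂ)) = ((H.index * charDegree θ : ℕ) : ℂ) := by
    push_cast; ring
  rw [this, Complex.natCast_re, Nat.floor_natCast]

/-- If `p` does not divide the degree `[G : H] θ(1)` of the character induced from `θ`, then some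
irreducible character of `G` of degree prime to `p` lies over `θ`. -/
theorem exists_constituent_not_dvd [Fintype G] (H : Subgroup G) [Fintype H] (θ : H → ℂ)
    (hθ : IsCharacter H θ) (p : ℕ) (hnd : ¬ p ∣ H.index * charDegree θ) :
    ∃ χ : IrrCharacter G, classInner θ (fun h : H => (χ : G → ℂ) h) ≠ 0 ∧
      ¬ p ∣ charDegree (χ : G → ℂ) := by
  classical
  have := finite_irrCharacter G
  have := Fintype.ofFinite (IrrCharacter G)
  have hψ := isCharacter_indFun H θ hθ
  obtain ⟨m, hm1, -, hm3, -⟩ := exists_mult hψ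
  rw [charDegree_indFun H θ hθ] at hm3
  by_contra hcon
  push Not at hcon
  apply hnd
  rw [hm3]
  refine Finset.dvd_sum fun χ _ => ?_
  by_cases h0 : m χ = 0
  · rw [h0, zero_mul]; exact dvd_zero p
  · refine Dvd.dvd.mul_left (hcon χ ?_) _
    rw [← frobenius_reciprocity H θ _ (irr_isClassFunction χ), hm1 χ]
    exact_mod_cast h0

end Cfsg.Agent.Lib.Helper80.IndDeg
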