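import Mathlib
import Cfsg.Agent.Lib.Helper80.IndDeg
import Cfsg.Agent.Lib.Helper78.CliffordCorr
import Cfsg.Agent.Lib.Helper3.ClassCount
import Cfsg.Agent.Lib.Helper69.PNil
import Cfsg.Agent.Lib.CT.Kernel
import Cfsg.Agent.S0187
import Cfsg.Agent.S4601
import Cfsg.Agent.Lib.Helper9.CS2
import Cfsg.Agent.Lib.Helper16.CentralChar

/-!
The converse of Ito's theorem: a finite group all of whose irreducible character degrees are prime
to `p`, and which has enough normal `p`- or `p'`-subgroups (for instance a solvable or `p`-solvable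
group), has a normal abelian Sylow `p`-subgroup.
-/

set_option autoImplicit false

namespace Cfsg.Agent.Lib.Helper80.ItoConv

open Cfsg Cfsg.Agent.Lib.Helper80.Integrality Cfsg.Agent.Lib.Helper80.Restrict
open Cfsg.Agent.Lib.CT.Wedderburn Cfsg.Agent.Lib.CT.Orth
open Cfsg.Agent.Lib.CT.FrobRec Cfsg.Agent.Lib.CT.IndChar
open Cfsg.Agent.Lib.CT.Clifford
open scoped ComplexConjugate

universe u
variable {G : Type u} [Group G]

/-- The hypothesis passes to quotients. -/
theorem hyp_quotient (p : ℕ) (N : Subgroup G) [N.Normal]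
    (h : ∀ χ : IrrCharacter G, ¬ p ∣ charDegree (χ : G → ℂ)) (ψ : IrrCharacter (G ⧸ N)) :
    ¬ p ∣ charDegree (ψ : G ⧸ N → ℂ) := by
  have h1 := h ⟨fun g : G => (ψ : G ⧸ N → ℂ) (g : G ⧸ N),
    Cfsg.Agent.Lib.CT.Kernel.isIrrCharacter_inflation N ψ.2⟩
  exact h1

/-- The hypothesis passes to normal subgroups, and the inertia groups have index prime to `p`. -/
theorem hyp_normal [Finite G] (p : ℕ) (N : Subgroup G) (hN : N.Normal)
    (h : ∀ χ : IrrCharacter G, ¬ p ∣ charDegree (χ : G → ℂ)) (θ : IrrCharacter N) :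
    ¬ p ∣ charDegree (θ : N → ℂ) ∧
      ¬ p ∣ (Cfsg.Agent.Lib.Helper78.CliffordCorr.inertia N hN (θ : N → ℂ)).index := by
  classical
  have := Fintype.ofFinite G
  have hθc : IsCharacter N (θ : N → ℂ) := isCharacter_of_irr θ.2
  have hpos := charDegree_pos θ
  have hidx : N.index ≠ 0 := Subgroup.index_ne_zero_of_finite
  obtain ⟨χ, hχ, -⟩ := Cfsg.Agent.Lib.Helper80.IndDeg.exists_constituent_not_dvd N (θ : N → ℂ) hθc 0
    (by
      rw [zero_dvd_iff]
      exact Nat.mul_ne_zero hidx hpos.ne')
  have hcon : classInner (fun n : N => (χ : G → ℂ) n) (θ : N → ℂ) ≠ 0 := by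
    rw [classInner_conj_symm]
    simpa using hχ
  set T := Cfsg.Agent.Lib.Helper78.CliffordCorr.inertia N hN (θ : N → ℂ) with hTdef
  obtain ⟨ψ, e, -, -, -, -, -, hdeg⟩ :=
    Cfsg.Agent.Lib.Helper78.CliffordCorr.clifford_corr N hN (θ : N → ℂ) θ.2 T
      (fun g => Cfsg.Agent.Lib.Helper78.CliffordCorr.mem_inertia N hN (θ : N → ℂ) g)
      (Cfsg.Agent.Lib.Helper78.CliffordCorr.le_inertia N hN (irr_isClassFunction θ)) (χ : G → ℂ) χ.2 hcon
  have hχp := h χ
  rw [hdeg] at hχp
  constructor
  · intro hd
    exact hχp (Dvd.dvd.mul_left hd _)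
  · intro hd
    exact hχp (Dvd.dvd.mul_right (Dvd.dvd.mul_left hd _) _)

/-- A `p`-group all of whose irreducible characters have degree prime to `p` is abelian. -/
theorem comm_of_isPGroup [Finite G] (p : ℕ) [Fact p.Prime] (hG : IsPGroup p G)
    (h : ∀ χ : IrrCharacter G, ¬ p ∣ charDegree (χ : G → ℂ)) (a b : G) : a * b = b * a := by
  refine Cfsg.Agent.S0187.result.mpr (fun χ => ?_) a b
  rw [apply_one_eq_charDegree (isCharacter_of_irr χ.2)]
  obtain ⟨n, hn⟩ := IsPGroup.iff_card.mp hG
  have hd := charDegree_dvd_card χ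
  rw [hn] at hd
  obtain ⟨k, -, hk⟩ := (Nat.dvd_prime_pow (Fact.out : p.Prime)).mp hd
  have hk0 : k = 0 := by
    by_contra hk0
    exact h χ (by rw [hk]; exact dvd_pow_self p hk0)
  rw [hk, hk0]
  simp

/-- Brauer's permutation lemma: if every irreducible character of the normal subgroup `M` is
`G`-invariant, then every conjugacy class of `M` is `G`-invariant. -/
theorem isConj_conjNormal [Finite G] (M : Subgroup G) [hM : M.Normal]
    (hinv : ∀ (g : G) (θ : IrrCharacter M) (n : M),
      (θ : M → ℂ) ⟨g * n * g⁻¹, hM.conj_mem n n.2 g⟩ = (θ : M → ℂ) n)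
    (g : G) (m : M) : IsConj m (MulAut.conjNormal g m : M) := by
  classical
  set a : M → M := fun n => MulAut.conjNormal g n with ha
  have hf : ∀ (χ : IrrCharacter M) (n : M),
      ((id χ : IrrCharacter M) : M → ℂ) n = (χ : M → ℂ) (a n) := by
    intro χ n
    have h1 := hinv g χ n
    have e : a n = ⟨g * n * g⁻¹, hM.conj_mem n n.2 g⟩ := Subtype.ext (by simp [ha])
    rw [e]
    exact h1.symm
  let P : ConjClasses M → Prop := fun C => ∀ n : M, ConjClasses.mk n = C → IsConj n (a n)
  have hp : ∀ n, P (ConjClasses.mk n) ↔ IsConj n (a n) := by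
    intro n
    constructor
    · intro h
      exact h n rfl
    · intro h n' hn'
      have h1 : IsConj n' n := ConjClasses.mk_eq_mk_iff_isConj.mp hn'
      have h2 : IsConj (a n') (a n) :=
        MonoidHom.map_isConj (MulAut.conjNormal g : M ≃* M).toMonoidHom h1
      exact h1.trans (h.trans h2.symm)
  have key := Cfsg.Agent.Lib.Helper3.ClassCount.card_irr_fixed_eq_card_classes (G := M) id a hf P hp
  have h1 : Nat.card {χ : IrrCharacter M // id χ = χ} = Nat.card (IrrCharacter M) :=
    Nat.card_congr (Equiv.subtypeUnivEquiv (fun _ => rfl))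
  have h2 : Nat.card (IrrCharacter M) = Nat.card (ConjClasses M) := card_irrCharacter
  have h3 : Function.Bijective (Subtype.val : {C : ConjClasses M // P C} → ConjClasses M) :=
    Function.Injective.bijective_of_nat_card_le Subtype.val_injective (by rw [← key, h1, h2])
  obtain ⟨⟨C, hC⟩, hC'⟩ := h3.2 (ConjClasses.mk m)
  exact hC m hC'.symm

/-- If every class of the normal `p'`-subgroup `M` is `G`-invariant, then every `p`-element of
`G` centralizes `M`. -/
theorem commute_of_isConj [Finite G] (p : ℕ) [Fact p.Prime] (M : Subgroup G) [hM : M.Normal]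
    (hcop : (Nat.card M).Coprime p)
    (hconj : ∀ (g : G) (m : M), IsConj m (MulAut.conjNormal g m : M))
    (g : G) (hg : IsPGroup p (Subgroup.zpowers g)) (m : M) : g * (m : G) = m * g := by
  classical
  -- the centralizer of `g` in `M`
  let C : Subgroup M := (Subgroup.centralizer ({g} : Set G)).subgroupOf M
  have hC : C = ⊤ := by
    apply Cfsg.Agent.Lib.Helper69.PNil.eq_top_of_forall_conj_mem
    intro m₀
    let act : MulAction G {x : M // IsConj m₀ x} :=
      { smul := fun z x => ⟨MulAut.conjNormal z x.1, x.2.trans (hconj z x.1)⟩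
        one_smul := by
          intro x
          apply Subtype.ext
          show (MulAut.conjNormal (1 : G) : M ≃* M) x.1 = x.1
          rw [map_one]
          rfl
        mul_smul := by
          intro z w x
          apply Subtype.ext
          show (MulAut.conjNormal (z * w) : M ≃* M) x.1
            = (MulAut.conjNormal z : M ≃* M) ((MulAut.conjNormal w : M ≃* M) x.1)
          rw [map_mul]
          rfl }
    have hcard : ¬ p ∣ Nat.card {x : M // IsConj m₀ x} := by
      have e1 : Nat.card {x : M // IsConj m₀ x}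
          = (Cfsg.Agent.Lib.Helper16.CentralChar.conjFinset m₀).card := by
        rw [← Nat.card_eq_finsetCard]
        exact Nat.card_congr (Equiv.subtypeEquivRight
          (fun x => Cfsg.Agent.Lib.Helper16.CentralChar.mem_conjFinset.symm))
      rw [e1, Cfsg.Agent.Lib.Helper16.CentralChar.card_conjFinset]
      intro hd
      have h1 : p ∣ Nat.card M := hd.trans (Subgroup.index_dvd_card _)
      have h2 := Nat.Coprime.eq_one_of_dvd hcop.symm h1
      exact (Fact.out : p.Prime).one_lt.ne' h2
    obtain ⟨⟨x, hx⟩, hfix⟩ := hg.nonempty_fixed_point_of_prime_not_dvd_card _ hcard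
    obtain ⟨c, hc⟩ := isConj_iff.mp hx
    refine ⟨c, ?_⟩
    rw [hc]
    show (x : G) ∈ Subgroup.centralizer ({g} : Set G)
    rw [Subgroup.mem_centralizer_iff]
    intro y hy
    rw [Set.mem_singleton_iff] at hy
    subst hy
    have h1 := hfix ⟨y, Subgroup.mem_zpowers y⟩
    have h2 : (MulAut.conjNormal y : M ≃* M) x = x := congrArg Subtype.val h1
    have h3 : y * (x : G) * y⁻¹ = x := by
      rw [← MulAut.conjNormal_apply, h2]
    calc y * (x : G) = y * (x : G) * y⁻¹ * y := by group
      _ = (x : G) * y := by rw [h3]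
  have hm : m ∈ C := by rw [hC]; exact Subgroup.mem_top m
  have hm' : (m : G) ∈ Subgroup.centralizer ({g} : Set G) := hm
  rw [Subgroup.mem_centralizer_iff] at hm'
  exact hm' g rfl

/-- A finite group with a normal `p'`-subgroup of `p`-power index, all of whose irreducible
characters have degree prime to `p`, has a normal Sylow `p`-subgroup. -/
theorem sylow_normal_of_coprime [Finite G] (p : ℕ) [Fact p.Prime] (M : Subgroup G)
    [hM : M.Normal] (hcop : (Nat.card M).Coprime p) (a : ℕ) (hidx : M.index = p ^ a)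
    (h : ∀ χ : IrrCharacter G, ¬ p ∣ charDegree (χ : G → ℂ)) (P : Sylow p G) :
    (P : Subgroup G).Normal := by
  classical
  have hp : p.Prime := Fact.out
  -- every irreducible character of `M` is invariant
  have hinv : ∀ (g : G) (θ : IrrCharacter M) (n : M),
      (θ : M → ℂ) ⟨g * n * g⁻¹, hM.conj_mem n n.2 g⟩ = (θ : M → ℂ) n := by
    intro g θ
    obtain ⟨-, hT⟩ := hyp_normal p M hM h θ
    set T := Cfsg.Agent.Lib.Helper78.CliffordCorr.inertia M hM (θ : M → ℂ)
    have hMT : M ≤ T :=
      Cfsg.Agent.Lib.Helper78.CliffordCorr.le_inertia M hM (irr_isClassFunction θ)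
    have hdvd : T.index ∣ p ^ a := by
      rw [← hidx]
      exact Subgroup.index_dvd_of_le hMT
    obtain ⟨k, -, hk⟩ := (Nat.dvd_prime_pow hp).mp hdvd
    have hk0 : k = 0 := by
      by_contra hk0
      exact hT (by rw [hk]; exact dvd_pow_self p hk0)
    have hTtop : T = ⊤ := by
      rw [← Subgroup.index_eq_one, hk, hk0, pow_zero]
    have hg : g ∈ T := by
      rw [hTtop]
      exact Subgroup.mem_top g
    exact (Cfsg.Agent.Lib.Helper78.CliffordCorr.mem_inertia M hM _ g).mp hg
  have hconj := isConj_conjNormal M hinv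
  have hcent : ∀ g ∈ (P : Subgroup G), ∀ m : M, g * (m : G) = m * g := by
    intro g hg m
    apply commute_of_isConj p M hcop hconj g _ m
    exact P.isPGroup'.to_le (Subgroup.zpowers_le.mpr hg)
  -- the normalizer of `P` contains `M` and `P`
  have hMN : M ≤ Subgroup.normalizer ((P : Subgroup G) : Set G) := by
    intro m hm
    rw [Subgroup.mem_normalizer_iff]
    intro x
    constructor
    · intro hx
      have h1 := hcent x hx ⟨m, hm⟩
      have e : m * x * m⁻¹ = x := by
        rw [show m * x = x * m from h1.symm]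
        group
      rw [e]
      exact hx
    · intro hx
      have h1 := hcent _ hx ⟨m, hm⟩
      have e : x = m * x * m⁻¹ := by
        have h2 : m * x = m * (m * x * m⁻¹) := by
          have h3 : m * x * m⁻¹ * m = m * (m * x * m⁻¹) := h1
          rw [← h3]
          group
        exact mul_left_cancel h2
      rw [e]
      exact hx
  have hPN : (P : Subgroup G) ≤ Subgroup.normalizer ((P : Subgroup G) : Set G) := Subgroup.le_normalizer
  have h1 : Nat.card M ∣ Nat.card (Subgroup.normalizer ((P : Subgroup G) : Set G)) := Subgroup.card_dvd_of_le hMN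
  have h2 : Nat.card (P : Subgroup G) ∣ Nat.card (Subgroup.normalizer ((P : Subgroup G) : Set G)) :=
    Subgroup.card_dvd_of_le hPN
  have hGcard : Nat.card G = Nat.card M * p ^ a := by
    rw [← hidx]
    exact (Subgroup.card_mul_index M).symm
  have hPa : p ^ a ∣ Nat.card (P : Subgroup G) :=
    P.pow_dvd_card_of_pow_dvd_card (by rw [hGcard]; exact dvd_mul_left _ _)
  have hcop' : (Nat.card M).Coprime (p ^ a) := Nat.Coprime.pow_right a hcop
  have h3 : Nat.card G ∣ Nat.card (Subgroup.normalizer ((P : Subgroup G) : Set G)) := by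
    rw [hGcard]
    exact Nat.Coprime.mul_dvd_of_dvd_of_dvd hcop' h1 (hPa.trans h2)
  have h4 : Subgroup.normalizer ((P : Subgroup G) : Set G) = ⊤ := by
    apply Subgroup.eq_top_of_le_card
    exact Nat.le_of_dvd Nat.card_pos h3
  exact Subgroup.normalizer_eq_top_iff.mp h4

/-- Main induction: existence of a normal Sylow `p`-subgroup, for any class `Good` of finite groups
in which every nontrivial member has a nontrivial normal `p`- or `p'`-subgroup with quotient in
the class. -/
theorem exists_normal_sylow_aux (p : ℕ) [Fact p.Prime] (Good : ∀ (H : Type u) [Group H], Prop)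
    (hGood : ∀ (H : Type u) [Group H] [Finite H] [Nontrivial H], Good H →
      ∃ M : Subgroup H, ∃ _ : M.Normal, M ≠ ⊥ ∧ (IsPGroup p M ∨ (Nat.card M).Coprime p) ∧
        Good (H ⧸ M)) :
    ∀ n : ℕ, ∀ (H : Type u) [Group H] [Finite H], Nat.card H ≤ n → Good H →
      (∀ χ : IrrCharacter H, ¬ p ∣ charDegree (χ : H → ℂ)) →
      ∃ P : Sylow p H, (P : Subgroup H).Normal := by
  intro n
  induction n with
  | zero =>
    intro H _ _ hn
    exact absurd hn (by have := Nat.card_pos (α := H); omega)
  | succ n ih =>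
    intro H _ _ hn hG h
    rcases subsingleton_or_nontrivial H with hs | hnt
    · refine ⟨default, ?_⟩
      constructor
      intro a ha b
      have e : b * a * b⁻¹ = a := Subsingleton.elim _ _
      rw [e]
      exact ha
    · obtain ⟨M, hMn, hM1, hMp, hquot⟩ := hGood H hG
      have hp : p.Prime := Fact.out
      have hcardM : 2 ≤ Nat.card M := by
        have h1 : Nat.card M ≠ 1 := fun h1 => hM1 (Subgroup.card_eq_one.mp h1)
        have h2 := Nat.card_pos (α := M)
        omega
      have hcard : Nat.card H = Nat.card M * Nat.card (H ⧸ M) := by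
        rw [← Subgroup.index_eq_card]
        exact (Subgroup.card_mul_index M).symm
      have hq : Nat.card (H ⧸ M) ≤ n := by
        have hpos := Nat.card_pos (α := H ⧸ M)
        nlinarith
      obtain ⟨Pbar, hPbar⟩ := ih (H ⧸ M) hq hquot (hyp_quotient p M h)
      set K : Subgroup H := (Pbar : Subgroup (H ⧸ M)).comap (QuotientGroup.mk' M) with hK
      have hKn : K.Normal := hPbar.comap _
      have hMK : M ≤ K := by
        intro x hx
        show (QuotientGroup.mk' M x) ∈ (Pbar : Subgroup (H ⧸ M))
        have e : QuotientGroup.mk' M x = 1 := (QuotientGroup.eq_one_iff x).mpr hx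
        rw [e]
        exact Subgroup.one_mem _
      have hKidx : K.index = (Pbar : Subgroup (H ⧸ M)).index :=
        Subgroup.index_comap_of_surjective _ (QuotientGroup.mk'_surjective M)
      have hKp : ¬ p ∣ K.index := by
        rw [hKidx]
        exact Pbar.not_dvd_index
      rcases hMp with hMp | hMp
      · -- `M` is a `p`-group, so `K` is one
        have hKpg : IsPGroup p K := by
          intro ⟨x, hx⟩
          obtain ⟨a, ha⟩ := Pbar.isPGroup' ⟨QuotientGroup.mk' M x, hx⟩
          have hxa : x ^ (p ^ a) ∈ M := by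
            rw [← QuotientGroup.eq_one_iff]
            have h1 := congrArg Subtype.val ha
            simpa using h1
          obtain ⟨b, hb⟩ := hMp ⟨x ^ (p ^ a), hxa⟩
          refine ⟨a + b, ?_⟩
          apply Subtype.ext
          have h1 := congrArg Subtype.val hb
          simp only [Subgroup.coe_pow, Subgroup.coe_one] at h1 ⊢
          rw [pow_add, pow_mul]
          exact h1
        refine ⟨hKpg.toSylow hKp, ?_⟩
        rw [IsPGroup.toSylow_coe]
        exact hKn
      · -- `M` is a `p'`-group
        have hKdeg : ∀ θ : IrrCharacter K, ¬ p ∣ charDegree (θ : K → ℂ) :=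
          fun θ => (hyp_normal p K hKn h θ).1
        have hM'cop : (Nat.card (M.subgroupOf K)).Coprime p := by
          rw [Nat.card_congr (Subgroup.subgroupOfEquivOfLe hMK).toEquiv]
          exact hMp
        have hM'idx : ∃ a, (M.subgroupOf K).index = p ^ a := by
          obtain ⟨a, ha⟩ := IsPGroup.iff_card.mp Pbar.isPGroup'
          refine ⟨a, ?_⟩
          show M.relIndex K = p ^ a
          have h1 : M.relIndex K * K.index = M.index := Subgroup.relIndex_mul_index hMK
          have h2 : M.index
              = Nat.card (Pbar : Subgroup (H ⧸ M)) * (Pbar : Subgroup (H ⧸ M)).index := by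
            rw [Subgroup.index_eq_card, Subgroup.card_mul_index]
          rw [h2, hKidx, ha] at h1
          exact Nat.eq_of_mul_eq_mul_right
            (Nat.pos_of_ne_zero Subgroup.index_ne_zero_of_finite) h1
        obtain ⟨a, ha⟩ := hM'idx
        have Q : Sylow p K := default
        have hQn : (Q : Subgroup K).Normal :=
          sylow_normal_of_coprime p (M.subgroupOf K) hM'cop a ha hKdeg Q
        have hQchar : (Q : Subgroup K).Characteristic := Sylow.characteristic_of_normal Q hQn
        have hPn : ((Q : Subgroup K).map K.subtype).Normal := inferInstance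
        have hPp : IsPGroup p ((Q : Subgroup K).map K.subtype) := Q.isPGroup'.map K.subtype
        have hPidx : ¬ p ∣ ((Q : Subgroup K).map K.subtype).index := by
          rw [Subgroup.index_map_subtype]
          intro hd
          rcases hp.dvd_mul.mp hd with hd | hd
          · exact Q.not_dvd_index hd
          · exact hKp hd
        refine ⟨hPp.toSylow hPidx, ?_⟩
        rw [IsPGroup.toSylow_coe]
        exact hPn

/-- A normal Sylow `p`-subgroup of a group all of whose irreducible characters have degree prime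
to `p` is abelian. -/
theorem comm_of_normal_sylow [Finite G] (p : ℕ) [Fact p.Prime]
    (h : ∀ χ : IrrCharacter G, ¬ p ∣ charDegree (χ : G → ℂ)) (P : Sylow p G)
    (hP : (P : Subgroup G).Normal) : ∀ a ∈ P, ∀ b ∈ P, a * b = b * a := by
  intro a ha b hb
  have h1 := comm_of_isPGroup (G := (P : Subgroup G)) p P.isPGroup'
    (fun θ => (hyp_normal p (P : Subgroup G) hP h θ).1) ⟨a, ha⟩ ⟨b, hb⟩
  exact congrArg Subtype.val h1

/-- Converse of Ito's theorem for a class `Good` of groups as in `exists_normal_sylow_aux`. -/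
theorem exists_normal_abelian_sylow (p : ℕ) [Fact p.Prime] (Good : ∀ (H : Type u) [Group H], Prop)
    (hGood : ∀ (H : Type u) [Group H] [Finite H] [Nontrivial H], Good H →
      ∃ M : Subgroup H, ∃ _ : M.Normal, M ≠ ⊥ ∧ (IsPGroup p M ∨ (Nat.card M).Coprime p) ∧
        Good (H ⧸ M))
    [Finite G] (hG : Good G) (h : ∀ χ : IrrCharacter G, ¬ p ∣ charDegree (χ : G → ℂ)) :
    ∃ P : Sylow p G, (P : Subgroup G).Normal ∧ ∀ a ∈ P, ∀ b ∈ P, a * b = b * a := by
  obtain ⟨P, hP⟩ := exists_normal_sylow_aux p Good hGood (Nat.card G) G le_rfl hG h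
  exact ⟨P, hP, comm_of_normal_sylow p h P hP⟩

/-- Solvable groups form a good class. -/
theorem good_solvable (p : ℕ) [Fact p.Prime] (H : Type u) [Group H] [Finite H] [Nontrivial H]
    (hs : Group.IsSolvable H) :
    ∃ M : Subgroup H, ∃ _ : M.Normal, M ≠ ⊥ ∧ (IsPGroup p M ∨ (Nat.card M).Coprime p) ∧
      Group.IsSolvable (H ⧸ M) := by
  have hp : p.Prime := Fact.out
  have := hs
  obtain ⟨r, N, hr, -, hNn, hN1, hNr, -⟩ :=
    Cfsg.Agent.Lib.Helper9.CS2.exists_abelian_normal_pgroup_le (⊤ : Subgroup H) top_ne_bot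
  refine ⟨N, hNn, hN1, ?_, inferInstance⟩
  by_cases hrp : r = p
  · left
    rw [← hrp]
    exact hNr
  · right
    have := Fact.mk hr
    obtain ⟨k, hk⟩ := IsPGroup.iff_card.mp hNr
    rw [hk]
    exact Nat.Coprime.pow_left k ((Nat.coprime_primes hr hp).mpr hrp)

/-- `p`-solvable groups form a good class. -/
theorem good_pSolvable (p : ℕ) [Fact p.Prime] (H : Type u) [Group H] [Finite H] [Nontrivial H]
    (hs : Cfsg.IsPSolvable p H) :
    ∃ M : Subgroup H, ∃ _ : M.Normal, M ≠ ⊥ ∧ (IsPGroup p M ∨ (Nat.card M).Coprime p) ∧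
      Cfsg.IsPSolvable p (H ⧸ M) := by
  obtain ⟨M, hMn, hM1, hMp⟩ := Cfsg.Agent.S4601.exists_normal_of_isPSolvable p hs
  exact ⟨M, hMn, hM1, hMp, Cfsg.Agent.Lib.Helper76.PSolv.isPSolvable_quotient p M hs⟩

/-- Converse of Ito's theorem for solvable groups. -/
theorem ito_conv_solvable [Finite G] (hs : Group.IsSolvable G) (p : ℕ) [Fact p.Prime]
    (h : ∀ χ : IrrCharacter G, ¬ p ∣ charDegree (χ : G → ℂ)) :
    ∃ P : Sylow p G, (P : Subgroup G).Normal ∧ ∀ a ∈ P, ∀ b ∈ P, a * b = b * a :=
  exists_normal_abelian_sylow p (fun H _ => Group.IsSolvable H)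
    (fun H _ _ _ hH => good_solvable p H hH) hs h

/-- Converse of Ito's theorem for `p`-solvable groups. -/
theorem ito_conv_pSolvable [Finite G] (p : ℕ) [Fact p.Prime] (hs : Cfsg.IsPSolvable p G)
    (h : ∀ χ : IrrCharacter G, ¬ p ∣ charDegree (χ : G → ℂ)) :
    ∃ P : Sylow p G, (P : Subgroup G).Normal ∧ ∀ a ∈ P, ∀ b ∈ P, a * b = b * a :=
  exists_normal_abelian_sylow p (fun H _ => Cfsg.IsPSolvable p H)
    (fun H _ _ _ hH => good_pSolvable p H hH) hs h

end Cfsg.Agent.Lib.Helper80.ItoConv
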