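import Mathlib
import Cfsg.Prelude.Def_Characters
import Cfsg.Agent.S4604
import Cfsg.Agent.Lib.CT.Ops
import Cfsg.Agent.Lib.CT.Orth
import Cfsg.Agent.Lib.CT.FrobRec
import Cfsg.Agent.Lib.CT.Wedderburn
import Cfsg.Agent.Lib.Helper3.BrauerGlobal
import Cfsg.Agent.Lib.Helper80.BrauerSuzuki

/-!
# Class functions with algebraic-integer coefficients (Isaacs 8.19 style)

* `isIntegral_classInner_of_elementary`: if all "elementary" inner products
  `[ψ · ϑ|E, ξ]_E` are algebraic integers, then so is `[ϑ, χ]_G` for every character `χ`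
  (Brauer's induction theorem).
* `PowHyp`: the `n`-part power map on a group where it is multiplicative (e.g. elementary
  groups), with the resulting decomposition `E = ker × range`.
* `isIntegral_elem`, `isIntegral_classInner_indicator`: the class function equal to `n` on the
  elements whose `n`-part is conjugate to `g` and `0` elsewhere has algebraic-integer
  coefficients.
-/

set_option autoImplicit false

namespace Cfsg.Agent.Lib.Helper80.RBrauer

open Cfsg Cfsg.Agent.Lib.Helper80.BrauerSuzuki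
open scoped ComplexConjugate

universe u

/-! ### Reduction to elementary subgroups -/

theorem isIntegral_classInner_mul_of_mem {G : Type u} [Group G] [Fintype G] (ϑ : G → ℂ)
    (hϑ : IsClassFunction G ϑ)
    (hE : ∀ (E : Subgroup G) [Fintype E] (p : ℕ), p.Prime → IsElementary p E →
      ∀ ψ ξ : E → ℂ, IsCharacter E ψ → IsCharacter E ξ →
        IsIntegral ℤ (classInner (fun y : E => ψ y * ϑ y) ξ))
    {f : G → ℂ} (hf : f ∈ Cfsg.Agent.Lib.Helper3.BrauerGlobal.elemSpanAll G)
    (χ : G → ℂ) (hχ : IsCharacter G χ) : IsIntegral ℤ (classInner (f * ϑ) χ) := by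
  classical
  refine AddSubgroup.closure_induction
    (p := fun f _ => IsIntegral ℤ (classInner (f * ϑ) χ)) ?_ ?_ ?_ ?_ hf
  · rintro f ⟨E, ψ, ⟨p, hp, hEl⟩, hψ, rfl⟩
    rw [← Cfsg.Agent.Lib.CT.FrobRec.indFun_mul_classFunction E ψ ϑ hϑ,
      Cfsg.Agent.Lib.CT.FrobRec.frobenius_reciprocity E _ χ
        (Cfsg.Agent.Lib.CT.Wedderburn.char_isClassFunction hχ)]
    exact hE E p hp hEl ψ _ hψ (Cfsg.Agent.Lib.CT.Ops.isCharacter_restrict E hχ)
  · have : classInner ((0 : G → ℂ) * ϑ) χ = 0 := by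
      unfold classInner
      simp
    rw [this]; exact isIntegral_zero
  · intro x y _ _ hx hy
    have : classInner ((x + y) * ϑ) χ = classInner (x * ϑ) χ + classInner (y * ϑ) χ := by
      unfold classInner
      rw [← mul_add, ← Finset.sum_add_distrib]
      congr 1
      refine Finset.sum_congr rfl fun g _ => ?_
      simp only [Pi.mul_apply, Pi.add_apply]; ring
    rw [this]; exact IsIntegral.add hx hy
  · intro x _ hx
    have : classInner ((-x) * ϑ) χ = - classInner (x * ϑ) χ := by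
      unfold classInner
      rw [← mul_neg, ← Finset.sum_neg_distrib]
      congr 1
      refine Finset.sum_congr rfl fun g _ => ?_
      simp only [Pi.mul_apply, Pi.neg_apply]; ring
    rw [this]; exact IsIntegral.neg hx

/-- If all elementary inner products of a class function `ϑ` are algebraic integers, so are its
inner products with the characters of `G`. -/
theorem isIntegral_classInner_of_elementary {G : Type u} [Group G] [Fintype G] (ϑ : G → ℂ)
    (hϑ : IsClassFunction G ϑ)
    (hE : ∀ (E : Subgroup G) [Fintype E] (p : ℕ), p.Prime → IsElementary p E →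
      ∀ ψ ξ : E → ℂ, IsCharacter E ψ → IsCharacter E ξ →
        IsIntegral ℤ (classInner (fun y : E => ψ y * ϑ y) ξ))
    (χ : G → ℂ) (hχ : IsCharacter G χ) : IsIntegral ℤ (classInner ϑ χ) := by
  have h1 := isIntegral_classInner_mul_of_mem ϑ hϑ hE
    Cfsg.Agent.Lib.Helper3.BrauerGlobal.one_mem_elemSpanAll χ hχ
  have h2 : (fun _ : G => (1 : ℂ)) * ϑ = ϑ := by
    funext g
    simp
  rwa [h2] at h1

/-! ### The `n`-part power map -/

/-- The `n`-part power map `y ↦ y ^ e` is multiplicative on `E`. -/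
structure PowHyp (E : Type*) [Group E] (n m e : ℕ) : Prop where
  cop : Nat.Coprime n m
  card : Nat.card E ∣ n * m
  e1 : e ≡ 1 [MOD n]
  e0 : e ≡ 0 [MOD m]
  mul : ∀ a b : E, (a * b) ^ e = a ^ e * b ^ e

section Pow

variable {E : Type*} [Group E] {n m e : ℕ}

theorem PowHyp.of_elementary [Finite E] (p : ℕ) (hp : p.Prime) (hE : IsElementary p E)
    (hcop : Nat.Coprime n m) (hcard : Nat.card E ∣ n * m) (he1 : e ≡ 1 [MOD n])
    (he0 : e ≡ 0 [MOD m]) : PowHyp E n m e :=
  ⟨hcop, hcard, he1, he0, pow_mul_of_elementary p hp hE n m e hcop hcard he1 he0⟩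

/-- The power map as a homomorphism. -/
def PowHyp.hom (h : PowHyp E n m e) : E →* E where
  toFun y := y ^ e
  map_one' := one_pow e
  map_mul' := h.mul

theorem PowHyp.hom_apply (h : PowHyp E n m e) (y : E) : h.hom y = y ^ e := rfl

theorem PowHyp.pow_pow [Finite E] (h : PowHyp E n m e) (y : E) : (y ^ e) ^ n = 1 := by
  obtain ⟨t, ht⟩ := (Nat.modEq_zero_iff_dvd).1 h.e0
  have h1 : y ^ (n * m) = 1 :=
    orderOf_dvd_iff_pow_eq_one.1 ((orderOf_dvd_natCard y).trans h.card)
  rw [← pow_mul, ht, mul_comm, ← mul_assoc, pow_mul, h1, one_pow]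

theorem PowHyp.pow_eq_self (h : PowHyp E n m e) {y : E} (hy : y ^ n = 1) : y ^ e = y := by
  have h1 : e ≡ 1 [MOD orderOf y] := h.e1.of_dvd (orderOf_dvd_of_pow_eq_one hy)
  have := pow_eq_pow_iff_modEq.2 h1
  rwa [pow_one] at this

theorem PowHyp.hom_hom [Finite E] (h : PowHyp E n m e) (y : E) : h.hom (h.hom y) = h.hom y :=
  h.pow_eq_self (h.pow_pow y)

theorem PowHyp.hom_of_mem_range [Finite E] (h : PowHyp E n m e) {b : E} (hb : b ∈ h.hom.range) :
    h.hom b = b := by
  obtain ⟨y, rfl⟩ := hb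
  exact h.hom_hom y

theorem PowHyp.commute [Finite E] (h : PowHyp E n m e) {a : E} (ha : a ∈ h.hom.ker) {b : E}
    (hb : b ∈ h.hom.range) : Commute a b := by
  have h1 : h.hom (a * b) = b := by
    rw [map_mul, MonoidHom.mem_ker.1 ha, one_mul, h.hom_of_mem_range hb]
  have h2 : Commute (a * b) ((a * b) ^ e) := (Commute.refl (a * b)).pow_right e
  rw [← h.hom_apply, h1] at h2
  have h3 : a * b * b = b * (a * b) := h2
  have h4 : a * b * b = b * a * b := by rw [h3, mul_assoc]
  exact mul_right_cancel h4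

theorem PowHyp.bijective [Finite E] (h : PowHyp E n m e) :
    Function.Bijective (fun x : h.hom.ker × h.hom.range => (x.1 : E) * (x.2 : E)) := by
  constructor
  · rintro ⟨a, b⟩ ⟨a', b'⟩ hab
    have hab' : (a : E) * (b : E) = (a' : E) * (b' : E) := hab
    have h1 : h.hom ((a : E) * (b : E)) = (b : E) := by
      rw [map_mul, MonoidHom.mem_ker.1 a.2, one_mul, h.hom_of_mem_range b.2]
    have h2 : h.hom ((a' : E) * (b' : E)) = (b' : E) := by
      rw [map_mul, MonoidHom.mem_ker.1 a'.2, one_mul, h.hom_of_mem_range b'.2]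
    have h3 : (b : E) = (b' : E) := by rw [← h1, ← h2, hab']
    have h4 : (a : E) = (a' : E) := by
      rw [h3] at hab'
      exact mul_right_cancel hab'
    exact Prod.ext (Subtype.ext h4) (Subtype.ext h3)
  · intro y
    refine ⟨⟨⟨y * (h.hom y)⁻¹, ?_⟩, ⟨h.hom y, ⟨y, rfl⟩⟩⟩, ?_⟩
    · rw [MonoidHom.mem_ker, map_mul, map_inv, h.hom_hom, mul_inv_cancel]
    · show y * (h.hom y)⁻¹ * h.hom y = y
      rw [inv_mul_cancel_right]

theorem PowHyp.card_eq [Finite E] (h : PowHyp E n m e) :
    Nat.card E = Nat.card h.hom.ker * Nat.card h.hom.range := by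
  rw [← Nat.card_prod]
  exact (Nat.card_congr (Equiv.ofBijective _ h.bijective)).symm

theorem PowHyp.card_range_dvd [Finite E] (h : PowHyp E n m e) : Nat.card h.hom.range ∣ n := by
  have h1 : Nat.Coprime (Nat.card h.hom.range) m := by
    by_contra hcon
    obtain ⟨q, hq, hqA, hqm⟩ := Nat.Prime.not_coprime_iff_dvd.1 hcon
    have : Fact q.Prime := ⟨hq⟩
    obtain ⟨a, ha⟩ := exists_prime_orderOf_dvd_card' q hqA
    have h2 : orderOf (a : E) ∣ n := by
      apply orderOf_dvd_of_pow_eq_one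
      obtain ⟨y, hy⟩ := a.2
      rw [← hy]
      exact h.pow_pow y
    rw [Subgroup.orderOf_coe, ha] at h2
    have h3 := Nat.dvd_gcd h2 hqm
    rw [Nat.Coprime.gcd_eq_one h.cop] at h3
    exact hq.one_lt.ne' (Nat.dvd_one.1 h3)
  have h2 : Nat.card h.hom.range ∣ n * m := (Subgroup.card_subgroup_dvd_card _).trans h.card
  exact h1.dvd_of_dvd_mul_right h2

end Pow

/-! ### The elementary case -/

open Classical in
/-- The function equal to `n` on the elements whose `n`-part `x ^ e` is conjugate to `g` and `0`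
elsewhere. -/
noncomputable def ind {G : Type u} [Group G] (g : G) (n e : ℕ) : G → ℂ :=
  fun x => if IsConj (x ^ e) g then (n : ℂ) else 0

theorem ind_of_isConj {G : Type u} [Group G] (g : G) (n e : ℕ) {x : G} (h : IsConj (x ^ e) g) :
    ind g n e x = n := by
  unfold ind
  rw [if_pos h]

theorem ind_of_not_isConj {G : Type u} [Group G] (g : G) (n e : ℕ) {x : G}
    (h : ¬ IsConj (x ^ e) g) : ind g n e x = 0 := by
  unfold ind
  rw [if_neg h]

theorem ind_isClassFunction {G : Type u} [Group G] (g : G) (n e : ℕ) :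
    IsClassFunction G (ind g n e) := by
  intro x y
  have h1 : IsConj ((y * x * y⁻¹) ^ e) g ↔ IsConj (x ^ e) g := by
    rw [conj_pow]
    constructor
    · intro h
      exact (isConj_iff.2 ⟨y, rfl⟩ : IsConj (x ^ e) (y * x ^ e * y⁻¹)).trans h
    · intro h
      exact (isConj_iff.2 ⟨y, rfl⟩ : IsConj (x ^ e) (y * x ^ e * y⁻¹)).symm.trans h
  by_cases hc : IsConj (x ^ e) g
  · rw [ind_of_isConj g n e hc, ind_of_isConj g n e (h1.2 hc)]
  · rw [ind_of_not_isConj g n e hc, ind_of_not_isConj g n e (fun h => hc (h1.1 h))]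

/-- On an elementary subgroup `E`, the inner products of the `n`-part indicator function with
characters are algebraic integers. -/
theorem isIntegral_elem {G : Type u} [Group G] [Finite G] (n m e : ℕ) (hcop : Nat.Coprime n m)
    (hcard : Nat.card G = n * m) (he1 : e ≡ 1 [MOD n]) (he0 : e ≡ 0 [MOD m]) (g : G)
    (E : Subgroup G) [Fintype E] (p : ℕ) (hp : p.Prime) (hE : IsElementary p E)
    (η : E → ℂ) (hη : IsCharacter E η) :
    IsIntegral ℤ ((Nat.card E : ℂ)⁻¹ * ∑ y : E, ind g n e (y : G) * η y) := by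
  classical
  have h : PowHyp E n m e := PowHyp.of_elementary p hp hE hcop
    (hcard ▸ Subgroup.card_subgroup_dvd_card E) he1 he0
  have := Fintype.ofFinite h.hom.ker
  have := Fintype.ofFinite h.hom.range
  set F : E → ℂ := fun y => ind g n e (y : G) * η y with hF
  have h1 : ∑ y : E, F y = ∑ x : h.hom.ker × h.hom.range, F ((x.1 : E) * (x.2 : E)) :=
    (Function.Bijective.sum_comp h.bijective F).symm
  rw [h1, Fintype.sum_prod_type_right]
  have hA0 : (Nat.card h.hom.ker : ℂ) ≠ 0 := Nat.cast_ne_zero.mpr Nat.card_pos.ne'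
  have hB0 : (Nat.card h.hom.range : ℂ) ≠ 0 := Nat.cast_ne_zero.mpr Nat.card_pos.ne'
  have hT : ∀ b : h.hom.range, IsIntegral ℤ ((Nat.card h.hom.ker : ℂ)⁻¹ *
      ∑ a : h.hom.ker, η ((b : E) * (a : E))) := fun b =>
    Cfsg.Agent.S4604.isIntegral_avg hη (b : E) h.hom.ker
      (fun q hq => (h.commute hq b.2).symm)
  have h2 : ∀ b : h.hom.range, ∑ a : h.hom.ker, F ((a : E) * (b : E)) =
      ind g n e ((b : E) : G) *
        ((Nat.card h.hom.ker : ℂ) * ((Nat.card h.hom.ker : ℂ)⁻¹ *
          ∑ a : h.hom.ker, η ((b : E) * (a : E)))) := by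
    intro b
    rw [← mul_assoc (Nat.card h.hom.ker : ℂ), mul_inv_cancel₀ hA0, one_mul, Finset.mul_sum]
    refine Finset.sum_congr rfl fun a _ => ?_
    have h3 : ((((a : E) * (b : E) : E) : G)) ^ e = ((b : E) : G) := by
      rw [← Subgroup.coe_pow, ← h.hom_apply, map_mul, MonoidHom.mem_ker.1 a.2, one_mul,
        h.hom_of_mem_range b.2]
    have h5 : ((b : E) : G) ^ e = ((b : E) : G) := by
      rw [← Subgroup.coe_pow, ← h.hom_apply, h.hom_of_mem_range b.2]
    have h6 : ind g n e ((((a : E) * (b : E) : E) : G)) = ind g n e ((b : E) : G) := by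
      unfold ind
      rw [h3, h5]
    show ind g n e ((((a : E) * (b : E) : E) : G)) * η ((a : E) * (b : E)) = _
    rw [h6, (h.commute a.2 b.2).eq]
  obtain ⟨k, hk⟩ := h.card_range_dvd
  rw [Finset.mul_sum]
  refine IsIntegral.sum _ fun b _ => ?_
  rw [h2 b]
  by_cases hc : IsConj (((b : E) : G) ^ e) g
  · rw [ind_of_isConj g n e hc]
    have h4 : (Nat.card E : ℂ)⁻¹ * ((n : ℂ) * ((Nat.card h.hom.ker : ℂ) *
        ((Nat.card h.hom.ker : ℂ)⁻¹ * ∑ a : h.hom.ker, η ((b : E) * (a : E))))) =
        (k : ℂ) * ((Nat.card h.hom.ker : ℂ)⁻¹ * ∑ a : h.hom.ker, η ((b : E) * (a : E))) := by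
      have hk' : (n : ℂ) = (Nat.card h.hom.range : ℂ) * (k : ℂ) := by exact_mod_cast hk
      rw [h.card_eq, hk']
      push_cast
      field_simp
    rw [h4]
    refine IsIntegral.mul ?_ (hT b)
    have h7 := isIntegral_algebraMap (R := ℤ) (A := ℂ) (x := (k : ℤ))
    simpa using h7
  · rw [ind_of_not_isConj g n e hc, zero_mul, mul_zero]; exact isIntegral_zero

/-- The class function equal to `n` on the elements whose `n`-part `x ^ e` is conjugate to `g`
and `0` elsewhere has algebraic-integer inner products with all characters. -/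
theorem isIntegral_classInner_ind {G : Type u} [Group G] [Fintype G] (n m e : ℕ)
    (hcop : Nat.Coprime n m) (hcard : Nat.card G = n * m) (he1 : e ≡ 1 [MOD n])
    (he0 : e ≡ 0 [MOD m]) (g : G) (χ : G → ℂ) (hχ : IsCharacter G χ) :
    IsIntegral ℤ (classInner (ind g n e) χ) := by
  apply isIntegral_classInner_of_elementary _ (ind_isClassFunction g n e) _ χ hχ
  intro E _ p hp hE ψ ξ hψ hξ
  have hη : IsCharacter E (ψ * fun y => ξ y⁻¹) :=
    Cfsg.Agent.Lib.CT.Ops.isCharacter_mul hψ (Cfsg.Agent.Lib.CT.Ops.isCharacter_inv_arg hξ)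
  have h1 := isIntegral_elem n m e hcop hcard he1 he0 g E p hp hE _ hη
  have h2 : classInner (fun y : E => ψ y * ind g n e (y : G)) ξ =
      (Nat.card E : ℂ)⁻¹ * ∑ y : E, ind g n e (y : G) * (ψ * fun y => ξ y⁻¹) y := by
    unfold classInner
    congr 1
    refine Finset.sum_congr rfl fun y _ => ?_
    rw [Pi.mul_apply, Cfsg.Agent.Lib.CT.Wedderburn.char_apply_inv hξ y]
    ring
  rw [h2]; exact h1

/-- The unique decomposition `x = u * v` into commuting parts of orders prime to `n` and to `m`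
has `v = x ^ e`. -/
theorem exists_decomp_iff {G : Type u} [Group G] [Finite G] (n m e : ℕ) (hcop : Nat.Coprime n m)
    (hcard : Nat.card G = n * m) (he1 : e ≡ 1 [MOD n]) (he0 : e ≡ 0 [MOD m]) (g x : G) :
    (∃ v : G, IsConj v g ∧ (∃ u : G, x = u * v ∧ Commute u v ∧ Nat.Coprime (orderOf u) n ∧
      Nat.Coprime (orderOf v) m)) ↔ IsConj (x ^ e) g := by
  have hme : m ∣ e := (Nat.modEq_zero_iff_dvd).1 he0
  constructor
  · rintro ⟨v, hv, u, rfl, huv, hu, hv2⟩
    have h1 : orderOf u ∣ m := by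
      have : orderOf u ∣ n * m := hcard ▸ orderOf_dvd_natCard u
      exact hu.dvd_of_dvd_mul_left this
    have h2 : orderOf v ∣ n := by
      have : orderOf v ∣ n * m := hcard ▸ orderOf_dvd_natCard v
      exact hv2.dvd_of_dvd_mul_right this
    have h3 : u ^ e = 1 := orderOf_dvd_iff_pow_eq_one.1 (h1.trans hme)
    have h4 : v ^ e = v := by
      have := pow_eq_pow_iff_modEq.2 (he1.of_dvd h2)
      rwa [pow_one] at this
    rw [huv.mul_pow, h3, h4, one_mul]
    exact hv
  · intro h
    have hx : Commute x (x ^ e) := (Commute.refl x).pow_right e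
    have hnm : x ^ (n * m) = 1 := by
      rw [← hcard]; exact pow_card_eq_one'
    refine ⟨x ^ e, h, x * (x ^ e)⁻¹, by rw [inv_mul_cancel_right], ?_, ?_, ?_⟩
    · exact Commute.mul_left hx (Commute.inv_left (Commute.refl _))
    · have h1 : (x * (x ^ e)⁻¹) ^ m = 1 := by
        rw [(hx.inv_right).mul_pow, inv_pow, ← pow_mul]
        have h2 : e * m ≡ 1 * m [MOD n * m] := Nat.ModEq.mul_right' m he1
        have h3 : x ^ (e * m) = x ^ (1 * m) :=
          pow_eq_pow_iff_modEq.2 (h2.of_dvd (orderOf_dvd_of_pow_eq_one hnm))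
        rw [h3, one_mul, mul_inv_cancel]
      exact Nat.Coprime.coprime_dvd_left (orderOf_dvd_of_pow_eq_one h1) hcop.symm
    · have h1 : (x ^ e) ^ n = 1 := by
        obtain ⟨t, ht⟩ := hme
        rw [← pow_mul, ht, mul_comm, ← mul_assoc, pow_mul, hnm, one_pow]
      exact Nat.Coprime.coprime_dvd_left (orderOf_dvd_of_pow_eq_one h1) hcop

end Cfsg.Agent.Lib.Helper80.RBrauer
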