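import Mathlib
import Cfsg.Agent.Lib.Helper80.IndDeg
import Cfsg.Agent.Lib.Helper80.Restrict
import Cfsg.Agent.Lib.CT.Kernel
import Cfsg.Agent.S0187

/-!
Groups with a trivial-intersection Sylow `p`-subgroup `P` that is not normal have an irreducible
character of degree at least `|P|`; consequently a finite group all of whose irreducible
characters have degree less than `p` has a normal abelian Sylow `p`-subgroup.
Namespace `Cfsg.Agent.Lib.Helper80.TISylow`.
-/

set_option autoImplicit false

namespace Cfsg.Agent.Lib.Helper80.TISylow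

open Cfsg Cfsg.Agent.Lib.Helper80.Integrality Cfsg.Agent.Lib.Helper80.Restrict
open Cfsg.Agent.Lib.CT.Wedderburn Cfsg.Agent.Lib.CT.Orth
open Cfsg.Agent.Lib.CT.FrobRec Cfsg.Agent.Lib.CT.IndChar
open Cfsg.Agent.Lib.CT.Clifford Cfsg.Agent.Lib.CT.Ops
open scoped ComplexConjugate

universe u
variable {G : Type u} [Group G]

/-- Every irreducible character of a subgroup has degree at most that of some irreducible
character of the group. -/
theorem exists_charDegree_ge [Finite G] (H : Subgroup G) (ψ : IrrCharacter H) :
    ∃ χ : IrrCharacter G, charDegree (ψ : H → ℂ) ≤ charDegree (χ : G → ℂ) := by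
  classical
  have := Fintype.ofFinite G
  have := Fintype.ofFinite H
  have := finite_irrCharacter H
  have := Fintype.ofFinite (IrrCharacter H)
  have hψc : IsCharacter H (ψ : H → ℂ) := isCharacter_of_irr ψ.2
  have hpos := charDegree_pos ψ
  have hidx : H.index ≠ 0 := Subgroup.index_ne_zero_of_finite
  obtain ⟨χ, hχ, -⟩ := Cfsg.Agent.Lib.Helper80.IndDeg.exists_constituent_not_dvd H (ψ : H → ℂ) hψc 0
    (by
      rw [zero_dvd_iff]
      exact Nat.mul_ne_zero hidx hpos.ne')
  refine ⟨χ, ?_⟩
  have hcon : classInner (fun n : H => (χ : G → ℂ) n) (ψ : H → ℂ) ≠ 0 := by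
    rw [classInner_conj_symm]
    simpa using hχ
  have hθ : IsCharacter H (fun h : H => (χ : G → ℂ) h) :=
    isCharacter_restrict H (isCharacter_of_irr χ.2)
  obtain ⟨m, hm1, -, hdeg, -⟩ := exists_mult hθ
  have h2 : charDegree (fun h : H => (χ : G → ℂ) h) = charDegree (χ : G → ℂ) := rfl
  rw [← h2, hdeg]
  have hmψ : m ψ ≠ 0 := by
    intro h0
    apply hcon
    rw [hm1 ψ, h0]
    simp
  calc charDegree (ψ : H → ℂ) ≤ m ψ * charDegree (ψ : H → ℂ) :=
        Nat.le_mul_of_pos_left _ (Nat.pos_of_ne_zero hmψ)
    _ ≤ ∑ ψ' : IrrCharacter H, m ψ' * charDegree (ψ' : H → ℂ) :=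
        Finset.single_le_sum (s := Finset.univ)
          (f := fun ψ' : IrrCharacter H => m ψ' * charDegree (ψ' : H → ℂ))
          (fun _ _ => Nat.zero_le _) (Finset.mem_univ ψ)

/-- The norm of the trivial character. -/
theorem classInner_one_one [Fintype G] :
    classInner (fun _ : G => (1 : ℂ)) (fun _ : G => (1 : ℂ)) = 1 := by
  have hG : (Nat.card G : ℂ) ≠ 0 := Nat.cast_ne_zero.mpr Nat.card_pos.ne'
  rw [classInner]
  simp only [map_one, mul_one, Finset.sum_const, Finset.card_univ, nsmul_eq_mul]
  rw [← Nat.card_eq_fintype_card, inv_mul_cancel₀ hG]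

/-- The multiplicity of the trivial character does not decrease under restriction. -/
theorem classInner_one_le_restrict [Fintype G] {θ : G → ℂ} (hθ : IsCharacter G θ)
    (Q : Subgroup G) [Fintype Q] (a b : ℕ)
    (ha : classInner θ (fun _ : G => (1 : ℂ)) = a)
    (hb : classInner (fun q : Q => θ q) (fun _ : Q => (1 : ℂ)) = b) : a ≤ b := by
  classical
  have := finite_irrCharacter G
  have := Fintype.ofFinite (IrrCharacter G)
  obtain ⟨m, hm1, hm2, -, -⟩ := exists_mult hθ
  have hk : ∀ ψ : IrrCharacter G, ∃ k : ℕ,
      classInner (fun q : Q => (ψ : G → ℂ) q) (fun _ : Q => (1 : ℂ)) = k := fun ψ =>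
    classInner_char_nat (isCharacter_restrict Q (isCharacter_of_irr ψ.2)) isCharacter_one
  choose k hk using hk
  let triv : IrrCharacter G := ⟨fun _ => 1, isIrrCharacter_one⟩
  have hat : m triv = a := by
    have h1 := hm1 triv
    rw [ha] at h1
    exact_mod_cast h1.symm
  have hkt : k triv = 1 := by
    have h1 := hk triv
    have h2 : (fun q : Q => (triv : G → ℂ) q) = fun _ : Q => (1 : ℂ) := rfl
    rw [h2, classInner_one_one] at h1
    exact_mod_cast h1.symm
  have hsum : (b : ℂ) = ((∑ ψ : IrrCharacter G, m ψ * k ψ : ℕ) : ℂ) := by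
    rw [← hb]
    have h1 : (fun q : Q => θ q)
        = ∑ ψ : IrrCharacter G, (m ψ : ℂ) • (fun q : Q => (ψ : G → ℂ) q) := by
      funext q
      rw [hm2 q, Finset.sum_apply]
      rfl
    rw [h1, classInner_sum_left]
    push_cast
    refine Finset.sum_congr rfl fun ψ _ => ?_
    rw [classInner_smul_left, hk ψ]
  have hsum' : b = ∑ ψ : IrrCharacter G, m ψ * k ψ := by exact_mod_cast hsum
  rw [hsum', ← hat]
  calc m triv = m triv * k triv := by rw [hkt, mul_one]
    _ ≤ ∑ ψ : IrrCharacter G, m ψ * k ψ :=
        Finset.single_le_sum (s := Finset.univ)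
          (f := fun ψ : IrrCharacter G => m ψ * k ψ)
          (fun _ _ => Nat.zero_le _) (Finset.mem_univ triv)

/-- A cyclic group generated by an element of `p`-power order is a `p`-group. -/
theorem isPGroup_zpowers (p : ℕ) (y : G) (k : ℕ) (hy : y ^ p ^ k = 1) :
    IsPGroup p (Subgroup.zpowers y) := by
  rintro ⟨z, hz⟩
  obtain ⟨i, rfl⟩ := Subgroup.mem_zpowers_iff.mp hz
  refine ⟨k, Subtype.ext ?_⟩
  simp only [Subgroup.coe_pow, Subgroup.coe_one]
  rw [← zpow_natCast, ← zpow_mul, mul_comm, zpow_mul, zpow_natCast, hy, one_zpow]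

/-- A `p`-element of the normalizer of a Sylow `p`-subgroup lies in it. -/
theorem mem_sylow_of_mem_normalizer (p : ℕ) [Fact p.Prime] (P : Sylow p G) (y : G)
    (hy : y ∈ Subgroup.normalizer ((P : Subgroup G) : Set G)) (k : ℕ) (hyk : y ^ p ^ k = 1) :
    y ∈ (P : Subgroup G) := by
  have h1 := (isPGroup_zpowers p y k hyk).inf_normalizer_sylow P
  have h2 : y ∈ Subgroup.zpowers y ⊓ (P : Subgroup G) := by
    rw [← h1]
    exact ⟨Subgroup.mem_zpowers y, hy⟩
  exact h2.2

/-- The permutation character on the Sylow `p`-subgroups takes the value `1` at the nontrivial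
elements of a trivial-intersection Sylow `p`-subgroup. -/
theorem indFun_one_apply [Fintype G] (p : ℕ) [Fact p.Prime] (P : Sylow p G)
    (hTI : ∀ g : G, g ∉ Subgroup.normalizer ((P : Subgroup G) : Set G) →
      ∀ x ∈ (P : Subgroup G), g⁻¹ * x * g ∈ (P : Subgroup G) → x = 1)
    (x : G) (hx : x ∈ (P : Subgroup G)) (hx1 : x ≠ 1) :
    indFun (Subgroup.normalizer ((P : Subgroup G) : Set G)) (fun _ => (1 : ℂ)) x = 1 := by
  classical
  set N := Subgroup.normalizer ((P : Subgroup G) : Set G) with hN
  obtain ⟨k, hk⟩ := P.isPGroup' ⟨x, hx⟩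
  have hk' : x ^ p ^ k = 1 := by
    have := congrArg Subtype.val hk
    simpa using this
  have h1 : ∀ g : G, extendByZero N (fun _ => (1 : ℂ)) (g⁻¹ * x * g)
      = if g ∈ N then 1 else 0 := by
    intro g
    by_cases hg : g ∈ N
    · rw [if_pos hg, extendByZero_apply_of_mem N _
        (N.mul_mem (N.mul_mem (N.inv_mem hg) (Subgroup.le_normalizer hx)) hg)]
    · rw [if_neg hg]
      apply extendByZero_apply_of_not_mem
      intro hmem
      have hpow : (g⁻¹ * x * g) ^ p ^ k = 1 := by
        have e : g⁻¹ * x * g = g⁻¹ * x * g⁻¹⁻¹ := by rw [inv_inv]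
        rw [e, conj_pow, hk']
        simp
      exact hx1 (hTI g hg x hx (mem_sylow_of_mem_normalizer p P _ hmem k hpow))
  rw [indFun_apply, Finset.sum_congr rfl (fun g _ => h1 g), Finset.sum_boole]
  have h2 : (Finset.univ.filter (fun g : G => g ∈ N)).card = Nat.card N := by
    rw [Nat.card_eq_fintype_card, Fintype.card_subtype]
  rw [h2]
  exact inv_mul_cancel₀ (Nat.cast_ne_zero.mpr Nat.card_pos.ne')

/-- If a Sylow `p`-subgroup `P` of `G` is a trivial-intersection subgroup and is not normal, then
some irreducible character of `G` has degree at least `|P|`. -/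
theorem exists_charDegree_ge_card [Finite G] (p : ℕ) [Fact p.Prime] (P : Sylow p G)
    (hTI : ∀ g : G, g ∉ Subgroup.normalizer ((P : Subgroup G) : Set G) →
      ∀ x ∈ (P : Subgroup G), g⁻¹ * x * g ∈ (P : Subgroup G) → x = 1)
    (hnn : Subgroup.normalizer ((P : Subgroup G) : Set G) ≠ ⊤) :
    ∃ χ : IrrCharacter G, Nat.card (P : Subgroup G) ≤ charDegree (χ : G → ℂ) := by
  classical
  by_contra hcon
  push Not at hcon
  have : Fintype G := Fintype.ofFinite G
  have := finite_irrCharacter G
  have : Fintype (IrrCharacter G) := Fintype.ofFinite (IrrCharacter G)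
  set N := Subgroup.normalizer ((P : Subgroup G) : Set G) with hN
  have : Fintype N := Fintype.ofFinite N
  set π : G → ℂ := indFun N (fun _ => (1 : ℂ)) with hπdef
  have hπ : IsCharacter G π := isCharacter_indFun N _ isCharacter_one
  have hπcf : IsClassFunction G π := indFun_isClassFunction N _
  obtain ⟨c, hc1, -, hc3, hc4⟩ := exists_mult hπ
  have hdeg : charDegree π = N.index := by
    rw [hπdef, Cfsg.Agent.Lib.Helper80.IndDeg.charDegree_indFun N _ isCharacter_one]
    have h1 : charDegree (fun _ : N => (1 : ℂ)) = 1 := by simp [charDegree]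
    rw [h1, mul_one]
  let triv : IrrCharacter G := ⟨fun _ => 1, isIrrCharacter_one⟩
  have hct : c triv = 1 := by
    have h1 := hc1 triv
    have h2 : classInner π (triv : G → ℂ) = 1 := by
      rw [hπdef, frobenius_reciprocity N _ _ (irr_isClassFunction triv)]
      exact classInner_one_one
    rw [h2] at h1
    exact_mod_cast h1.symm
  have hdt : charDegree (triv : G → ℂ) = 1 := by simp [charDegree, triv]
  -- the restriction of `π` to `N`
  have hθ : IsCharacter N (fun y : N => π y) := isCharacter_restrict N hπ
  obtain ⟨a, ha⟩ := classInner_char_nat hθ (isCharacter_one (G := N))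
  have hnorm : classInner π π = a := by
    have h1 : classInner π π = classInner (fun _ : N => (1 : ℂ)) (fun y : N => π y) :=
      frobenius_reciprocity N (fun _ => 1) π hπcf
    rw [h1, classInner_conj_symm, ha, Complex.conj_natCast]
  set Q : Subgroup N := (P : Subgroup G).subgroupOf N with hQ
  have : Fintype Q := Fintype.ofFinite Q
  obtain ⟨b, hb⟩ := classInner_char_nat (isCharacter_restrict Q hθ) (isCharacter_one (G := Q))
  have hab : a ≤ b := classInner_one_le_restrict hθ Q a b ha hb
  set q := Nat.card Q with hq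
  have hqP : q = Nat.card (P : Subgroup G) :=
    Nat.card_congr (Subgroup.subgroupOfEquivOfLe Subgroup.le_normalizer).toEquiv
  have hqpos : 0 < q := Nat.card_pos
  -- the value of the inner product over `Q`
  have hval : ∀ y : Q, π ((y : N) : G) = 1 + if y = 1 then ((N.index : ℂ) - 1) else 0 := by
    intro y
    by_cases hy : y = 1
    · rw [if_pos hy, hy]
      have h1 : π (((1 : Q) : N) : G) = (N.index : ℂ) * 1 := indFun_one N _
      rw [h1]
      ring
    · rw [if_neg hy, add_zero]
      apply indFun_one_apply p P hTI _ (Subgroup.mem_subgroupOf.mp y.2)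
      intro h1
      apply hy
      apply Subtype.ext
      apply Subtype.ext
      exact h1
  have hbq : b * q + 1 = q + N.index := by
    have h1 : (b : ℂ) = (q : ℂ)⁻¹ * ∑ y : Q, π ((y : N) : G) := by
      rw [← hb, classInner]
      congr 1
      exact Finset.sum_congr rfl fun y _ => by simp
    rw [Finset.sum_congr rfl (fun y _ => hval y), Finset.sum_add_distrib, Finset.sum_ite_eq'] at h1
    simp only [Finset.sum_const, Finset.card_univ, nsmul_eq_mul, mul_one, Finset.mem_univ,
      if_true] at h1
    rw [← Nat.card_eq_fintype_card, ← hq] at h1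
    have hq0 : (q : ℂ) ≠ 0 := Nat.cast_ne_zero.mpr hqpos.ne'
    have h2 : (b : ℂ) * q + 1 = q + N.index := by
      rw [h1]
      field_simp
      ring
    exact_mod_cast h2
  -- the arithmetic
  have hsq : ∑ χ : IrrCharacter G, c χ ^ 2 = a := by
    rw [hnorm] at hc4
    exact_mod_cast hc4.symm
  rw [hdeg] at hc3
  set S := ∑ χ ∈ Finset.univ.erase triv, c χ ^ 2 with hS
  set T := ∑ χ ∈ Finset.univ.erase triv, c χ * charDegree (χ : G → ℂ) with hT
  have h1 : 1 + S = a := by
    rw [← hsq, ← Finset.add_sum_erase Finset.univ (fun χ : IrrCharacter G => c χ ^ 2)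
      (Finset.mem_univ triv), hct, one_pow]
  have h2 : N.index = 1 + T := by
    rw [hc3, ← Finset.add_sum_erase Finset.univ
      (fun χ : IrrCharacter G => c χ * charDegree (χ : G → ℂ)) (Finset.mem_univ triv), hct, hdt]
  have h3 : T + S ≤ S * q := by
    rw [hT, hS, ← Finset.sum_add_distrib, Finset.sum_mul]
    refine Finset.sum_le_sum fun χ _ => ?_
    have h4 := hcon χ
    rw [← hqP] at h4
    have h5 : c χ ≤ c χ ^ 2 := Nat.le_self_pow (by norm_num) _
    calc c χ * charDegree (χ : G → ℂ) + c χ ^ 2
        ≤ c χ ^ 2 * charDegree (χ : G → ℂ) + c χ ^ 2 :=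
          Nat.add_le_add_right (Nat.mul_le_mul_right _ h5) _
      _ = c χ ^ 2 * (charDegree (χ : G → ℂ) + 1) := by ring
      _ ≤ c χ ^ 2 * q := Nat.mul_le_mul_left _ h4
  have h6 : (1 + S) * q ≤ b * q := Nat.mul_le_mul_right _ (h1 ▸ hab)
  have h7 : (1 + S) * q = q + S * q := by ring
  have hS0 : S = 0 := by omega
  have hT0 : T = 0 := by
    rw [hS0, zero_mul] at h3
    omega
  apply hnn
  rw [← Subgroup.index_eq_one, h2, hT0]

/-- The hypothesis "all irreducible degrees are less than `p`" passes to quotients. -/
theorem hyp_quotient (p : ℕ) (N : Subgroup G) [N.Normal]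
    (h : ∀ χ : IrrCharacter G, charDegree (χ : G → ℂ) < p) (ψ : IrrCharacter (G ⧸ N)) :
    charDegree (ψ : G ⧸ N → ℂ) < p := by
  have h1 := h ⟨fun g : G => (ψ : G ⧸ N → ℂ) (g : G ⧸ N),
    Cfsg.Agent.Lib.CT.Kernel.isIrrCharacter_inflation N ψ.2⟩
  exact h1

/-- The hypothesis "all irreducible degrees are less than `p`" passes to subgroups. -/
theorem hyp_subgroup [Finite G] (p : ℕ) (H : Subgroup G)
    (h : ∀ χ : IrrCharacter G, charDegree (χ : G → ℂ) < p) (ψ : IrrCharacter H) :
    charDegree (ψ : H → ℂ) < p := by
  obtain ⟨χ, hχ⟩ := exists_charDegree_ge H ψ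
  exact lt_of_le_of_lt hχ (h χ)

/-- A `p`-group all of whose irreducible characters have degree less than `p` is abelian. -/
theorem comm_of_isPGroup [Finite G] (p : ℕ) [Fact p.Prime] (hG : IsPGroup p G)
    (h : ∀ χ : IrrCharacter G, charDegree (χ : G → ℂ) < p) (a b : G) : a * b = b * a := by
  refine Cfsg.Agent.S0187.result.mpr (fun χ => ?_) a b
  rw [apply_one_eq_charDegree (isCharacter_of_irr χ.2)]
  obtain ⟨n, hn⟩ := IsPGroup.iff_card.mp hG
  have hd := charDegree_dvd_card χ
  rw [hn] at hd
  obtain ⟨k, -, hk⟩ := (Nat.dvd_prime_pow (Fact.out : p.Prime)).mp hd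
  have hk0 : k = 0 := by
    by_contra hk0
    have h1 := h χ
    rw [hk] at h1
    have h2 : p ^ 1 ≤ p ^ k :=
      Nat.pow_le_pow_right (Fact.out : p.Prime).pos (Nat.one_le_iff_ne_zero.mpr hk0)
    rw [pow_one] at h2
    omega
  rw [hk, hk0]
  simp

/-- The Sylow `p`-subgroups of a group all of whose irreducible characters have degree less than
`p` are abelian. -/
theorem comm_of_sylow [Finite G] (p : ℕ) [Fact p.Prime]
    (h : ∀ χ : IrrCharacter G, charDegree (χ : G → ℂ) < p) (P : Sylow p G) :
    ∀ a ∈ (P : Subgroup G), ∀ b ∈ (P : Subgroup G), a * b = b * a := by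
  intro a ha b hb
  have h1 := comm_of_isPGroup (G := (P : Subgroup G)) p P.isPGroup'
    (hyp_subgroup p (P : Subgroup G) h) ⟨a, ha⟩ ⟨b, hb⟩
  exact congrArg Subtype.val h1

/-- Main induction: a finite group all of whose irreducible characters have degree less than `p`
has a normal Sylow `p`-subgroup. -/
theorem exists_normal_sylow_aux (p : ℕ) [Fact p.Prime] :
    ∀ n : ℕ, ∀ (H : Type u) [Group H] [Finite H], Nat.card H ≤ n →
      (∀ χ : IrrCharacter H, charDegree (χ : H → ℂ) < p) →
      ∃ P : Sylow p H, (P : Subgroup H).Normal := by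
  intro n
  induction n with
  | zero =>
    intro H _ _ hn
    exact absurd hn (by have := Nat.card_pos (α := H); omega)
  | succ n ih =>
    intro H _ _ hn h
    have hp : p.Prime := Fact.out
    by_cases hZ : Subgroup.center H = ⊥
    · -- trivial centre: a Sylow `p`-subgroup is a trivial-intersection subgroup
      by_contra hnone
      push Not at hnone
      let P : Sylow p H := default
      have hPn := hnone P
      set N := Subgroup.normalizer ((P : Subgroup H) : Set H) with hN
      have hNtop : N ≠ ⊤ := fun hN' => hPn (Subgroup.normalizer_eq_top_iff.mp hN')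
      have hPab := comm_of_sylow p h P
      have hTI : ∀ g : H, g ∉ N → ∀ x ∈ (P : Subgroup H),
          g⁻¹ * x * g ∈ (P : Subgroup H) → x = 1 := by
        intro g hg x hx hxg
        set L : Subgroup H := (P : Subgroup H) ⊔ ((g • P : Sylow p H) : Subgroup H) with hL
        have hPL : (P : Subgroup H) ≤ L := le_sup_left
        have hP'L : ((g • P : Sylow p H) : Subgroup H) ≤ L := le_sup_right
        have hLtop : L = ⊤ := by
          by_contra hLne
          have hlt : Nat.card L < Nat.card H := by
            have h1 : Nat.card L * L.index = Nat.card H := Subgroup.card_mul_index L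
            have h2 : L.index ≠ 1 := fun h2 => hLne (Subgroup.index_eq_one.mp h2)
            have h3 : L.index ≠ 0 := Subgroup.index_ne_zero_of_finite
            have h4 := Nat.card_pos (α := L)
            have h5 : 2 ≤ L.index := by omega
            nlinarith
          obtain ⟨Q, hQ⟩ := ih L (by omega) (hyp_subgroup p L h)
          have huniq := Sylow.unique_of_normal Q hQ
          have h1 : P.subtype hPL = (g • P : Sylow p H).subtype hP'L := Subsingleton.elim _ _
          have h2 : P = g • P := Sylow.subtype_injective h1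
          exact hg (Sylow.smul_eq_iff_mem_normalizer.mp h2.symm)
        have hxc : x ∈ Subgroup.center H := by
          have hle : L ≤ Subgroup.centralizer ({x} : Set H) := by
            rw [hL]
            apply sup_le
            · intro y hy
              rw [Subgroup.mem_centralizer_iff]
              intro z hz
              rw [Set.mem_singleton_iff] at hz
              subst hz
              exact hPab z hx y hy
            · intro y hy
              rw [Sylow.coe_subgroup_smul, Subgroup.mem_pointwise_smul_iff_inv_smul_mem] at hy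
              have hy' : g⁻¹ * y * g ∈ (P : Subgroup H) := by
                simpa [MulAut.smul_def] using hy
              rw [Subgroup.mem_centralizer_iff]
              intro z hz
              rw [Set.mem_singleton_iff] at hz
              subst hz
              have h1 := hPab _ hxg _ hy'
              calc z * y = g * ((g⁻¹ * z * g) * (g⁻¹ * y * g)) * g⁻¹ := by group
                _ = g * ((g⁻¹ * y * g) * (g⁻¹ * z * g)) * g⁻¹ := by rw [h1]
                _ = y * z := by group
          rw [Subgroup.mem_center_iff]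
          intro y
          have h1 : y ∈ Subgroup.centralizer ({x} : Set H) := hle (hLtop ▸ Subgroup.mem_top y)
          rw [Subgroup.mem_centralizer_iff] at h1
          exact (h1 x rfl).symm
        rw [hZ] at hxc
        exact Subgroup.mem_bot.mp hxc
      obtain ⟨χ, hχ⟩ := exists_charDegree_ge_card p P hTI hNtop
      have h1 := h χ
      obtain ⟨k, hk⟩ := IsPGroup.iff_card.mp P.isPGroup'
      have hk0 : k = 0 := by
        by_contra hk0
        have h2 : p ^ 1 ≤ p ^ k :=
          Nat.pow_le_pow_right hp.pos (Nat.one_le_iff_ne_zero.mpr hk0)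
        rw [pow_one] at h2
        omega
      rw [hk0, pow_zero] at hk
      have hbot : (P : Subgroup H) = ⊥ := Subgroup.card_eq_one.mp hk
      apply hPn
      rw [hbot]
      infer_instance
    · -- nontrivial centre
      set Z := Subgroup.center H with hZdef
      have hcardZ : 2 ≤ Nat.card Z := by
        have h1 : Nat.card Z ≠ 1 := fun h1 => hZ (Subgroup.card_eq_one.mp h1)
        have h2 := Nat.card_pos (α := Z)
        omega
      have hcard : Nat.card H = Nat.card Z * Nat.card (H ⧸ Z) := by
        rw [← Subgroup.index_eq_card]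
        exact (Subgroup.card_mul_index Z).symm
      have hq : Nat.card (H ⧸ Z) ≤ n := by
        have hpos := Nat.card_pos (α := H ⧸ Z)
        nlinarith
      obtain ⟨Pbar, hPbar⟩ := ih (H ⧸ Z) hq (hyp_quotient p Z h)
      set K : Subgroup H := (Pbar : Subgroup (H ⧸ Z)).comap (QuotientGroup.mk' Z) with hK
      have hKn : K.Normal := hPbar.comap _
      have hKidx : K.index = (Pbar : Subgroup (H ⧸ Z)).index :=
        Subgroup.index_comap_of_surjective _ (QuotientGroup.mk'_surjective Z)
      have hKp : ¬ p ∣ K.index := by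
        rw [hKidx]
        exact Pbar.not_dvd_index
      -- `K` is nilpotent
      let f : K →* (Pbar : Subgroup (H ⧸ Z)) :=
        ((QuotientGroup.mk' Z).comp K.subtype).codRestrict (Pbar : Subgroup (H ⧸ Z))
          (fun k => k.2)
      have hker : f.ker ≤ Subgroup.center K := by
        intro k hk
        rw [MonoidHom.mem_ker] at hk
        have h1 : (k : H) ∈ Z := by
          rw [← QuotientGroup.eq_one_iff]
          exact congrArg Subtype.val hk
        rw [Subgroup.mem_center_iff]
        intro y
        apply Subtype.ext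
        exact (Subgroup.mem_center_iff.mp h1) y
      have hnilP : Group.IsNilpotent (Pbar : Subgroup (H ⧸ Z)) := Pbar.isPGroup'.isNilpotent
      have hnilK : Group.IsNilpotent K := Subgroup.isNilpotent_of_ker_le_center f hker
      have Q : Sylow p K := default
      have hQn : (Q : Subgroup K).Normal :=
        Sylow.normal_of_normalizerCondition Group.normalizerCondition_of_isNilpotent Q
      have hQchar : (Q : Subgroup K).Characteristic := Sylow.characteristic_of_normal Q hQn
      have hPn : ((Q : Subgroup K).map K.subtype).Normal := inferInstance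
      have hPp : IsPGroup p ((Q : Subgroup K).map K.subtype) := Q.isPGroup'.map K.subtype
      have hPidx : ¬ p ∣ ((Q : Subgroup K).map K.subtype).index := by
        rw [Subgroup.index_map_subtype]
        intro hd
        rcases hp.dvd_mul.mp hd with hd | hd
        · exact Q.not_dvd_index hd
        · exact hKp hd
      refine ⟨hPp.toSylow hPidx, ?_⟩
      rw [IsPGroup.toSylow_coe]
      exact hPn

/-- A finite group all of whose irreducible characters have degree less than the prime `p` has a
normal abelian Sylow `p`-subgroup. -/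
theorem exists_normal_abelian_sylow [Finite G] (p : ℕ) [Fact p.Prime]
    (h : ∀ χ : IrrCharacter G, charDegree (χ : G → ℂ) < p) :
    ∃ P : Sylow p G, (P : Subgroup G).Normal ∧
      ∀ a ∈ (P : Subgroup G), ∀ b ∈ (P : Subgroup G), a * b = b * a := by
  obtain ⟨P, hP⟩ := exists_normal_sylow_aux p (Nat.card G) G le_rfl h
  exact ⟨P, hP, comm_of_sylow p h P⟩

end Cfsg.Agent.Lib.Helper80.TISylow
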