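import Mathlib
import Cfsg.Prelude.Def_Solvable
import Cfsg.Prelude.Def_Local
import Cfsg.Agent.Lib.Helper76.PSolv
import Cfsg.Agent.Lib.Helper80.TISylow

/-!
# Abelian Sylow subgroups whose normalizer acts freely

Group theory behind Brauer's analysis of the principal block for an abelian Sylow `p`-subgroup
`P` with `C_G(y) ∩ N_G(P) = C_G(P)` for all `1 ≠ y ∈ P`: centralizers of non-identity elements
of `P` have normal `p`-complements (Burnside's transfer theorem), fusion in `P` is controlled by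
the normalizer, and a non-principal linear character of `P` has stabilizer `C_G(P)` in `N_G(P)`.
-/

set_option autoImplicit false

namespace Cfsg.Agent.Lib.Helper80.AbSylowGT

open Cfsg

universe u
variable {G : Type u} [Group G]

/-- An abelian Sylow subgroup lies in the centralizer of each of its elements. -/
theorem le_centralizer_singleton {p : ℕ} (P : Sylow p G) (hab : IsMulCommutative P) (y : G)
    (hy : y ∈ (P : Subgroup G)) : (P : Subgroup G) ≤ Subgroup.centralizer ({y} : Set G) := by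
  intro w hw
  rw [Subgroup.mem_centralizer_iff]
  intro h hh
  rw [Set.mem_singleton_iff] at hh
  subst hh
  have := hab.is_comm.comm (⟨h, hy⟩ : P) ⟨w, hw⟩
  exact congrArg Subtype.val this

/-- Burnside's transfer theorem inside `C_G(y)`: the centralizer of a non-identity element of
`P` has a normal `p`-complement, so its `p'`-core has `p`-power index and contains every
`p`-regular element. -/
theorem burnside_centralizer [Finite G] (p : ℕ) [Fact p.Prime] (P : Sylow p G)
    (hab : IsMulCommutative P)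
    (hfrob : ∀ y : G, y ∈ (P : Subgroup G) → y ≠ 1 →
      Subgroup.centralizer ({y} : Set G) ⊓ Subgroup.normalizer ((P : Subgroup G) : Set G) =
        Subgroup.centralizer ((P : Subgroup G) : Set G))
    (y : G) (hy : y ∈ (P : Subgroup G)) (hy1 : y ≠ 1) :
    (∃ k : ℕ, (pPrimeCore p ↥(Subgroup.centralizer ({y} : Set G))).index = p ^ k) ∧
      ∀ v : G, Commute y v → ¬ p ∣ orderOf v → v ∈ centralizerPPrimeCore p y := by
  classical
  have hPH : (P : Subgroup G) ≤ Subgroup.centralizer ({y} : Set G) :=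
    le_centralizer_singleton P hab y hy
  set H := Subgroup.centralizer ({y} : Set G) with hH
  set Q : Sylow p H := P.subtype hPH with hQdef
  have hQmem : ∀ h : H, h ∈ (Q : Subgroup H) ↔ (h : G) ∈ (P : Subgroup G) := by
    intro h
    rw [hQdef, Sylow.coe_subtype, Subgroup.mem_subgroupOf]
  have hQ : Subgroup.normalizer (Q : Set H) ≤ Subgroup.centralizer (Q : Set H) := by
    intro n hn
    have hnN : (n : G) ∈ Subgroup.normalizer ((P : Subgroup G) : Set G) := by
      rw [Subgroup.mem_normalizer_iff]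
      intro w
      constructor
      · intro hw
        have h1 := (Subgroup.mem_normalizer_iff.mp hn ⟨w, hPH hw⟩).mp ((hQmem _).mpr hw)
        have h2 := (hQmem _).mp h1
        simpa using h2
      · intro hw
        have hwH : w ∈ H := by
          have h3 : (n : G) * w * (n : G)⁻¹ ∈ H := hPH hw
          have h4 := H.mul_mem (H.mul_mem (H.inv_mem n.2) h3) n.2
          simpa [mul_assoc] using h4
        have h1 := (Subgroup.mem_normalizer_iff.mp hn ⟨w, hwH⟩).mpr
          ((hQmem _).mpr (by simpa using hw))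
        exact (hQmem _).mp h1
    have hnC : (n : G) ∈ Subgroup.centralizer ((P : Subgroup G) : Set G) := by
      rw [← hfrob y hy hy1]
      exact ⟨n.2, hnN⟩
    rw [Subgroup.mem_centralizer_iff]
    intro q hq
    apply Subtype.ext
    have := Subgroup.mem_centralizer_iff.mp hnC (q : G) ((hQmem q).mp hq)
    simpa using this
  set K := (MonoidHom.transferSylow Q hQ).ker with hK
  have hKn : K.Normal := MonoidHom.normal_ker _
  have hKp : ¬ p ∣ Nat.card K := MonoidHom.not_dvd_card_ker_transferSylow Q hQ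
  have hKcop : (Nat.card K).Coprime p :=
    ((Fact.out : p.Prime).coprime_iff_not_dvd.mpr hKp).symm
  have hKle : K ≤ pPrimeCore p H := Cfsg.Agent.Lib.Helper76.PSolv.le_pPrimeCore hKn hKcop
  have hidx : K.index = Nat.card (Q : Subgroup H) :=
    (MonoidHom.ker_transferSylow_isComplement' Q hQ).symm.index_eq_card
  refine ⟨?_, ?_⟩
  · have h1 : (pPrimeCore p H).index ∣ K.index := Subgroup.index_dvd_of_le hKle
    obtain ⟨n, hn⟩ := IsPGroup.iff_card.mp Q.2
    rw [hidx, hn] at h1
    obtain ⟨k, -, hk⟩ := (Nat.dvd_prime_pow Fact.out).mp h1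
    exact ⟨k, hk⟩
  · intro v hv hpv
    have hvH : v ∈ H := by
      rw [hH, Subgroup.mem_centralizer_iff]
      intro h hh
      rw [Set.mem_singleton_iff] at hh
      subst hh
      exact hv.eq
    have hker : (⟨v, hvH⟩ : H) ∈ K := by
      rw [hK, MonoidHom.mem_ker]
      obtain ⟨k, hk⟩ := (IsPGroup.iff_orderOf.mp Q.2) (MonoidHom.transferSylow Q hQ ⟨v, hvH⟩)
      have h1 : orderOf (MonoidHom.transferSylow Q hQ ⟨v, hvH⟩) ∣ orderOf (⟨v, hvH⟩ : H) :=
        orderOf_map_dvd _ _
      have h2 : orderOf (⟨v, hvH⟩ : H) = orderOf v := Subgroup.orderOf_mk v hvH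
      rw [h2] at h1
      have hk0 : k = 0 := by
        by_contra hk0
        exact hpv ((dvd_pow_self p hk0).trans (hk ▸ h1))
      rw [hk0, pow_zero, orderOf_eq_one_iff] at hk
      exact hk
    exact ⟨⟨v, hvH⟩, hKle hker, rfl⟩

/-- Every element of `p`-power order is conjugate into a given Sylow `p`-subgroup. -/
theorem exists_conj_mem_sylow [Finite G] (p : ℕ) [Fact p.Prime] (P : Sylow p G) (v : G) (j : ℕ)
    (hv : orderOf v = p ^ j) : ∃ x : G, x⁻¹ * v * x ∈ (P : Subgroup G) := by
  have hv' : v ^ p ^ j = 1 := by rw [← hv]; exact pow_orderOf_eq_one v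
  obtain ⟨Q, hQ⟩ := (Cfsg.Agent.Lib.Helper80.TISylow.isPGroup_zpowers p v j hv').exists_le_sylow
  obtain ⟨x, hx⟩ := MulAction.exists_smul_eq G P Q
  have hmem : v ∈ ((x • P : Sylow p G) : Subgroup G) := by
    rw [hx]
    exact hQ (Subgroup.mem_zpowers _)
  rw [Sylow.coe_subgroup_smul, Subgroup.mem_pointwise_smul_iff_inv_smul_mem] at hmem
  exact ⟨x, by simpa [MulAut.smul_def] using hmem⟩

/-- Burnside's fusion lemma for an abelian Sylow subgroup, in the form used for column
identities. -/
theorem fusion [Finite G] (p : ℕ) [Fact p.Prime] (P : Sylow p G) (hab : IsMulCommutative P)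
    (u : G) (hu : u ∈ (P : Subgroup G)) (g : G) (hg : g * u * g⁻¹ ∈ (P : Subgroup G)) :
    ∃ n ∈ Subgroup.normalizer ((P : Subgroup G) : Set G), n * u * n⁻¹ = g * u * g⁻¹ := by
  have hy : (g⁻¹)⁻¹ * u * g⁻¹ ∈ (P : Subgroup G) := by rwa [inv_inv]
  obtain ⟨n, hn, h⟩ := Sylow.conj_eq_normalizer_conj_of_mem P u g⁻¹ hu hy
  refine ⟨n⁻¹, Subgroup.inv_mem _ hn, ?_⟩
  rw [inv_inv] at h ⊢
  exact h.symm

/-- The stabilizer in `N_G(P)` of a non-principal linear character of `P` is `C_G(P)`. -/
theorem mem_centralizer_of_stab [Finite G] (p : ℕ) (P : Sylow p G)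
    (hfrob : ∀ y : G, y ∈ (P : Subgroup G) → y ≠ 1 →
      Subgroup.centralizer ({y} : Set G) ⊓ Subgroup.normalizer ((P : Subgroup G) : Set G) =
        Subgroup.centralizer ((P : Subgroup G) : Set G))
    (t : G) (ht : t ∈ Subgroup.normalizer ((P : Subgroup G) : Set G))
    (ψ : ↥(P : Subgroup G) →* ℂˣ) (hψ : ψ ≠ 1)
    (hst : ∀ w w' : ↥(P : Subgroup G), (w' : G) = t * w * t⁻¹ → ψ w' = ψ w) :
    t ∈ Subgroup.centralizer ((P : Subgroup G) : Set G) := by
  by_contra htC
  have hmem : ∀ w : ↥(P : Subgroup G), t * (w : G) * t⁻¹ ∈ (P : Subgroup G) :=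
    fun w => (Subgroup.mem_normalizer_iff.mp ht _).mp w.2
  let f : ↥(P : Subgroup G) → ↥(P : Subgroup G) := fun w => w⁻¹ * ⟨t * w * t⁻¹, hmem w⟩
  have hinj : Function.Injective f := by
    intro w w' hww
    by_contra hne
    have hu1 : (w' : G) * (w : G)⁻¹ ≠ 1 := by
      intro h
      apply hne
      apply Subtype.ext
      exact (mul_inv_eq_one.mp h).symm
    have huP : (w' : G) * (w : G)⁻¹ ∈ (P : Subgroup G) :=
      (P : Subgroup G).mul_mem w'.2 ((P : Subgroup G).inv_mem w.2)
    have hcomm : t * ((w' : G) * (w : G)⁻¹) = ((w' : G) * (w : G)⁻¹) * t := by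
      have h1 : (w : G)⁻¹ * (t * w * t⁻¹) = (w' : G)⁻¹ * (t * w' * t⁻¹) :=
        congrArg Subtype.val hww
      have h2 : (w' : G) * (w : G)⁻¹ * (t * w * t⁻¹) = t * w' * t⁻¹ := by
        rw [mul_assoc, h1, ← mul_assoc, mul_inv_cancel, one_mul]
      calc t * ((w' : G) * (w : G)⁻¹) = (t * w' * t⁻¹) * t * (w : G)⁻¹ := by group
        _ = ((w' : G) * (w : G)⁻¹ * (t * w * t⁻¹)) * t * (w : G)⁻¹ := by rw [h2]
        _ = (w' : G) * (w : G)⁻¹ * t := by group
    have htc : t ∈ Subgroup.centralizer ({(w' : G) * (w : G)⁻¹} : Set G) := by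
      rw [Subgroup.mem_centralizer_iff]
      intro h hh
      rw [Set.mem_singleton_iff] at hh
      subst hh
      exact hcomm.symm
    apply htC
    rw [← hfrob _ huP hu1]
    exact ⟨htc, ht⟩
  have hsurj : Function.Surjective f := Finite.injective_iff_surjective.mp hinj
  apply hψ
  refine MonoidHom.ext fun w => ?_
  obtain ⟨w0, rfl⟩ := hsurj w
  show ψ (w0⁻¹ * ⟨t * w0 * t⁻¹, hmem w0⟩) = 1
  rw [map_mul, map_inv, hst w0 ⟨t * w0 * t⁻¹, hmem w0⟩ rfl, inv_mul_cancel]

end Cfsg.Agent.Lib.Helper80.AbSylowGT
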