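import Mathlib
import Cfsg.Agent.Lib.CT.ThirdMain
import Cfsg.Agent.Lib.Helper16.ZR
import Cfsg.Agent.Lib.CT.Orth
import Cfsg.Agent.Lib.CT.Clifford

/-!
# Principal blocks and normal subgroups

A character lies in the principal block exactly when it does not vanish on the sum of the
`p`-regular elements.  From this: constituents of restrictions of principal block characters to
normal subgroups lie in the principal block, every principal block character of a subgroup lies
under one of the group, and the sums of squared degrees compare.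
-/

set_option autoImplicit false

namespace Cfsg.Agent.Lib.Helper80.NormB0

open Cfsg Cfsg.Agent.Lib.Helper77.LocalRing Cfsg.Agent.Lib.Helper77.CentralChar
  Cfsg.Agent.Lib.Helper77.ClassSum Cfsg.Agent.Lib.Helper77.BlockIdem
  Cfsg.Agent.Lib.CT.Wedderburn Cfsg.Agent.Lib.CT.ThirdMain Cfsg.Agent.Lib.CT.Orth
  Cfsg.Agent.Lib.CT.Clifford Cfsg.Agent.Lib.CT.Ops

open scoped ComplexConjugate

universe u
variable {G : Type u} [Group G]

/-- For central `z` and irreducible `χ`: `∑ₓ z(x) χ(x g) = ω_χ(z) χ(g)`. -/
theorem sum_coeff_mul_apply [Fintype G] {χ : G → ℂ} (hχ : IsIrrCharacter G χ)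
    (z : MonoidAlgebra ℂ G) (hz : z ∈ Zc G) (g : G) :
    ∑ x : G, z.coeff x * χ (x * g) = omega χ z * χ g := by
  have h := pair_mul_center hχ z (MonoidAlgebra.single g 1) hz
  rw [pair_single, one_mul, pair_eq_sum] at h
  rw [← h]
  exact Fintype.sum_equiv (Equiv.mulRight g) _ _ (fun x => by
    rw [Equiv.coe_mulRight, MonoidAlgebra.coeff_mul_single_apply, mul_inv_cancel_right, mul_one])

open Classical in
/-- The sum of the `p`-regular elements of the subgroup `H`, in the group algebra of `G`. -/
noncomputable def sRegSub [Finite G] (p : ℕ) (H : Subgroup G) : MonoidAlgebra ℂ G :=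
  ofFun (fun g : G => if g ∈ H ∧ ¬ p ∣ orderOf g then 1 else 0)

open Classical in
theorem coeff_sRegSub [Finite G] (p : ℕ) (H : Subgroup G) (g : G) :
    (sRegSub p H : MonoidAlgebra ℂ G).coeff g = if g ∈ H ∧ ¬ p ∣ orderOf g then 1 else 0 := rfl

theorem sRegSub_mem_center [Finite G] (p : ℕ) (H : Subgroup G) [hH : H.Normal] :
    sRegSub p H ∈ Zc G := by
  classical
  apply ofFun_mem_center
  intro x g
  have h1 : orderOf (x * g * x⁻¹) = orderOf g := (MulAut.conj x).orderOf_eq g
  have h2 : x * g * x⁻¹ ∈ H ↔ g ∈ H :=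
    ⟨fun h => by simpa [mul_assoc] using hH.conj_mem _ h x⁻¹, fun h => hH.conj_mem g h x⟩
  simp only [h1, h2]

theorem sRegSub_coeff_memLocalRing [Finite G] (p : ℕ) (H : Subgroup G) {M : Ideal AlgInt}
    (hMp : M.IsPrime) (g : G) : MemLocalRing M ((sRegSub p H : MonoidAlgebra ℂ G).coeff g) := by
  classical
  rw [coeff_sRegSub]
  split_ifs
  · exact memLocalRing_one hMp
  · exact memLocalRing_zero hMp

/-- Sums against the coefficients of `sRegSub p H` are sums over `H` against those of `sReg p`. -/
theorem sum_sRegSub_mul [Fintype G] (p : ℕ) (H : Subgroup G) [Fintype H] (F : G → ℂ) :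
    ∑ g : G, (sRegSub p H : MonoidAlgebra ℂ G).coeff g * F g
      = ∑ h : H, (sReg p : MonoidAlgebra ℂ H).coeff h * F h := by
  classical
  have h1 : ∑ g : G, (sRegSub p H : MonoidAlgebra ℂ G).coeff g * F g
      = ∑ g ∈ Finset.univ.filter (fun g : G => g ∈ H),
          (sRegSub p H : MonoidAlgebra ℂ G).coeff g * F g := by
    symm
    apply Finset.sum_filter_of_ne
    intro g _ hne
    by_contra hg
    exact hne (by rw [coeff_sRegSub, if_neg (fun h => hg h.1), zero_mul])
  rw [h1, Finset.sum_subtype (Finset.univ.filter (fun g : G => g ∈ H)) (p := fun g => g ∈ H)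
    (fun x => by simp)]
  refine Finset.sum_congr rfl fun h _ => ?_
  rw [coeff_sRegSub, coeff_sReg, Subgroup.orderOf_coe]
  by_cases hp : p ∣ orderOf h
  · rw [if_neg (fun hh => hh.2 hp), if_pos hp]
  · rw [if_pos ⟨h.2, hp⟩, if_neg hp]

theorem pair_sRegSub [Finite G] (p : ℕ) (H : Subgroup G) (χ : G → ℂ) :
    pair χ (sRegSub p H) = pair (fun h : H => χ h) (sReg p : MonoidAlgebra ℂ H) := by
  classical
  have := Fintype.ofFinite G
  have : Fintype H := Fintype.ofFinite H
  rw [pair_eq_sum, pair_eq_sum]
  exact sum_sRegSub_mul p H χ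

/-- Principal block characters do not vanish (even modulo the local ideal) on the sum of the
`p`-regular elements. -/
theorem omega_sReg_not_mem [Finite G] {p : ℕ} {M : Ideal AlgInt} (hM : IsPModular p M)
    (χ : IrrCharacter G) (hχ : χ ∈ principalBlock M G) :
    ¬ MemLocalIdeal M (omega (χ : G → ℂ) (sReg p)) := by
  have hMp := isPrime_of_isPModular hM
  intro h
  have h1 := Cfsg.Agent.Lib.Helper16.ZR.omega_sub_mem_of_sameBlock hMp (triv G).2 χ.2 hχ
    (sReg p) (sReg_mem_center p) (sReg_mem_intSubring p hMp)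
  have h2 := memLocalIdeal_add hMp h1 h
  rw [sub_add_cancel] at h2
  exact omega_triv_sReg_not_mem hM h2

/-- Principal block characters do not vanish on the sum of the `p`-regular elements of a normal
subgroup. -/
theorem omega_sRegSub_not_mem [Finite G] {p : ℕ} {M : Ideal AlgInt} (hM : IsPModular p M)
    (H : Subgroup G) [H.Normal] (χ : IrrCharacter G) (hχ : χ ∈ principalBlock M G) :
    ¬ MemLocalIdeal M (omega (χ : G → ℂ) (sRegSub p H)) := by
  have hMp := isPrime_of_isPModular hM
  intro h
  have h1 := Cfsg.Agent.Lib.Helper16.ZR.omega_sub_mem_of_sameBlock hMp (triv G).2 χ.2 hχ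
    (sRegSub p H) (sRegSub_mem_center p H) (fun g => sRegSub_coeff_memLocalRing p H hMp g)
  have h2 := memLocalIdeal_add hMp h1 h
  rw [sub_add_cancel] at h2
  have h3 : omega ((triv G : IrrCharacter G) : G → ℂ) (sRegSub p H)
      = omega ((triv H : IrrCharacter H) : H → ℂ) (sReg p) := by
    unfold omega
    rw [pair_sRegSub]
    rfl
  rw [h3] at h2
  exact omega_triv_sReg_not_mem hM h2

/-- The inner product of the indicator of the `p`-regular elements with a function. -/
theorem classInner_indicator [Fintype G] (p : ℕ) (ψ : G → ℂ) :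
    classInner (fun g : G => (sReg p : MonoidAlgebra ℂ G).coeff g) ψ
      = (Nat.card G : ℂ)⁻¹ * conj (pair ψ (sReg p)) := by
  classical
  unfold classInner
  rw [pair_eq_sum, map_sum]
  congr 1
  refine Finset.sum_congr rfl fun g _ => ?_
  have hc : conj ((sReg p : MonoidAlgebra ℂ G).coeff g)
      = (sReg p : MonoidAlgebra ℂ G).coeff g := by
    rw [coeff_sReg]
    split_ifs <;> simp
  rw [map_mul, hc]

/-- Constituents of the restriction of a principal block character to a normal subgroup lie in
the principal block of that subgroup. -/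
theorem mem_principalBlock_of_constituent [Finite G] (p : ℕ) [Fact p.Prime] (M : Ideal AlgInt)
    (hM : IsPModular p M) (H : Subgroup G) [H.Normal] [Fintype H] (χ : IrrCharacter G)
    (hχ : χ ∈ principalBlock M G) (θ : IrrCharacter H)
    (hθ : classInner (fun h : H => (χ : G → ℂ) h) (θ : H → ℂ) ≠ 0) :
    θ ∈ principalBlock M H := by
  classical
  by_contra hnot
  have hMp := isPrime_of_isPModular hM
  have := Fintype.ofFinite G
  have := finite_irrCharacter H
  have : Fintype (IrrCharacter H) := Fintype.ofFinite _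
  have h0 : omega (θ : H → ℂ) (sReg p) = 0 := omega_sReg_eq_zero hM θ hnot
  set ω := omega (χ : G → ℂ) (sRegSub p H) with hω
  have hωne : ω ≠ 0 := fun h => omega_sRegSub_not_mem hM H χ hχ (by
    rw [← hω, h]
    exact memLocalIdeal_zero hMp)
  set f : H → ℂ := fun h => (χ : G → ℂ) h with hf
  have hfc : IsClassFunction H f := restrict_isClassFunction H (irr_isClassFunction χ)
  have key : ∀ h : H, ∑ x : H, (sReg p : MonoidAlgebra ℂ H).coeff x * f (x * h) = ω * f h := by
    intro h
    have h1 := sum_coeff_mul_apply χ.2 (sRegSub p H) (sRegSub_mem_center p H) (h : G)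
    rw [sum_sRegSub_mul p H (fun x : G => (χ : G → ℂ) (x * (h : G)))] at h1
    exact h1
  have hexp : ∀ h : H, f h = ∑ ψ : IrrCharacter H, classInner f (ψ : H → ℂ) * (ψ : H → ℂ) h :=
    classFunction_expand_sum f hfc
  have key2 : ∀ h : H, ∑ ψ : IrrCharacter H,
      (classInner f (ψ : H → ℂ) * (omega (ψ : H → ℂ) (sReg p) - ω)) * (ψ : H → ℂ) h = 0 := by
    intro h
    have e1 : ∑ x : H, (sReg p : MonoidAlgebra ℂ H).coeff x * f (x * h)
        = ∑ ψ : IrrCharacter H, classInner f (ψ : H → ℂ) *
            (omega (ψ : H → ℂ) (sReg p) * (ψ : H → ℂ) h) := by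
      calc ∑ x : H, (sReg p : MonoidAlgebra ℂ H).coeff x * f (x * h)
          = ∑ x : H, ∑ ψ : IrrCharacter H, classInner f (ψ : H → ℂ) *
              ((sReg p : MonoidAlgebra ℂ H).coeff x * (ψ : H → ℂ) (x * h)) := by
            refine Finset.sum_congr rfl fun x _ => ?_
            rw [hexp (x * h), Finset.mul_sum]
            refine Finset.sum_congr rfl fun ψ _ => by ring
        _ = ∑ ψ : IrrCharacter H, ∑ x : H, classInner f (ψ : H → ℂ) *
              ((sReg p : MonoidAlgebra ℂ H).coeff x * (ψ : H → ℂ) (x * h)) := Finset.sum_comm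
        _ = _ := by
            refine Finset.sum_congr rfl fun ψ _ => ?_
            rw [← Finset.mul_sum, sum_coeff_mul_apply ψ.2 (sReg p) (sReg_mem_center p) h]
    have e2 := key h
    rw [e1, hexp h, Finset.mul_sum] at e2
    rw [← sub_eq_zero, ← Finset.sum_sub_distrib] at e2
    rw [← e2]
    refine Finset.sum_congr rfl fun ψ _ => by ring
  have hsum : (∑ ψ : IrrCharacter H,
      (classInner f (ψ : H → ℂ) * (omega (ψ : H → ℂ) (sReg p) - ω)) • (ψ : H → ℂ)) = 0 := by
    funext h
    rw [Finset.sum_apply]
    simpa using key2 h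
  have h3 : classInner (∑ ψ : IrrCharacter H,
      (classInner f (ψ : H → ℂ) * (omega (ψ : H → ℂ) (sReg p) - ω)) • (ψ : H → ℂ))
      (θ : H → ℂ) = 0 := by
    rw [hsum, classInner_zero_left]
  rw [classInner_sum_left] at h3
  have h4 : ∑ ψ : IrrCharacter H, classInner
      ((classInner f (ψ : H → ℂ) * (omega (ψ : H → ℂ) (sReg p) - ω)) • (ψ : H → ℂ)) (θ : H → ℂ)
      = classInner f (θ : H → ℂ) * (omega (θ : H → ℂ) (sReg p) - ω) := by
    rw [Finset.sum_eq_single θ]
    · rw [classInner_smul_left, irr_orthonormal, if_pos rfl, mul_one]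
    · intro ψ _ hne
      rw [classInner_smul_left, irr_orthonormal, if_neg hne, mul_zero]
    · intro h
      exact absurd (Finset.mem_univ _) h
  rw [h4, h0, zero_sub] at h3
  rcases mul_eq_zero.mp h3 with h5 | h5
  · exact hθ h5
  · exact hωne (neg_eq_zero.mp h5)

/-- Every principal block character of a subgroup lies under a principal block character of
the group. -/
theorem exists_principalBlock_over [Finite G] (p : ℕ) [Fact p.Prime] (M : Ideal AlgInt)
    (hM : IsPModular p M) (H : Subgroup G) [Fintype H] (θ : IrrCharacter H)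
    (hθ : θ ∈ principalBlock M H) :
    ∃ χ : IrrCharacter G, χ ∈ principalBlock M G ∧
      classInner (fun h : H => (χ : G → ℂ) h) (θ : H → ℂ) ≠ 0 := by
  classical
  have hMp := isPrime_of_isPModular hM
  have := Fintype.ofFinite G
  have := finite_irrCharacter G
  have : Fintype (IrrCharacter G) := Fintype.ofFinite _
  set η : G → ℂ := fun g => (sReg p : MonoidAlgebra ℂ G).coeff g with hη
  have hηc : IsClassFunction G η := fun g h =>
    (mem_center_iff (sReg p : MonoidAlgebra ℂ G)).mp (sReg_mem_center p) h g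
  have hexp := classFunction_expand_sum η hηc
  have hres : (fun h : H => η h) = fun h : H => (sReg p : MonoidAlgebra ℂ H).coeff h := by
    funext h
    show (sReg p : MonoidAlgebra ℂ G).coeff (h : G) = (sReg p : MonoidAlgebra ℂ H).coeff h
    rw [coeff_sReg, coeff_sReg, Subgroup.orderOf_coe]
  have h1 : classInner (fun h : H => η h) (θ : H → ℂ) ≠ 0 := by
    rw [hres, classInner_indicator]
    have hne : omega (θ : H → ℂ) (sReg p) ≠ 0 := fun h => omega_sReg_not_mem hM θ hθ (by
      rw [h]
      exact memLocalIdeal_zero hMp)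
    have hne2 : pair (θ : H → ℂ) (sReg p) ≠ 0 := fun h => hne (by
      unfold omega
      rw [h, zero_div])
    have hc : (Nat.card H : ℂ) ≠ 0 := by exact_mod_cast Nat.card_pos.ne'
    exact mul_ne_zero (inv_ne_zero hc) ((map_ne_zero _).mpr hne2)
  have h2 : classInner (fun h : H => η h) (θ : H → ℂ)
      = ∑ χ : IrrCharacter G, classInner η (χ : G → ℂ) *
          classInner (fun h : H => (χ : G → ℂ) h) (θ : H → ℂ) := by
    have h3 : (fun h : H => η h) = ∑ χ : IrrCharacter G,
        classInner η (χ : G → ℂ) • (fun h : H => (χ : G → ℂ) h) := by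
      funext h
      rw [hexp h, Finset.sum_apply]
      rfl
    rw [h3, classInner_sum_left]
    exact Finset.sum_congr rfl fun χ _ => classInner_smul_left _ _ _
  rw [h2] at h1
  obtain ⟨χ, -, hχ⟩ := Finset.exists_ne_zero_of_sum_ne_zero h1
  refine ⟨χ, ?_, right_ne_zero_of_mul hχ⟩
  by_contra hnot
  have h0 := omega_sReg_eq_zero hM χ hnot
  apply left_ne_zero_of_mul hχ
  rw [hη, classInner_indicator]
  have h4 : pair (χ : G → ℂ) (sReg p) = 0 := by
    unfold omega at h0
    rcases div_eq_zero_iff.mp h0 with h5 | h5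
    · exact h5
    · exact absurd h5 (irr_apply_one_ne_zero χ.2)
  rw [h4, map_zero, mul_zero]

theorem sum_sq_le_sq_sum_nat {ι : Type*} (s : Finset ι) (a : ι → ℕ) :
    ∑ i ∈ s, a i ^ 2 ≤ (∑ i ∈ s, a i) ^ 2 := by
  rw [sq, Finset.sum_mul]
  refine Finset.sum_le_sum fun i hi => ?_
  rw [sq]
  exact Nat.mul_le_mul_left _ (Finset.single_le_sum (fun _ _ => Nat.zero_le _) hi)

/-- With `λ(X)` the sum of the squared degrees over the principal block of `X` and `H` normal
in `G`: `λ(H) ≤ λ(G) ≤ [G : H] λ(H)`. -/
theorem sum_sq_bounds [Finite G] (p : ℕ) [Fact p.Prime] (M : Ideal AlgInt) (hM : IsPModular p M)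
    (H : Subgroup G) [H.Normal] :
    (∑ᶠ θ ∈ principalBlock M H, charDegree (θ : H → ℂ) ^ 2) ≤
      (∑ᶠ χ ∈ principalBlock M G, charDegree (χ : G → ℂ) ^ 2) ∧
    (∑ᶠ χ ∈ principalBlock M G, charDegree (χ : G → ℂ) ^ 2) ≤
      H.index * ∑ᶠ θ ∈ principalBlock M H, charDegree (θ : H → ℂ) ^ 2 := by
  classical
  have := Fintype.ofFinite G
  have : Fintype H := Fintype.ofFinite H
  have := finite_irrCharacter G
  have : Fintype (IrrCharacter G) := Fintype.ofFinite _
  have := finite_irrCharacter H
  have : Fintype (IrrCharacter H) := Fintype.ofFinite _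
  have hm : ∀ (χ : IrrCharacter G) (θ : IrrCharacter H), ∃ m : ℕ,
      classInner (fun h : H => (χ : G → ℂ) h) (θ : H → ℂ) = m := fun χ θ =>
    classInner_char_nat (isCharacter_restrict H (isCharacter_of_irr χ.2)) (isCharacter_of_irr θ.2)
  choose m hm using hm
  set dG : IrrCharacter G → ℕ := fun χ => charDegree (χ : G → ℂ) with hdG
  set dH : IrrCharacter H → ℕ := fun θ => charDegree (θ : H → ℂ) with hdH
  have hi : ∀ χ, dG χ = ∑ θ, m χ θ * dH θ := by
    intro χ
    have h1 := classFunction_expand_sum (fun h : H => (χ : G → ℂ) h)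
      (restrict_isClassFunction H (irr_isClassFunction χ)) 1
    have h2 : ((dG χ : ℕ) : ℂ) = ((∑ θ, m χ θ * dH θ : ℕ) : ℂ) := by
      push_cast
      rw [hdG]
      simp only []
      rw [char_natCast_charDegree (isCharacter_of_irr χ.2)]
      simp only [OneMemClass.coe_one] at h1
      rw [h1]
      refine Finset.sum_congr rfl fun θ _ => ?_
      rw [hm, hdH]
      simp only []
      rw [char_natCast_charDegree (isCharacter_of_irr θ.2)]
    exact_mod_cast h2
  have hii : ∀ θ, ∑ χ, m χ θ * dG χ = H.index * dH θ := by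
    intro θ
    have h1 : classInner (fun h : H => ∑ χ : IrrCharacter G, (χ : G → ℂ) 1 * (χ : G → ℂ) h)
        (θ : H → ℂ) = ∑ χ : IrrCharacter G, (χ : G → ℂ) 1 *
          classInner (fun h : H => (χ : G → ℂ) h) (θ : H → ℂ) := by
      have h3 : (fun h : H => ∑ χ : IrrCharacter G, (χ : G → ℂ) 1 * (χ : G → ℂ) h)
          = ∑ χ : IrrCharacter G, ((χ : G → ℂ) 1) • (fun h : H => (χ : G → ℂ) h) := by
        funext h
        rw [Finset.sum_apply]
        rfl
      rw [h3, classInner_sum_left]
      exact Finset.sum_congr rfl fun χ _ => classInner_smul_left _ _ _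
    have h2 : classInner (fun h : H => ∑ χ : IrrCharacter G, (χ : G → ℂ) 1 * (χ : G → ℂ) h)
        (θ : H → ℂ) = (H.index : ℂ) * (θ : H → ℂ) 1 := by
      unfold classInner
      rw [Finset.sum_eq_single (1 : H)]
      · beta_reduce
        have h3 : ∑ χ : IrrCharacter G, (χ : G → ℂ) 1 * (χ : G → ℂ) ((1 : H) : G)
            = (Nat.card G : ℂ) := by
          rw [← sum_apply_one_sq_sum]
          refine Finset.sum_congr rfl fun χ _ => by rw [OneMemClass.coe_one, sq]
        rw [h3, irr_conj_apply_one θ]
        have h4 : (Nat.card G : ℂ) = (H.index : ℂ) * (Nat.card H : ℂ) := by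
          rw [← Nat.cast_mul, Subgroup.index_mul_card]
        rw [h4]
        have h5 : (Nat.card H : ℂ) ≠ 0 := by exact_mod_cast Nat.card_pos.ne'
        field_simp
      · intro h _ hne
        beta_reduce
        rw [sum_apply_one_mul_of_ne_sum (h : G) (fun h1 => hne (Subtype.ext h1)), zero_mul]
      · intro h
        exact absurd (Finset.mem_univ _) h
    have h6 : ((∑ χ, m χ θ * dG χ : ℕ) : ℂ) = ((H.index * dH θ : ℕ) : ℂ) := by
      push_cast
      rw [hdH]
      simp only []
      rw [char_natCast_charDegree (isCharacter_of_irr θ.2), ← h2, h1]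
      refine Finset.sum_congr rfl fun χ _ => ?_
      rw [hm, hdG]
      simp only []
      rw [char_natCast_charDegree (isCharacter_of_irr χ.2), mul_comm]
    exact_mod_cast h6
  have hA : ∀ χ θ, χ ∈ principalBlock M G → m χ θ ≠ 0 → θ ∈ principalBlock M H := by
    intro χ θ hχ hne
    exact mem_principalBlock_of_constituent p M hM H χ hχ θ (by
      rw [hm]
      exact_mod_cast hne)
  have hB : ∀ θ, θ ∈ principalBlock M H → ∃ χ, χ ∈ principalBlock M G ∧ m χ θ ≠ 0 := by
    intro θ hθ
    obtain ⟨χ, hχ, hne⟩ := exists_principalBlock_over p M hM H θ hθ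
    refine ⟨χ, hχ, fun h0 => hne ?_⟩
    rw [hm, h0, Nat.cast_zero]
  have eG : (∑ᶠ χ ∈ principalBlock M G, charDegree (χ : G → ℂ) ^ 2)
      = ∑ χ : IrrCharacter G, if χ ∈ principalBlock M G then dG χ ^ 2 else 0 := by
    rw [finsum_mem_def, finsum_eq_sum_of_fintype]
    refine Finset.sum_congr rfl fun χ _ => ?_
    by_cases h : χ ∈ principalBlock M G
    · rw [Set.indicator_of_mem h, if_pos h]
    · rw [Set.indicator_of_notMem h, if_neg h]
  have eH : (∑ᶠ θ ∈ principalBlock M H, charDegree (θ : H → ℂ) ^ 2)
      = ∑ θ : IrrCharacter H, if θ ∈ principalBlock M H then dH θ ^ 2 else 0 := by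
    rw [finsum_mem_def, finsum_eq_sum_of_fintype]
    refine Finset.sum_congr rfl fun θ _ => ?_
    by_cases h : θ ∈ principalBlock M H
    · rw [Set.indicator_of_mem h, if_pos h]
    · rw [Set.indicator_of_notMem h, if_neg h]
  rw [eG, eH]
  constructor
  · calc ∑ θ : IrrCharacter H, (if θ ∈ principalBlock M H then dH θ ^ 2 else 0)
        ≤ ∑ θ : IrrCharacter H, ∑ χ : IrrCharacter G,
            (if χ ∈ principalBlock M G then (m χ θ * dH θ) ^ 2 else 0) := by
          refine Finset.sum_le_sum fun θ _ => ?_
          by_cases hθ : θ ∈ principalBlock M H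
          · rw [if_pos hθ]
            obtain ⟨χ, hχ, hne⟩ := hB θ hθ
            refine le_trans ?_ (Finset.single_le_sum (f := fun χ : IrrCharacter G =>
              if χ ∈ principalBlock M G then (m χ θ * dH θ) ^ 2 else 0)
              (fun _ _ => Nat.zero_le _) (Finset.mem_univ χ))
            simp only [if_pos hχ]
            exact Nat.pow_le_pow_left (Nat.le_mul_of_pos_left _ (Nat.pos_of_ne_zero hne)) 2
          · rw [if_neg hθ]
            exact Nat.zero_le _
      _ = ∑ χ : IrrCharacter G, ∑ θ : IrrCharacter H,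
            (if χ ∈ principalBlock M G then (m χ θ * dH θ) ^ 2 else 0) := Finset.sum_comm
      _ ≤ ∑ χ : IrrCharacter G, (if χ ∈ principalBlock M G then dG χ ^ 2 else 0) := by
          refine Finset.sum_le_sum fun χ _ => ?_
          by_cases hχ : χ ∈ principalBlock M G
          · simp only [if_pos hχ]
            rw [hi χ]
            exact sum_sq_le_sq_sum_nat _ _
          · simp only [if_neg hχ, Finset.sum_const_zero]
            exact le_rfl
  · calc ∑ χ : IrrCharacter G, (if χ ∈ principalBlock M G then dG χ ^ 2 else 0)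
        = ∑ χ : IrrCharacter G, ∑ θ : IrrCharacter H,
            (if χ ∈ principalBlock M G then dG χ * (m χ θ * dH θ) else 0) := by
          refine Finset.sum_congr rfl fun χ _ => ?_
          by_cases hχ : χ ∈ principalBlock M G
          · simp only [if_pos hχ]
            rw [← Finset.mul_sum, ← hi χ, sq]
          · simp only [if_neg hχ, Finset.sum_const_zero]
      _ = ∑ θ : IrrCharacter H, ∑ χ : IrrCharacter G,
            (if χ ∈ principalBlock M G then dG χ * (m χ θ * dH θ) else 0) := Finset.sum_comm
      _ ≤ ∑ θ : IrrCharacter H, (if θ ∈ principalBlock M H then H.index * dH θ ^ 2 else 0) := by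
          refine Finset.sum_le_sum fun θ _ => ?_
          by_cases hθ : θ ∈ principalBlock M H
          · rw [if_pos hθ]
            calc ∑ χ : IrrCharacter G,
                  (if χ ∈ principalBlock M G then dG χ * (m χ θ * dH θ) else 0)
                ≤ ∑ χ : IrrCharacter G, (m χ θ * dG χ) * dH θ := by
                  refine Finset.sum_le_sum fun χ _ => ?_
                  split_ifs
                  · exact le_of_eq (by ring)
                  · exact Nat.zero_le _
              _ = H.index * dH θ ^ 2 := by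
                  rw [← Finset.sum_mul, hii θ]
                  ring
          · rw [if_neg hθ]
            refine le_of_eq (Finset.sum_eq_zero fun χ _ => ?_)
            by_cases hχ : χ ∈ principalBlock M G
            · rw [if_pos hχ]
              have h0 : m χ θ = 0 := by
                by_contra hne
                exact hθ (hA χ θ hχ hne)
              rw [h0, zero_mul, mul_zero]
            · rw [if_neg hχ]
      _ = H.index * ∑ θ : IrrCharacter H, (if θ ∈ principalBlock M H then dH θ ^ 2 else 0) := by
          rw [Finset.mul_sum]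
          refine Finset.sum_congr rfl fun θ _ => ?_
          split_ifs <;> simp

end Cfsg.Agent.Lib.Helper80.NormB0
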