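import Mathlib
import Cfsg.Agent.Lib.Helper80.Restrict
import Cfsg.Agent.Lib.Helper80.TISylow
import Cfsg.Agent.Lib.CT.LinChar
import Cfsg.Agent.Lib.CT.ThirdMain
import Cfsg.Agent.Lib.CT.Kernel
import Cfsg.Agent.Lib.Helper75.BlockOrth
import Cfsg.Agent.Lib.Helper75.PNilBlock
import Cfsg.Agent.Lib.Helper77.LocalRing
import Cfsg.Agent.Lib.Helper16.ZR
import Cfsg.Agent.Lib.Helper4.TateCor

/-!
The principal block and normal `p`-complements: a finite group has a normal `p`-complement if and
only if every irreducible character of degree prime to `p` in its principal `p`-block is linear.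
Namespace `Cfsg.Agent.Lib.Helper80.PNilB0`.
-/

set_option autoImplicit false

namespace Cfsg.Agent.Lib.Helper80.PNilB0

open Cfsg Cfsg.Agent.Lib.Helper80.Integrality Cfsg.Agent.Lib.Helper80.Restrict
open Cfsg.Agent.Lib.CT.Wedderburn Cfsg.Agent.Lib.CT.Orth
open Cfsg.Agent.Lib.CT.Clifford Cfsg.Agent.Lib.CT.Ops Cfsg.Agent.Lib.CT.LinChar
open Cfsg.Agent.Lib.CT.ThirdMain Cfsg.Agent.Lib.Helper77.LocalRing
open scoped ComplexConjugate

universe u
variable {G : Type u} [Group G]

/-- The irreducible character attached to a homomorphism into `ℂˣ`. -/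
noncomputable def ofHom (f : G →* ℂˣ) : IrrCharacter G :=
  ⟨fun g => ((f g : ℂˣ) : ℂ), isIrrCharacter_of_hom f⟩

theorem ofHom_apply (f : G →* ℂˣ) (g : G) : (ofHom f : G → ℂ) g = ((f g : ℂˣ) : ℂ) := rfl

theorem ofHom_injective : Function.Injective (ofHom (G := G)) := by
  intro f₁ f₂ h
  ext g
  have h1 := congrFun (congrArg Subtype.val h) g
  exact h1

/-- Twisting by a linear character preserves the block relation. -/
theorem sameBlock_linear_mul [Finite G] {M : Ideal AlgInt} (hMp : M.IsPrime) (f : G →* ℂˣ)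
    (χ ψ : G → ℂ) (h : SameBlock M χ ψ) :
    SameBlock M (fun g => ((f g : ℂˣ) : ℂ) * χ g) (fun g => ((f g : ℂˣ) : ℂ) * ψ g) := by
  intro g
  have h1 := h g
  have e : centralChar (fun g => ((f g : ℂˣ) : ℂ) * χ g) g
      - centralChar (fun g => ((f g : ℂˣ) : ℂ) * ψ g) g
      = ((f g : ℂˣ) : ℂ) * (centralChar χ g - centralChar ψ g) := by
    simp only [centralChar, map_one, Units.val_one, one_mul]
    ring
  rw [e]
  exact memLocalIdeal_mul_left hMp
    (memLocalRing_of_isIntegral hMp (isIntegral_irrCharacter (ofHom f) g)) h1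

/-- The linear characters in the principal block that are trivial on `P`, as a submonoid. -/
def linB0M [Finite G] (M : Ideal AlgInt) (hMp : M.IsPrime) (P : Subgroup G) :
    Submonoid (G →* ℂˣ) where
  carrier := {f | ofHom f ∈ principalBlock M G ∧ ∀ y ∈ P, f y = 1}
  one_mem' := by
    refine ⟨?_, fun y _ => rfl⟩
    have h1 : ofHom (1 : G →* ℂˣ) = triv G := by
      apply Subtype.ext
      funext g
      simp [ofHom, triv]
    rw [h1]
    exact triv_mem_principalBlock hMp
  mul_mem' := by
    rintro f₁ f₂ ⟨h1, h1'⟩ ⟨h2, h2'⟩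
    refine ⟨?_, fun y hy => by rw [MonoidHom.mul_apply, h1' y hy, h2' y hy, one_mul]⟩
    have h3 : SameBlock M (fun _ : G => (1 : ℂ)) (ofHom f₁ : G → ℂ) := h1
    have h4 : SameBlock M (fun _ : G => (1 : ℂ)) (ofHom f₂ : G → ℂ) := h2
    have h5 := sameBlock_linear_mul hMp f₁ _ _ h4
    have e1 : (fun g => ((f₁ g : ℂˣ) : ℂ) * (fun _ : G => (1 : ℂ)) g) = (ofHom f₁ : G → ℂ) := by
      funext g
      simp [ofHom]
    have e2 : (fun g => ((f₁ g : ℂˣ) : ℂ) * (ofHom f₂ : G → ℂ) g) = (ofHom (f₁ * f₂) : G → ℂ) := by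
      funext g
      simp [ofHom]
    rw [e1, e2] at h5
    exact Cfsg.Agent.Lib.Helper16.ZR.sameBlock_trans hMp h3 h5

/-- The linear characters in the principal block that are trivial on `P`, as a subgroup. -/
def linB0 [Finite G] (M : Ideal AlgInt) (hMp : M.IsPrime) (P : Subgroup G) :
    Subgroup (G →* ℂˣ) where
  toSubmonoid := linB0M M hMp P
  inv_mem' := by
    intro f hf
    have h1 : f ^ Nat.card G = 1 := by
      ext g
      simp only [MonoidHom.pow_apply, MonoidHom.one_apply, Units.val_pow_eq_pow_val,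
        Units.val_one]
      rw [← Units.val_pow_eq_pow_val, ← map_pow, pow_card_eq_one', map_one, Units.val_one]
    have h2 : f⁻¹ = f ^ (Nat.card G - 1) := by
      ext g
      rw [MonoidHom.inv_apply, MonoidHom.pow_apply]
      congr 1
      apply inv_eq_of_mul_eq_one_left
      rw [← pow_succ, Nat.sub_add_cancel Nat.card_pos, ← map_pow, pow_card_eq_one', map_one]
    rw [h2]
    exact (linB0M M hMp P).pow_mem hf _

theorem mem_linB0 [Finite G] (M : Ideal AlgInt) (hMp : M.IsPrime) (P : Subgroup G)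
    (f : G →* ℂˣ) : f ∈ linB0 M hMp P ↔ ofHom f ∈ principalBlock M G ∧ ∀ y ∈ P, f y = 1 :=
  Iff.rfl

instance finite_linB0 [Finite G] (M : Ideal AlgInt) (hMp : M.IsPrime) (P : Subgroup G) :
    Finite (linB0 M hMp P) := by
  have := finite_irrCharacter G
  exact Finite.of_injective (fun f : linB0 M hMp P => ofHom (f : G →* ℂˣ))
    (fun f₁ f₂ h => Subtype.ext (ofHom_injective h))

/-- The group of linear characters in the principal block trivial on a Sylow `p`-subgroup has
order prime to `p`. -/
theorem not_dvd_card_linB0 [Finite G] (p : ℕ) [Fact p.Prime] (M : Ideal AlgInt)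
    (hMp : M.IsPrime) (P : Sylow p G) : ¬ p ∣ Nat.card (linB0 M hMp (P : Subgroup G)) := by
  have hp : p.Prime := Fact.out
  intro hd
  obtain ⟨⟨f, hf⟩, hord⟩ := exists_prime_orderOf_dvd_card' p hd
  have hfp : f ^ p = 1 := by
    have h1 := pow_orderOf_eq_one (⟨f, hf⟩ : linB0 M hMp (P : Subgroup G))
    rw [hord] at h1
    exact congrArg Subtype.val h1
  have hf1 : f = 1 := by
    ext g
    rw [MonoidHom.one_apply, Units.val_one]
    have hG0 : Nat.card G ≠ 0 := Nat.card_pos.ne'
    set a := (Nat.card G).factorization p with ha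
    set m := Nat.card G / p ^ a with hm
    have hcop : Nat.Coprime p m := Nat.coprime_ordCompl hp hG0
    have hmul : p ^ a * m = Nat.card G := Nat.ordProj_mul_ordCompl_eq_self _ _
    have hpow : (g ^ m) ^ p ^ a = 1 := by
      rw [← pow_mul, mul_comm, hmul, pow_card_eq_one']
    obtain ⟨Q, hQ⟩ := (Cfsg.Agent.Lib.Helper80.TISylow.isPGroup_zpowers p (g ^ m) a hpow).exists_le_sylow
    obtain ⟨x, hx⟩ := MulAction.exists_smul_eq G P Q
    have hmem : g ^ m ∈ ((x • P : Sylow p G) : Subgroup G) := by
      rw [hx]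
      exact hQ (Subgroup.mem_zpowers _)
    rw [Sylow.coe_subgroup_smul, Subgroup.mem_pointwise_smul_iff_inv_smul_mem] at hmem
    have hmem' : (x⁻¹ * g * x) ^ m ∈ (P : Subgroup G) := by
      simpa [MulAut.smul_def] using hmem
    have h1 : f ((x⁻¹ * g * x) ^ m) = 1 := hf.2 _ hmem'
    have h2 : f g ^ m = 1 := by
      rw [map_pow, map_mul, map_mul, map_inv] at h1
      have e : (f x)⁻¹ * f g * f x = f g := by
        rw [mul_comm, ← mul_assoc, mul_inv_cancel, one_mul]
      rw [e] at h1
      exact h1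
    have h3 : f g ^ p = 1 := by
      have := congrArg (fun φ : G →* ℂˣ => φ g) hfp
      simpa using this
    have h4 : orderOf (f g) ∣ Nat.gcd p m :=
      Nat.dvd_gcd (orderOf_dvd_of_pow_eq_one h3) (orderOf_dvd_of_pow_eq_one h2)
    rw [hcop.gcd_eq_one, Nat.dvd_one, orderOf_eq_one_iff] at h4
    rw [h4, Units.val_one]
  have h5 : (⟨f, hf⟩ : linB0 M hMp (P : Subgroup G)) = 1 := Subtype.ext hf1
  rw [h5, orderOf_one] at hord
  exact hp.one_lt.ne hord

/-- The principal block is a block. -/
theorem isPBlock_principalBlock (M : Ideal AlgInt) : IsPBlock M (principalBlock M G) :=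
  ⟨triv G, rfl⟩

/-- Weak block orthogonality for the principal block, at the identity and a nontrivial element
of a Sylow `p`-subgroup. -/
theorem sum_indicator_eq_zero [Fintype G] [Fintype (IrrCharacter G)] (p : ℕ) [Fact p.Prime]
    (M : Ideal AlgInt) (hM : IsPModular p M) (P : Sylow p G) (y : G)
    (hy : y ∈ (P : Subgroup G)) (hy1 : y ≠ 1) :
    ∑ χ : IrrCharacter G, (principalBlock M G).indicator
      (fun χ : IrrCharacter G => (χ : G → ℂ) 1 * conj ((χ : G → ℂ) y)) χ = 0 := by
  have hp : p.Prime := Fact.out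
  have hdvd : p ∣ orderOf y := by
    obtain ⟨k, hk⟩ := P.isPGroup' ⟨y, hy⟩
    have hk' : y ^ p ^ k = 1 := by simpa using congrArg Subtype.val hk
    obtain ⟨j, -, hj⟩ := (Nat.dvd_prime_pow hp).mp (orderOf_dvd_of_pow_eq_one hk')
    have hj0 : j ≠ 0 := by
      rintro rfl
      rw [pow_zero, orderOf_eq_one_iff] at hj
      exact hy1 hj
    rw [hj]
    exact dvd_pow_self p hj0
  have h := Cfsg.Agent.Lib.Helper75.BlockOrth.weak_block_orthogonality p M hM (principalBlock M G)
    (isPBlock_principalBlock M) 1 y (by rw [orderOf_one]; exact hp.not_dvd_one) hdvd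
  rw [finsum_mem_def, finsum_eq_sum_of_fintype] at h
  exact h

/-- The sum over the principal block of `χ(1) [μ, χ_P]` does not depend on the linear character
`μ` of the Sylow `p`-subgroup `P`. -/
theorem sum_mul_classInner [Fintype G] [Fintype (IrrCharacter G)] (p : ℕ) [Fact p.Prime]
    (M : Ideal AlgInt) (hM : IsPModular p M) (P : Sylow p G) [Fintype (P : Subgroup G)]
    (μ : ↥(P : Subgroup G) → ℂ) (hμ1 : μ 1 = 1) :
    ∑ χ : IrrCharacter G, (principalBlock M G).indicator (fun χ : IrrCharacter G =>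
        (χ : G → ℂ) 1 * classInner μ (fun y : (P : Subgroup G) => (χ : G → ℂ) y)) χ
      = (Nat.card (P : Subgroup G) : ℂ)⁻¹ * ∑ χ : IrrCharacter G, (principalBlock M G).indicator
        (fun χ : IrrCharacter G => (χ : G → ℂ) 1 * conj ((χ : G → ℂ) 1)) χ := by
  classical
  have h1 : ∀ χ : IrrCharacter G, (principalBlock M G).indicator (fun χ : IrrCharacter G =>
        (χ : G → ℂ) 1 * classInner μ (fun y : (P : Subgroup G) => (χ : G → ℂ) y)) χ
      = (Nat.card (P : Subgroup G) : ℂ)⁻¹ * ∑ y : (P : Subgroup G),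
        μ y * (principalBlock M G).indicator
          (fun χ : IrrCharacter G => (χ : G → ℂ) 1 * conj ((χ : G → ℂ) (y : G))) χ := by
    intro χ
    by_cases hχ : χ ∈ principalBlock M G
    · simp only [Set.indicator_of_mem hχ, classInner]
      rw [Finset.mul_sum, Finset.mul_sum, Finset.mul_sum]
      refine Finset.sum_congr rfl fun y _ => ?_
      ring
    · simp only [Set.indicator_of_notMem hχ, mul_zero, Finset.sum_const_zero]
  rw [Finset.sum_congr rfl (fun χ _ => h1 χ), ← Finset.mul_sum, Finset.sum_comm]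
  congr 1
  rw [Finset.sum_eq_single (1 : (P : Subgroup G))]
  · rw [← Finset.mul_sum, hμ1, one_mul]
    rfl
  · intro y _ hy
    rw [← Finset.mul_sum, sum_indicator_eq_zero p M hM P y y.2
      (fun h => hy (Subtype.ext h)), mul_zero]
  · intro h
    exact absurd (Finset.mem_univ _) h

/-- If every irreducible character of degree prime to `p` in the principal block is linear, then
every linear character of a Sylow `p`-subgroup extends to a linear character of the group. -/
theorem exists_extension [Finite G] (p : ℕ) [Fact p.Prime] (M : Ideal AlgInt)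
    (hM : IsPModular p M) (P : Sylow p G)
    (hlin : ∀ χ : IrrCharacter G, χ ∈ principalBlock M G →
      ¬ p ∣ charDegree (χ : G → ℂ) → charDegree (χ : G → ℂ) = 1)
    (ν : (P : Subgroup G) →* ℂˣ) :
    ∃ f : G →* ℂˣ, ∀ y : (P : Subgroup G), f y = ν y := by
  classical
  have hp : p.Prime := Fact.out
  have hMp := isPrime_of_isPModular hM
  have : Fintype G := Fintype.ofFinite G
  have := finite_irrCharacter G
  have : Fintype (IrrCharacter G) := Fintype.ofFinite (IrrCharacter G)
  have : Fintype (P : Subgroup G) := Fintype.ofFinite _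
  set B := principalBlock M G with hB
  have key : ∀ ν : (P : Subgroup G) →* ℂˣ, ∃ N : ℕ,
      (N : ℂ) = (Nat.card (P : Subgroup G) : ℂ)⁻¹ * ∑ χ : IrrCharacter G, B.indicator
        (fun χ : IrrCharacter G => (χ : G → ℂ) 1 * conj ((χ : G → ℂ) 1)) χ ∧
      (N : ZMod p) = ((Finset.univ.filter (fun χ : IrrCharacter G =>
        χ ∈ B ∧ charDegree (χ : G → ℂ) = 1 ∧
          ∀ y : (P : Subgroup G), (χ : G → ℂ) y = ((ν y : ℂˣ) : ℂ))).card : ZMod p) := by
    intro ν
    set μ : ↥(P : Subgroup G) → ℂ := fun y => ((ν y : ℂˣ) : ℂ) with hμ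
    have hμi : IsIrrCharacter (P : Subgroup G) μ := isIrrCharacter_of_hom ν
    have hμc : IsCharacter (P : Subgroup G) μ := isCharacter_of_irr hμi
    have hn : ∀ χ : IrrCharacter G, ∃ n : ℕ,
        classInner μ (fun y : (P : Subgroup G) => (χ : G → ℂ) y) = n := fun χ =>
      classInner_char_nat hμc (isCharacter_restrict (P : Subgroup G) (isCharacter_of_irr χ.2))
    choose n hn using hn
    refine ⟨∑ χ : IrrCharacter G, if χ ∈ B then charDegree (χ : G → ℂ) * n χ else 0, ?_, ?_⟩
    · rw [← sum_mul_classInner p M hM P μ (by simp [hμ])]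
      push_cast
      refine Finset.sum_congr rfl fun χ _ => ?_
      by_cases hχ : χ ∈ B
      · rw [if_pos hχ, Set.indicator_of_mem hχ, hn χ,
          apply_one_eq_charDegree (isCharacter_of_irr χ.2)]
      · rw [if_neg hχ, Set.indicator_of_notMem hχ]
    · rw [Nat.cast_sum, Finset.card_filter, Nat.cast_sum]
      refine Finset.sum_congr rfl fun χ _ => ?_
      by_cases hχ : χ ∈ B
      · by_cases hd : p ∣ charDegree (χ : G → ℂ)
        · have h1 : ¬ (χ ∈ B ∧ charDegree (χ : G → ℂ) = 1 ∧
              ∀ y : (P : Subgroup G), (χ : G → ℂ) y = ((ν y : ℂˣ) : ℂ)) := fun h => by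
            rw [h.2.1] at hd
            exact hp.not_dvd_one hd
          rw [if_pos hχ, if_neg h1]
          push_cast
          rw [(ZMod.natCast_eq_zero_iff _ _).mpr hd, zero_mul]
        · have hd1 := hlin χ hχ hd
          have hχ1 : (χ : G → ℂ) 1 = 1 := by
            rw [apply_one_eq_charDegree (isCharacter_of_irr χ.2), hd1]
            simp
          have hres : IsIrrCharacter (P : Subgroup G)
              (fun y : (P : Subgroup G) => (χ : G → ℂ) y) :=
            isIrrCharacter_of_linear (isCharacter_restrict _ (isCharacter_of_irr χ.2)) hχ1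
          have h2 := irr_orthonormal (⟨μ, hμi⟩ : IrrCharacter (P : Subgroup G)) ⟨_, hres⟩
          by_cases he : ∀ y : (P : Subgroup G), (χ : G → ℂ) y = ((ν y : ℂˣ) : ℂ)
          · have h3 : n χ = 1 := by
              have h5 : (⟨μ, hμi⟩ : IrrCharacter (P : Subgroup G)) = ⟨_, hres⟩ :=
                Subtype.ext (funext fun y => (he y).symm)
              rw [if_pos h5] at h2
              have h4 : (n χ : ℂ) = 1 := (hn χ).symm.trans h2
              exact_mod_cast h4
            rw [if_pos hχ, if_pos ⟨hχ, hd1, he⟩, hd1, h3]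
          · have h3 : n χ = 0 := by
              have h5 : (⟨μ, hμi⟩ : IrrCharacter (P : Subgroup G)) ≠ ⟨_, hres⟩ := fun h =>
                he (fun y => (congrFun (congrArg Subtype.val h) y).symm)
              rw [if_neg h5] at h2
              have h4 : (n χ : ℂ) = 0 := (hn χ).symm.trans h2
              exact_mod_cast h4
            rw [if_pos hχ, if_neg (fun h => he h.2.2), h3]
            simp
      · rw [if_neg hχ, if_neg (fun h => hχ h.1)]
  obtain ⟨N, hN1, hN2⟩ := key ν
  obtain ⟨N', hN'1, hN'2⟩ := key 1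
  have hNN : N = N' := by exact_mod_cast hN1.trans hN'1.symm
  have hcard : (Finset.univ.filter (fun χ : IrrCharacter G =>
      χ ∈ B ∧ charDegree (χ : G → ℂ) = 1 ∧ ∀ y : (P : Subgroup G),
        (χ : G → ℂ) y = ((((1 : (P : Subgroup G) →* ℂˣ) y : ℂˣ)) : ℂ))).card
      = Nat.card (linB0 M hMp (P : Subgroup G)) := by
    rw [← Nat.card_eq_finsetCard]
    symm
    refine Nat.card_congr (Equiv.ofBijective (fun f => ⟨ofHom (f : G →* ℂˣ), ?_⟩) ⟨?_, ?_⟩)
    · rw [Finset.mem_filter]
      refine ⟨Finset.mem_univ _, f.2.1, ?_, fun y => ?_⟩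
      · simp [charDegree, ofHom]
      · rw [ofHom_apply, f.2.2 y y.2]
        simp
    · intro f₁ f₂ h
      exact Subtype.ext (ofHom_injective (congrArg Subtype.val h))
    · rintro ⟨χ, hχ⟩
      rw [Finset.mem_filter] at hχ
      obtain ⟨-, hχB, hd1, he⟩ := hχ
      have hχ1 : (χ : G → ℂ) 1 = 1 := by
        rw [apply_one_eq_charDegree (isCharacter_of_irr χ.2), hd1]
        simp
      obtain ⟨f, hf⟩ := exists_hom_of_isCharacter (χ : G → ℂ) (isCharacter_of_irr χ.2) hχ1
      have hfχ : ofHom f = χ := Subtype.ext (funext fun g => (hf g).symm)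
      refine ⟨⟨f, ?_, fun y hy => Units.ext ?_⟩, Subtype.ext hfχ⟩
      · rw [hfχ]
        exact hχB
      · rw [← hf, he ⟨y, hy⟩]
        simp
  have hnd := not_dvd_card_linB0 p M hMp P
  have hne : (Finset.univ.filter (fun χ : IrrCharacter G =>
      χ ∈ B ∧ charDegree (χ : G → ℂ) = 1 ∧
        ∀ y : (P : Subgroup G), (χ : G → ℂ) y = ((ν y : ℂˣ) : ℂ))).Nonempty := by
    rw [Finset.nonempty_iff_ne_empty]
    intro hempty
    rw [hempty, Finset.card_empty, Nat.cast_zero, hNN, hN'2, hcard] at hN2
    exact hnd ((ZMod.natCast_eq_zero_iff _ _).mp hN2)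
  obtain ⟨χ, hχ⟩ := hne
  rw [Finset.mem_filter] at hχ
  obtain ⟨-, -, hd1, he⟩ := hχ
  have hχ1 : (χ : G → ℂ) 1 = 1 := by
    rw [apply_one_eq_charDegree (isCharacter_of_irr χ.2), hd1]
    simp
  obtain ⟨f, hf⟩ := exists_hom_of_isCharacter (χ : G → ℂ) (isCharacter_of_irr χ.2) hχ1
  refine ⟨f, fun y => Units.ext ?_⟩
  rw [← hf, he y]

/-- A normal subgroup of index `p` is the kernel of a linear character. -/
theorem exists_hom_ker_le {Q : Type*} [Group Q] (p : ℕ) [Fact p.Prime]
    (M₁ : Subgroup Q) [M₁.Normal] (hidx : M₁.index = p) :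
    ∃ ν : Q →* ℂˣ, ∀ x : Q, ν x = 1 → x ∈ M₁ := by
  have hp : p.Prime := Fact.out
  have hcard : Nat.card (Q ⧸ M₁) = p := by
    rw [← Subgroup.index_eq_card]
    exact hidx
  have hcyc : IsCyclic (Q ⧸ M₁) := isCyclic_of_prime_card hcard
  obtain ⟨g, hg⟩ := hcyc.exists_generator
  have hog : orderOf g = p := by
    rw [orderOf_eq_card_of_forall_mem_zpowers hg, hcard]
  have hζ := Complex.isPrimitiveRoot_exp p hp.ne_zero
  obtain ⟨ζ, hζ'⟩ := hζ.isUnit hp.ne_zero
  have hζu : IsPrimitiveRoot ζ p := by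
    rw [← IsPrimitiveRoot.coe_units_iff, hζ']
    exact hζ
  have hoζ : orderOf ζ = p := hζu.eq_orderOf.symm
  let φ : Q ⧸ M₁ →* ℂˣ := monoidHomOfForallMemZpowers hg (g' := ζ) (by rw [hoζ, hog])
  have hφg : φ g = ζ := monoidHomOfForallMemZpowers_apply_gen hg _
  have : Fact (Nat.card (Q ⧸ M₁)).Prime := ⟨by rw [hcard]; exact hp⟩
  have hker : φ.ker = ⊥ := by
    rcases Subgroup.eq_bot_or_eq_top_of_prime_card φ.ker with h | h
    · exact h
    · exfalso
      have h1 : g ∈ φ.ker := by
        rw [h]
        exact Subgroup.mem_top g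
      rw [MonoidHom.mem_ker, hφg] at h1
      rw [h1, orderOf_one] at hoζ
      exact hp.one_lt.ne hoζ
  refine ⟨φ.comp (QuotientGroup.mk' M₁), fun x hx => ?_⟩
  have h1 : QuotientGroup.mk' M₁ x ∈ φ.ker := hx
  rw [hker, Subgroup.mem_bot] at h1
  exact (QuotientGroup.eq_one_iff x).mp h1

/-- If every irreducible character of degree prime to `p` in the principal `p`-block is linear,
then the group has a normal `p`-complement. -/
theorem hasNormalPComplement_of_linear [Finite G] (p : ℕ) [Fact p.Prime] (M : Ideal AlgInt)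
    (hM : IsPModular p M)
    (hlin : ∀ χ : IrrCharacter G, χ ∈ principalBlock M G →
      ¬ p ∣ charDegree (χ : G → ℂ) → charDegree (χ : G → ℂ) = 1) :
    HasNormalPComplement p G := by
  have hp : p.Prime := Fact.out
  let P : Sylow p G := default
  have := Cfsg.Agent.Lib.Helper34.PResidual.pResidual_normal p G
  refine Cfsg.Agent.Lib.Helper4.TateCor.hasNormalPComplement_of_tate P (pResidual p G) le_rfl ?_
  intro M₁ hM₁n hM₁idx
  obtain ⟨ν, hν⟩ := exists_hom_ker_le p M₁ hM₁idx
  obtain ⟨f, hf⟩ := exists_extension p M hM P hlin ν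
  intro x hx
  apply hν
  rw [← hf x]
  have hx' : (x : G) ∈ pResidual p G := hx
  set a := (Nat.card G).factorization p with ha
  set m := Nat.card G / p ^ a with hm
  have hcop : Nat.Coprime p m := Nat.coprime_ordCompl hp Nat.card_pos.ne'
  have hmul : p ^ a * m = Nat.card G := Nat.ordProj_mul_ordCompl_eq_self _ _
  have h1 : pResidual p G ≤ ((powMonoidHom m : ℂˣ →* ℂˣ).ker).comap f := by
    unfold pResidual
    rw [Subgroup.closure_le]
    intro g hg
    have hg' : Nat.Coprime (orderOf g) p := hg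
    have h2 : orderOf g ∣ m := by
      have h3 : orderOf g ∣ p ^ a * m := by
        rw [hmul]
        exact orderOf_dvd_natCard g
      exact (Nat.Coprime.pow_right a hg').dvd_of_dvd_mul_left h3
    show f g ∈ (powMonoidHom m : ℂˣ →* ℂˣ).ker
    rw [MonoidHom.mem_ker, powMonoidHom_apply, ← map_pow, orderOf_dvd_iff_pow_eq_one.mp h2,
      map_one]
  have h2 : f (x : G) ^ m = 1 := by
    have h3 := h1 hx'
    rwa [Subgroup.mem_comap, MonoidHom.mem_ker, powMonoidHom_apply] at h3
  obtain ⟨k, hk⟩ := P.isPGroup' x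
  have h3 : f (x : G) ^ p ^ k = 1 := by
    have h4 : (x : G) ^ p ^ k = 1 := by
      have := congrArg Subtype.val hk
      simpa using this
    rw [← map_pow, h4, map_one]
  have h4 : orderOf (f (x : G)) ∣ Nat.gcd (p ^ k) m :=
    Nat.dvd_gcd (orderOf_dvd_of_pow_eq_one h3) (orderOf_dvd_of_pow_eq_one h2)
  rw [(Nat.Coprime.pow_left k hcop).gcd_eq_one, Nat.dvd_one, orderOf_eq_one_iff] at h4
  exact h4

/-- In a group with a normal `p`-complement, the irreducible characters of degree prime to `p`
in the principal `p`-block are linear. -/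
theorem charDegree_eq_one_of_hasNormalPComplement [Finite G] (p : ℕ) [Fact p.Prime]
    (M : Ideal AlgInt) (hM : IsPModular p M) (h : HasNormalPComplement p G)
    (χ : IrrCharacter G) (hχ : χ ∈ principalBlock M G) (hd : ¬ p ∣ charDegree (χ : G → ℂ)) :
    charDegree (χ : G → ℂ) = 1 := by
  have hp : p.Prime := Fact.out
  obtain ⟨P, K, hKn, hKc⟩ := h
  have hcard : Nat.card K * Nat.card (P : Subgroup G) = Nat.card G := hKc.card_mul_card
  have hidx : (P : Subgroup G).index * Nat.card (P : Subgroup G) = Nat.card G := by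
    rw [mul_comm]
    exact Subgroup.card_mul_index _
  have hKP : Nat.card K = (P : Subgroup G).index :=
    Nat.eq_of_mul_eq_mul_right Nat.card_pos (hcard.trans hidx.symm)
  have hK : ¬ p ∣ Nat.card K := by
    rw [hKP]
    exact P.not_dvd_index
  have hker := Cfsg.Agent.Lib.Helper75.PNilBlock.apply_eq_of_mem_principalBlock p M hM K hK χ hχ
  obtain ⟨χbar, hχbar, hval⟩ := Cfsg.Agent.Lib.CT.Kernel.exists_quotient_irr (N := K) χ.2 hker
  have hdvd := charDegree_dvd_card (⟨χbar, hχbar⟩ : IrrCharacter (G ⧸ K))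
  have hdeg : charDegree χbar = charDegree (χ : G → ℂ) := by
    unfold charDegree
    rw [← hval 1]
    rfl
  have hq : Nat.card (G ⧸ K) = Nat.card (P : Subgroup G) := by
    rw [← Subgroup.index_eq_card]
    have h1 : Nat.card K * K.index = Nat.card G := Subgroup.card_mul_index K
    exact Nat.eq_of_mul_eq_mul_left Nat.card_pos (h1.trans hcard.symm)
  obtain ⟨k, hk⟩ := IsPGroup.iff_card.mp P.isPGroup'
  have hdvd' : charDegree (χ : G → ℂ) ∣ p ^ k := by
    rw [← hk, ← hq, ← hdeg]
    exact hdvd
  obtain ⟨j, -, hj⟩ := (Nat.dvd_prime_pow hp).mp hdvd'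
  by_contra hne
  have hj0 : j ≠ 0 := by
    rintro rfl
    exact hne (by simpa using hj)
  exact hd (hj ▸ dvd_pow_self p hj0)

/-- In the principal block the height of a character is the `p`-part of its degree. -/
theorem blockHeight_principalBlock (p : ℕ) (M : Ideal AlgInt) (hMp : M.IsPrime)
    (χ : G → ℂ) :
    blockHeight p (principalBlock M G) χ = (charDegree χ).factorization p := by
  unfold blockHeight
  have h0 : sInf ((fun ψ : IrrCharacter G => (charDegree (ψ : G → ℂ)).factorization p) ''
      principalBlock M G) = 0 := by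
    apply Nat.eq_zero_of_le_zero
    apply Nat.sInf_le
    refine ⟨triv G, triv_mem_principalBlock hMp, ?_⟩
    simp [charDegree, triv]
  rw [h0, Nat.sub_zero]

/-- All height-zero characters of the principal `p`-block have the same degree if and only if
the group has a normal `p`-complement. -/
theorem height_zero_same_degree_iff [Finite G] (p : ℕ) [Fact p.Prime] (M : Ideal AlgInt)
    (hM : IsPModular p M) :
    (∃ d : ℕ, ∀ χ : IrrCharacter G, χ ∈ principalBlock M G →
      blockHeight p (principalBlock M G) (χ : G → ℂ) = 0 → charDegree (χ : G → ℂ) = d) ↔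
      HasNormalPComplement p G := by
  have hMp := isPrime_of_isPModular hM
  have hp : p.Prime := Fact.out
  have hht : ∀ χ : IrrCharacter G,
      blockHeight p (principalBlock M G) (χ : G → ℂ) = 0 ↔ ¬ p ∣ charDegree (χ : G → ℂ) := by
    intro χ
    rw [blockHeight_principalBlock p M hMp, Nat.factorization_eq_zero_iff]
    constructor
    · rintro (h | h | h)
      · exact absurd hp h
      · exact h
      · exact absurd h (charDegree_pos χ).ne'
    · intro h
      exact Or.inr (Or.inl h)
  have htriv : charDegree ((triv G : IrrCharacter G) : G → ℂ) = 1 := by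
    simp [charDegree, triv]
  constructor
  · rintro ⟨d, hd⟩
    have hd1 : d = 1 := by
      have h1 := hd (triv G) (triv_mem_principalBlock hMp)
        ((hht _).mpr (by rw [htriv]; exact hp.not_dvd_one))
      rw [htriv] at h1
      exact h1.symm
    subst hd1
    exact hasNormalPComplement_of_linear p M hM (fun χ hχ hnd => hd χ hχ ((hht χ).mpr hnd))
  · intro h
    exact ⟨1, fun χ hχ hh =>
      charDegree_eq_one_of_hasNormalPComplement p M hM h χ hχ ((hht χ).mp hh)⟩

end Cfsg.Agent.Lib.Helper80.PNilB0
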