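import Mathlib
import Cfsg.Agent.Lib.Helper80.PNilB0
import Cfsg.Agent.Lib.Helper75.GaloisBlock
import Cfsg.Agent.Lib.Helper76.GaloisConj

/-!
A Galois-refined criterion for a normal `2`-complement: with `k` inducing on the group the power
map attached to the Galois automorphism that cubes the `2`-power roots of unity and fixes the roots
of unity of odd order, a finite group has a normal `2`-complement if and only if every
odd-degree irreducible character of the principal `2`-block that is fixed by `g ↦ g ^ k` is linear.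
Namespace `Cfsg.Agent.Lib.Helper80.PNilGalois`.
-/

set_option autoImplicit false

namespace Cfsg.Agent.Lib.Helper80.PNilGalois

open Cfsg Cfsg.Agent.Lib.Helper80.Integrality Cfsg.Agent.Lib.Helper80.Restrict
open Cfsg.Agent.Lib.CT.Wedderburn Cfsg.Agent.Lib.CT.Orth
open Cfsg.Agent.Lib.CT.Clifford Cfsg.Agent.Lib.CT.Ops Cfsg.Agent.Lib.CT.LinChar
open Cfsg.Agent.Lib.CT.ThirdMain Cfsg.Agent.Lib.Helper77.LocalRing
open Cfsg.Agent.Lib.Helper80.PNilB0 Cfsg.Agent.Lib.Helper75.RealBlock2
open scoped ComplexConjugate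

universe u
variable {G : Type u} [Group G]

/-- Every element of a finite group is a product of commuting elements `u`, `v` with the order of
`u` prime to `p` and the order of `v` a power of `p`. -/
theorem exists_decomp [Finite G] (p : ℕ) [Fact p.Prime] (g : G) :
    ∃ u v : G, g = u * v ∧ Commute u v ∧ ¬ p ∣ orderOf u ∧ ∃ j : ℕ, orderOf v = p ^ j := by
  have hp : p.Prime := Fact.out
  have hG0 : Nat.card G ≠ 0 := Nat.card_pos.ne'
  set a := (Nat.card G).factorization p with ha
  set m := Nat.card G / p ^ a with hm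
  have hcop : Nat.Coprime (p ^ a) m := Nat.Coprime.pow_left a (Nat.coprime_ordCompl hp hG0)
  have hmul : p ^ a * m = Nat.card G := Nat.ordProj_mul_ordCompl_eq_self _ _
  obtain ⟨c, hc1, hc2⟩ := Nat.chineseRemainder hcop 0 1
  obtain ⟨c', hc'1, hc'2⟩ := Nat.chineseRemainder hcop 1 0
  refine ⟨g ^ c, g ^ c', ?_, (Commute.refl g).pow_pow c c', ?_, ?_⟩
  · rw [← pow_add]
    have h1 : c + c' ≡ 1 [MOD p ^ a * m] := by
      rw [← Nat.modEq_and_modEq_iff_modEq_mul hcop]
      exact ⟨by simpa using hc1.add hc'1, by simpa using hc2.add hc'2⟩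
    rw [hmul] at h1
    have h2 : c + c' ≡ 1 [MOD orderOf g] := h1.of_dvd (orderOf_dvd_natCard g)
    have h3 := (pow_eq_pow_iff_modEq (x := g)).mpr h2
    rw [h3, pow_one]
  · have h1 : (g ^ c) ^ m = 1 := by
      rw [← pow_mul]
      obtain ⟨t, ht⟩ := (Nat.modEq_zero_iff_dvd).mp hc1
      rw [ht, mul_assoc, mul_comm t m, ← mul_assoc, hmul, pow_mul, pow_card_eq_one', one_pow]
    intro hd
    have h2 : p ∣ m := hd.trans (orderOf_dvd_of_pow_eq_one h1)
    exact (Nat.not_dvd_ordCompl hp hG0) h2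
  · have h1 : (g ^ c') ^ (p ^ a) = 1 := by
      rw [← pow_mul]
      obtain ⟨t, ht⟩ := (Nat.modEq_zero_iff_dvd).mp hc'2
      rw [ht, mul_comm (m * t), ← mul_assoc, hmul, pow_mul, pow_card_eq_one', one_pow]
    obtain ⟨j, -, hj⟩ := (Nat.dvd_prime_pow hp).mp (orderOf_dvd_of_pow_eq_one h1)
    exact ⟨j, hj⟩

/-- `3 ^ (2 ^ a) ≡ 1` modulo `2 ^ j` for `j ≤ a`. -/
theorem three_pow_modEq (a j : ℕ) (hj : j ≤ a) : 3 ^ (2 ^ a) ≡ 1 [MOD 2 ^ j] := by
  rcases Nat.eq_zero_or_pos j with rfl | hjpos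
  · rw [pow_zero]
    exact Nat.modEq_one
  · have h1 : Nat.Coprime 3 (2 ^ j) := Nat.Coprime.pow_right j (by norm_num)
    have h2 := Nat.ModEq.pow_totient h1
    rw [Nat.totient_prime_pow Nat.prime_two hjpos] at h2
    have h3 : 2 ^ a = 2 ^ (j - 1) * (2 - 1) * 2 ^ (a - (j - 1)) := by
      rw [show (2 - 1 : ℕ) = 1 from rfl, mul_one, ← pow_add]
      congr 1
      omega
    rw [h3, pow_mul]
    have h4 := h2.pow (2 ^ (a - (j - 1)))
    rwa [one_pow] at h4

section Power

variable (k : ℕ) (hk₁ : ∀ g : G, (∃ j : ℕ, orderOf g = 2 ^ j) → g ^ k = g ^ 3)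
  (hk₂ : ∀ g : G, Odd (orderOf g) → g ^ k = g)

include hk₁ in
theorem pow_pow_two (n : ℕ) (g : G) (hg : ∃ j : ℕ, orderOf g = 2 ^ j) :
    g ^ (k ^ n) = g ^ (3 ^ n) := by
  induction n with
  | zero => simp
  | succ n ih =>
    rw [pow_succ, pow_mul, ih, pow_succ 3 n, pow_mul]
    apply hk₁
    obtain ⟨j, hj⟩ := hg
    have h1 : orderOf (g ^ 3 ^ n) ∣ 2 ^ j := hj ▸ orderOf_pow_dvd (3 ^ n)
    obtain ⟨i, -, hi⟩ := (Nat.dvd_prime_pow Nat.prime_two).mp h1
    exact ⟨i, hi⟩

include hk₂ in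
theorem pow_pow_odd (n : ℕ) (g : G) (hg : Odd (orderOf g)) : g ^ (k ^ n) = g := by
  induction n with
  | zero => simp
  | succ n ih => rw [pow_succ, pow_mul, ih, hk₂ g hg]

include hk₁ hk₂ in
theorem pow_pow_card [Finite G] (g : G) :
    g ^ (k ^ (2 ^ (Nat.card G).factorization 2)) = g := by
  have := Nat.fact_prime_two
  obtain ⟨u, v, rfl, hcomm, hu, j, hj⟩ := exists_decomp 2 g
  have hu' : Odd (orderOf u) := Nat.odd_iff.mpr (Nat.two_dvd_ne_zero.mp hu)
  rw [hcomm.mul_pow, pow_pow_odd k hk₂ _ u hu', pow_pow_two k hk₁ _ v ⟨j, hj⟩]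
  congr 1
  have hja : j ≤ (Nat.card G).factorization 2 := by
    rw [← Nat.Prime.pow_dvd_iff_le_factorization Nat.prime_two Nat.card_pos.ne', ← hj]
    exact orderOf_dvd_natCard v
  have h1 := three_pow_modEq _ j hja
  rw [← hj] at h1
  have h2 := (pow_eq_pow_iff_modEq (x := v)).mpr h1
  rw [h2, pow_one]

include hk₁ hk₂ in
theorem coprime_card [Finite G] : k.Coprime (Nat.card G) := by
  by_contra h
  obtain ⟨r, hr, hrk, hrG⟩ := Nat.Prime.not_coprime_iff_dvd.mp h
  have := Fact.mk hr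
  obtain ⟨g, hg⟩ := exists_prime_orderOf_dvd_card' r hrG
  have hg1 : g ≠ 1 := by
    rintro rfl
    rw [orderOf_one] at hg
    exact hr.one_lt.ne hg
  have hgk : g ^ k = 1 := by
    obtain ⟨t, rfl⟩ := hrk
    rw [pow_mul, ← hg, pow_orderOf_eq_one, one_pow]
  rcases hr.eq_two_or_odd' with h2 | hodd
  · have h3 := hk₁ g ⟨1, by rw [hg, h2, pow_one]⟩
    rw [hgk] at h3
    have h4 : g ^ 3 = g := by
      have h5 : g ^ 2 = 1 := by rw [← h2, ← hg, pow_orderOf_eq_one]
      rw [pow_succ, h5, one_mul]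
    exact hg1 (h4 ▸ h3.symm)
  · have h3 := hk₂ g (hg ▸ hodd)
    rw [hgk] at h3
    exact hg1 h3.symm

end Power

/-- A permutation of `2`-power order on a finite set: the cardinality of a stable subset is
congruent modulo `2` to the number of its fixed points. -/
theorem card_modEq_card_fixed {α : Type*} [Finite α] (e : Equiv.Perm α) (a : ℕ)
    (he : e ^ 2 ^ a = 1) (q : α → Prop) (hq : ∀ x, q x ↔ q (e x)) :
    Nat.card {x // q x} ≡ Nat.card {x // q x ∧ e x = x} [MOD 2] := by
  have := Nat.fact_prime_two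
  set e' : Equiv.Perm {x // q x} := e.subtypePerm (fun x => (hq x).symm) with he'
  have he'pow : e' ^ 2 ^ a = 1 := by
    rw [he', Equiv.Perm.subtypePerm_pow]
    ext x
    simp [he]
  have hH : IsPGroup 2 (Subgroup.zpowers e') :=
    Cfsg.Agent.Lib.Helper80.TISylow.isPGroup_zpowers 2 e' a he'pow
  have h1 := hH.card_modEq_card_fixedPoints {x // q x}
  have h2 : Nat.card (MulAction.fixedPoints (Subgroup.zpowers e') {x // q x})
      = Nat.card {x // q x ∧ e x = x} := by
    refine Nat.card_congr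
      { toFun := fun x => ⟨x.1.1, x.1.2, ?_⟩
        invFun := fun x => ⟨⟨x.1, x.2.1⟩, ?_⟩
        left_inv := fun x => rfl
        right_inv := fun x => rfl }
    · have h3 := x.2 ⟨e', Subgroup.mem_zpowers e'⟩
      exact congrArg Subtype.val h3
    · rintro ⟨h, hh⟩
      obtain ⟨i, rfl⟩ := Subgroup.mem_zpowers_iff.mp hh
      show (e' ^ i) ⟨x.1, x.2.1⟩ = ⟨x.1, x.2.1⟩
      exact Equiv.Perm.zpow_apply_eq_self_of_apply_eq_self (Subtype.ext x.2.2) i
  rw [h2] at h1
  exact h1

/-- A linear character trivial on a Sylow `p`-subgroup is trivial on every `p`-element. -/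
theorem hom_eq_one_of_sylow [Finite G] (p : ℕ) [Fact p.Prime] (P : Sylow p G) (f : G →* ℂˣ)
    (hf : ∀ y ∈ (P : Subgroup G), f y = 1) (v : G) (j : ℕ) (hv : v ^ p ^ j = 1) : f v = 1 := by
  obtain ⟨Q, hQ⟩ := (Cfsg.Agent.Lib.Helper80.TISylow.isPGroup_zpowers p v j hv).exists_le_sylow
  obtain ⟨x, hx⟩ := MulAction.exists_smul_eq G P Q
  have hmem : v ∈ ((x • P : Sylow p G) : Subgroup G) := by
    rw [hx]
    exact hQ (Subgroup.mem_zpowers _)
  rw [Sylow.coe_subgroup_smul, Subgroup.mem_pointwise_smul_iff_inv_smul_mem] at hmem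
  have hmem' : x⁻¹ * v * x ∈ (P : Subgroup G) := by
    simpa [MulAut.smul_def] using hmem
  have h1 : f (x⁻¹ * v * x) = 1 := hf _ hmem'
  rw [map_mul, map_mul, map_inv] at h1
  have e : (f x)⁻¹ * f v * f x = f v := by
    rw [mul_comm, ← mul_assoc, mul_inv_cancel, one_mul]
  rw [e] at h1
  exact h1

/-- A normal subgroup of index `p` is the kernel of a linear character of order `p`. -/
theorem exists_hom_ker_le' {Q : Type*} [Group Q] (p : ℕ) [Fact p.Prime]
    (M₁ : Subgroup Q) [M₁.Normal] (hidx : M₁.index = p) :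
    ∃ ν : Q →* ℂˣ, (∀ x : Q, ν x = 1 → x ∈ M₁) ∧ ∀ x : Q, ν x ^ p = 1 := by
  have hp : p.Prime := Fact.out
  have hcard : Nat.card (Q ⧸ M₁) = p := by
    rw [← Subgroup.index_eq_card]
    exact hidx
  have hcyc : IsCyclic (Q ⧸ M₁) := isCyclic_of_prime_card hcard
  obtain ⟨g, hg⟩ := hcyc.exists_generator
  have hog : orderOf g = p := by
    rw [orderOf_eq_card_of_forall_mem_zpowers hg, hcard]
  have hζ := Complex.isPrimitiveRoot_exp p hp.ne_zero
  obtain ⟨ζ, hζ'⟩ := hζ.isUnit hp.ne_zero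
  have hζu : IsPrimitiveRoot ζ p := by
    rw [← IsPrimitiveRoot.coe_units_iff, hζ']
    exact hζ
  have hoζ : orderOf ζ = p := hζu.eq_orderOf.symm
  let φ : Q ⧸ M₁ →* ℂˣ := monoidHomOfForallMemZpowers hg (g' := ζ) (by rw [hoζ, hog])
  have hφg : φ g = ζ := monoidHomOfForallMemZpowers_apply_gen hg _
  have : Fact (Nat.card (Q ⧸ M₁)).Prime := ⟨by rw [hcard]; exact hp⟩
  have hker : φ.ker = ⊥ := by
    rcases Subgroup.eq_bot_or_eq_top_of_prime_card φ.ker with h | h
    · exact h
    · exfalso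
      have h1 : g ∈ φ.ker := by
        rw [h]
        exact Subgroup.mem_top g
      rw [MonoidHom.mem_ker, hφg] at h1
      rw [h1, orderOf_one] at hoζ
      exact hp.one_lt.ne hoζ
  refine ⟨φ.comp (QuotientGroup.mk' M₁), fun x hx => ?_, fun x => ?_⟩
  · have h1 : QuotientGroup.mk' M₁ x ∈ φ.ker := hx
    rw [hker, Subgroup.mem_bot] at h1
    exact (QuotientGroup.eq_one_iff x).mp h1
  · rw [MonoidHom.comp_apply, ← map_pow]
    have h1 : (QuotientGroup.mk' M₁ x) ^ p = 1 := by
      rw [← hcard]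
      exact pow_card_eq_one'
    rw [h1, map_one]

/-- If every linear character of order dividing `p` of a Sylow `p`-subgroup extends to a linear
character of the group, then the group has a normal `p`-complement (by Tate's theorem). -/
theorem hasNormalPComplement_of_extend [Finite G] (p : ℕ) [Fact p.Prime] (P : Sylow p G)
    (h : ∀ ν : (P : Subgroup G) →* ℂˣ, (∀ y, ν y ^ p = 1) →
      ∃ f : G →* ℂˣ, ∀ y : (P : Subgroup G), f y = ν y) :
    HasNormalPComplement p G := by
  have hp : p.Prime := Fact.out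
  have := Cfsg.Agent.Lib.Helper34.PResidual.pResidual_normal p G
  refine Cfsg.Agent.Lib.Helper4.TateCor.hasNormalPComplement_of_tate P (pResidual p G) le_rfl ?_
  intro M₁ hM₁n hM₁idx
  obtain ⟨ν, hν, hνp⟩ := exists_hom_ker_le' p M₁ hM₁idx
  obtain ⟨f, hf⟩ := h ν hνp
  intro x hx
  apply hν
  rw [← hf x]
  have hx' : (x : G) ∈ pResidual p G := hx
  set a := (Nat.card G).factorization p with ha
  set m := Nat.card G / p ^ a with hm
  have hcop : Nat.Coprime p m := Nat.coprime_ordCompl hp Nat.card_pos.ne'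
  have hmul : p ^ a * m = Nat.card G := Nat.ordProj_mul_ordCompl_eq_self _ _
  have h1 : pResidual p G ≤ ((powMonoidHom m : ℂˣ →* ℂˣ).ker).comap f := by
    unfold pResidual
    rw [Subgroup.closure_le]
    intro g hg
    have hg' : Nat.Coprime (orderOf g) p := hg
    have h2 : orderOf g ∣ m := by
      have h3 : orderOf g ∣ p ^ a * m := by
        rw [hmul]
        exact orderOf_dvd_natCard g
      exact (Nat.Coprime.pow_right a hg').dvd_of_dvd_mul_left h3
    show f g ∈ (powMonoidHom m : ℂˣ →* ℂˣ).ker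
    rw [MonoidHom.mem_ker, powMonoidHom_apply, ← map_pow, orderOf_dvd_iff_pow_eq_one.mp h2,
      map_one]
  have h2 : f (x : G) ^ m = 1 := by
    have h3 := h1 hx'
    rwa [Subgroup.mem_comap, MonoidHom.mem_ker, powMonoidHom_apply] at h3
  obtain ⟨k, hk⟩ := P.isPGroup' x
  have h3 : f (x : G) ^ p ^ k = 1 := by
    have h4 : (x : G) ^ p ^ k = 1 := by
      have := congrArg Subtype.val hk
      simpa using this
    rw [← map_pow, h4, map_one]
  have h4 : orderOf (f (x : G)) ∣ Nat.gcd (p ^ k) m :=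
    Nat.dvd_gcd (orderOf_dvd_of_pow_eq_one h3) (orderOf_dvd_of_pow_eq_one h2)
  rw [(Nat.Coprime.pow_left k hcop).gcd_eq_one, Nat.dvd_one, orderOf_eq_one_iff] at h4
  exact h4

/-- The multiplicity of the character `μ` of the subgroup `P` in the restriction of `χ`. -/
noncomputable def mult (P : Subgroup G) [Fintype P] (μ : P → ℂ) (χ : G → ℂ) : ℕ :=
  ⌊(classInner μ (fun y : P => χ y)).re⌋₊

theorem mult_cast (P : Subgroup G) [Fintype P] {μ : P → ℂ} (hμ : IsCharacter P μ) {χ : G → ℂ}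
    (hχ : IsCharacter G χ) : (mult P μ χ : ℂ) = classInner μ (fun y : P => χ y) := by
  obtain ⟨n, hn⟩ := classInner_char_nat hμ (isCharacter_restrict P hχ)
  unfold mult
  rw [hn]
  simp

/-- If every odd-degree irreducible character of the principal `2`-block fixed by `g ↦ g ^ k` is
linear, then every linear character of order at most `2` of a Sylow `2`-subgroup extends to a
linear character of the group. -/
theorem exists_extension_two [Finite G] (M : Ideal AlgInt) (hM : IsPModular 2 M) (k : ℕ)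
    (hk₁ : ∀ g : G, (∃ j : ℕ, orderOf g = 2 ^ j) → g ^ k = g ^ 3)
    (hk₂ : ∀ g : G, Odd (orderOf g) → g ^ k = g) (P : Sylow 2 G)
    (hlin : ∀ χ ∈ principalBlock M G, Odd (charDegree (χ : G → ℂ)) →
      (∀ g : G, (χ : G → ℂ) (g ^ k) = (χ : G → ℂ) g) → charDegree (χ : G → ℂ) = 1)
    (ν : (P : Subgroup G) →* ℂˣ) (hν : ∀ y, ν y ^ 2 = 1) :
    ∃ f : G →* ℂˣ, ∀ y : (P : Subgroup G), f y = ν y := by
  classical
  have hp2 := Nat.fact_prime_two
  have hMp := isPrime_of_isPModular hM
  have : Fintype G := Fintype.ofFinite G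
  have := finite_irrCharacter G
  have : Fintype (IrrCharacter G) := Fintype.ofFinite (IrrCharacter G)
  have : Fintype (P : Subgroup G) := Fintype.ofFinite _
  have hkc : k.Coprime (Nat.card G) := coprime_card k hk₁ hk₂
  set B := principalBlock M G with hB
  set a := (Nat.card G).factorization 2 with ha
  let e : Equiv.Perm (IrrCharacter G) :=
    Equiv.ofBijective (pk k hkc) (Finite.injective_iff_bijective.mp (pk_injective k hkc))
  have he_apply : ∀ (χ : IrrCharacter G) (g : G),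
      (e χ : G → ℂ) g = (χ : G → ℂ) (g ^ k) := fun χ g => rfl
  have he_pow : ∀ (n : ℕ) (χ : IrrCharacter G) (g : G),
      ((e ^ n) χ : G → ℂ) g = (χ : G → ℂ) (g ^ (k ^ n)) := by
    intro n
    induction n with
    | zero =>
      intro χ g
      simp
    | succ n ih =>
      intro χ g
      rw [pow_succ' e n, Equiv.Perm.mul_apply, he_apply, ih, ← pow_mul, pow_succ' k n]
  have he : e ^ 2 ^ a = 1 := by
    apply Equiv.ext
    intro χ
    apply Subtype.ext
    funext g
    rw [he_pow, pow_pow_card k hk₁ hk₂ g]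
    rfl
  have hBstab : ∀ χ, χ ∈ B → e χ ∈ B := by
    intro χ hχ
    have htriv : pk k hkc (triv G) = triv G := Subtype.ext (funext fun g => rfl)
    exact Cfsg.Agent.Lib.Helper75.GaloisBlock.pk_mem_blockOf_of_fixed 2 M hM k hkc (triv G)
      htriv χ hχ
  have hBstab_pow : ∀ (n : ℕ) (χ : IrrCharacter G), χ ∈ B → (e ^ n) χ ∈ B := by
    intro n
    induction n with
    | zero =>
      intro χ hχ
      simpa using hχ
    | succ n ih =>
      intro χ hχ
      rw [pow_succ' e n, Equiv.Perm.mul_apply]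
      exact hBstab _ (ih χ hχ)
  have hBiff : ∀ χ, χ ∈ B ↔ e χ ∈ B := fun χ => ⟨hBstab χ, fun h => by
    have h1 := hBstab_pow (2 ^ a - 1) (e χ) h
    have h2 : (e ^ (2 ^ a - 1)) (e χ) = χ := by
      rw [← Equiv.Perm.mul_apply, ← pow_succ, Nat.sub_add_cancel Nat.one_le_two_pow, he]
      rfl
    rwa [h2] at h1⟩
  have hdeg : ∀ χ : IrrCharacter G,
      charDegree (e χ : G → ℂ) = charDegree (χ : G → ℂ) := fun χ => by
    unfold charDegree
    rw [he_apply, one_pow]
  have hcopP : (Nat.card (P : Subgroup G)).Coprime k :=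
    (hkc.symm).coprime_dvd_left (Subgroup.card_subgroup_dvd_card _)
  have key : ∀ ν : (P : Subgroup G) →* ℂˣ, (∀ y, ν y ^ 2 = 1) → ∃ N : ℕ,
      (N : ℂ) = (Nat.card (P : Subgroup G) : ℂ)⁻¹ * ∑ χ : IrrCharacter G, B.indicator
        (fun χ : IrrCharacter G => (χ : G → ℂ) 1 * conj ((χ : G → ℂ) 1)) χ ∧
      (N : ZMod 2) = (Nat.card {χ : IrrCharacter G // χ ∈ B ∧ charDegree (χ : G → ℂ) = 1 ∧
        (∀ y : (P : Subgroup G), (χ : G → ℂ) y = ((ν y : ℂˣ) : ℂ)) ∧ e χ = χ} : ZMod 2) := by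
    intro ν hν
    set μ : ↥(P : Subgroup G) → ℂ := fun y => ((ν y : ℂˣ) : ℂ) with hμ
    have hμi : IsIrrCharacter (P : Subgroup G) μ := isIrrCharacter_of_hom ν
    have hμc : IsCharacter (P : Subgroup G) μ := isCharacter_of_irr hμi
    set n : IrrCharacter G → ℕ := fun χ => mult (P : Subgroup G) μ (χ : G → ℂ) with hn
    have hncast : ∀ χ : IrrCharacter G,
        (n χ : ℂ) = classInner μ (fun y : (P : Subgroup G) => (χ : G → ℂ) y) := fun χ =>
      mult_cast (P : Subgroup G) hμc (isCharacter_of_irr χ.2)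
    have hμk : ∀ y : (P : Subgroup G), μ (y ^ k) = μ y := by
      intro y
      have h1 : y ^ k = y ^ 3 := by
        apply Subtype.ext
        rw [Subgroup.coe_pow, Subgroup.coe_pow]
        apply hk₁
        obtain ⟨j, hj⟩ := P.isPGroup' y
        have hj' : (y : G) ^ 2 ^ j = 1 := by simpa using congrArg Subtype.val hj
        obtain ⟨i, -, hi⟩ :=
          (Nat.dvd_prime_pow Nat.prime_two).mp (orderOf_dvd_of_pow_eq_one hj')
        exact ⟨i, hi⟩
      show ((ν (y ^ k) : ℂˣ) : ℂ) = ((ν y : ℂˣ) : ℂ)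
      rw [h1, map_pow, pow_succ, hν y, one_mul]
    have hninv : ∀ χ : IrrCharacter G, n (e χ) = n χ := by
      intro χ
      have h1 : classInner μ (fun y : (P : Subgroup G) => (e χ : G → ℂ) y)
          = classInner μ (fun y : (P : Subgroup G) => (χ : G → ℂ) y) := by
        unfold classInner
        congr 1
        rw [← Equiv.sum_comp (powCoprime hcopP)
          (fun y : (P : Subgroup G) => μ y * conj ((χ : G → ℂ) y))]
        refine Finset.sum_congr rfl fun y _ => ?_
        rw [powCoprime_apply, hμk y]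
        show μ y * conj ((e χ : G → ℂ) (y : G))
          = μ y * conj ((χ : G → ℂ) ((y ^ k : ↥(P : Subgroup G)) : G))
        rw [he_apply, Subgroup.coe_pow]
      exact_mod_cast (hncast (e χ)).trans (h1.trans (hncast χ).symm)
    set q : IrrCharacter G → Prop := fun χ => χ ∈ B ∧ Odd (charDegree (χ : G → ℂ) * n χ) with hq
    have hqiff : ∀ χ, q χ ↔ q (e χ) := by
      intro χ
      simp only [hq]
      rw [hdeg χ, hninv χ, ← hBiff χ]
    refine ⟨∑ χ : IrrCharacter G, if χ ∈ B then charDegree (χ : G → ℂ) * n χ else 0, ?_, ?_⟩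
    · rw [← sum_mul_classInner 2 M hM P μ (by simp [hμ])]
      push_cast
      refine Finset.sum_congr rfl fun χ _ => ?_
      by_cases hχ : χ ∈ B
      · rw [if_pos hχ, Set.indicator_of_mem hχ, hncast χ,
          apply_one_eq_charDegree (isCharacter_of_irr χ.2)]
      · rw [if_neg hχ, Set.indicator_of_notMem hχ]
    · have h1 : ((∑ χ : IrrCharacter G,
          if χ ∈ B then charDegree (χ : G → ℂ) * n χ else 0 : ℕ) : ZMod 2)
          = (Nat.card {χ // q χ} : ZMod 2) := by
        rw [Nat.card_eq_fintype_card, Fintype.card_subtype, Finset.card_filter, Nat.cast_sum,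
          Nat.cast_sum]
        refine Finset.sum_congr rfl fun χ _ => ?_
        by_cases hχ : χ ∈ B
        · by_cases hodd : Odd (charDegree (χ : G → ℂ) * n χ)
          · rw [if_pos hχ, if_pos (show q χ from ⟨hχ, hodd⟩), Nat.cast_one]
            exact ZMod.natCast_eq_one_iff_odd.mpr hodd
          · rw [if_pos hχ, if_neg (show ¬ q χ from fun h => hodd h.2), Nat.cast_zero]
            exact ZMod.natCast_eq_zero_iff_even.mpr (Nat.not_odd_iff_even.mp hodd)
        · rw [if_neg hχ, if_neg (show ¬ q χ from fun h => hχ h.1)]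
      have h2 := card_modEq_card_fixed e a he q hqiff
      have h3 : (Nat.card {χ // q χ} : ZMod 2) = (Nat.card {χ // q χ ∧ e χ = χ} : ZMod 2) :=
        (ZMod.natCast_eq_natCast_iff _ _ _).mpr h2
      have h4 : Nat.card {χ // q χ ∧ e χ = χ}
          = Nat.card {χ : IrrCharacter G // χ ∈ B ∧ charDegree (χ : G → ℂ) = 1 ∧
            (∀ y : (P : Subgroup G), (χ : G → ℂ) y = ((ν y : ℂˣ) : ℂ)) ∧ e χ = χ} := by
        refine Nat.card_congr (Equiv.subtypeEquivRight fun χ => ?_)
        constructor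
        · rintro ⟨⟨hχB, hodd⟩, hfix⟩
          obtain ⟨hodd1, hodd2⟩ := Nat.odd_mul.mp hodd
          have hfix' : ∀ g : G, (χ : G → ℂ) (g ^ k) = (χ : G → ℂ) g := fun g =>
            congrFun (congrArg Subtype.val hfix) g
          have hd1 := hlin χ hχB hodd1 hfix'
          refine ⟨hχB, hd1, ?_, hfix⟩
          have hχ1 : (χ : G → ℂ) 1 = 1 := by
            rw [apply_one_eq_charDegree (isCharacter_of_irr χ.2), hd1]
            simp
          have hres : IsIrrCharacter (P : Subgroup G)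
              (fun y : (P : Subgroup G) => (χ : G → ℂ) y) :=
            isIrrCharacter_of_linear (isCharacter_restrict _ (isCharacter_of_irr χ.2)) hχ1
          have h5 := irr_orthonormal (⟨μ, hμi⟩ : IrrCharacter (P : Subgroup G)) ⟨_, hres⟩
          by_contra hne
          have h6 : (⟨μ, hμi⟩ : IrrCharacter (P : Subgroup G)) ≠ ⟨_, hres⟩ := fun h =>
            hne (fun y => (congrFun (congrArg Subtype.val h) y).symm)
          rw [if_neg h6] at h5
          have h7 : (n χ : ℂ) = 0 := (hncast χ).trans h5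
          have h8 : n χ = 0 := by exact_mod_cast h7
          rw [h8] at hodd2
          exact Nat.not_odd_zero hodd2
        · rintro ⟨hχB, hd1, heq, hfix⟩
          refine ⟨⟨hχB, ?_⟩, hfix⟩
          have hχ1 : (χ : G → ℂ) 1 = 1 := by
            rw [apply_one_eq_charDegree (isCharacter_of_irr χ.2), hd1]
            simp
          have hres : IsIrrCharacter (P : Subgroup G)
              (fun y : (P : Subgroup G) => (χ : G → ℂ) y) :=
            isIrrCharacter_of_linear (isCharacter_restrict _ (isCharacter_of_irr χ.2)) hχ1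
          have h5 := irr_orthonormal (⟨μ, hμi⟩ : IrrCharacter (P : Subgroup G)) ⟨_, hres⟩
          have h6 : (⟨μ, hμi⟩ : IrrCharacter (P : Subgroup G)) = ⟨_, hres⟩ :=
            Subtype.ext (funext fun y => (heq y).symm)
          rw [if_pos h6] at h5
          have h7 : (n χ : ℂ) = 1 := (hncast χ).trans h5
          have h8 : n χ = 1 := by exact_mod_cast h7
          rw [hd1, h8]
          exact odd_one
      rw [h1, h3, h4]
  obtain ⟨N, hN1, hN2⟩ := key ν hν
  obtain ⟨N', hN'1, hN'2⟩ := key 1 (fun y => by simp)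
  have hNN : N = N' := by exact_mod_cast hN1.trans hN'1.symm
  have hcard : Nat.card {χ : IrrCharacter G // χ ∈ B ∧ charDegree (χ : G → ℂ) = 1 ∧
      (∀ y : (P : Subgroup G),
        (χ : G → ℂ) y = ((((1 : (P : Subgroup G) →* ℂˣ) y : ℂˣ)) : ℂ)) ∧ e χ = χ}
      = Nat.card (linB0 M hMp (P : Subgroup G)) := by
    symm
    refine Nat.card_congr (Equiv.ofBijective
      (fun f => ⟨ofHom (f : G →* ℂˣ), f.2.1, ?_, fun y => ?_, ?_⟩) ⟨?_, ?_⟩)
    · simp [charDegree, ofHom]
    · rw [ofHom_apply, f.2.2 y y.2]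
      simp
    · apply Subtype.ext
      funext g
      show (((f : G →* ℂˣ) (g ^ k) : ℂˣ) : ℂ) = (((f : G →* ℂˣ) g : ℂˣ) : ℂ)
      congr 1
      obtain ⟨u, v, rfl, hcomm, hu, j, hj⟩ := exists_decomp 2 g
      have hu' : Odd (orderOf u) := Nat.odd_iff.mpr (Nat.two_dvd_ne_zero.mp hu)
      have hv1 : ∀ i : ℕ, (f : G →* ℂˣ) (v ^ i) = 1 := fun i =>
        hom_eq_one_of_sylow 2 P (f : G →* ℂˣ) f.2.2 (v ^ i) j (by
          rw [← pow_mul, mul_comm, pow_mul, ← hj, pow_orderOf_eq_one, one_pow])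
      have hv2 := hv1 1
      rw [pow_one] at hv2
      rw [hcomm.mul_pow, hk₂ u hu', map_mul, map_mul, hv1 k, hv2]
    · intro f₁ f₂ h
      exact Subtype.ext (ofHom_injective (congrArg Subtype.val h))
    · rintro ⟨χ, hχB, hd1, he1, hfix⟩
      have hχ1 : (χ : G → ℂ) 1 = 1 := by
        rw [apply_one_eq_charDegree (isCharacter_of_irr χ.2), hd1]
        simp
      obtain ⟨f, hf⟩ := exists_hom_of_isCharacter (χ : G → ℂ) (isCharacter_of_irr χ.2) hχ1
      have hfχ : ofHom f = χ := Subtype.ext (funext fun g => (hf g).symm)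
      refine ⟨⟨f, ?_, fun y hy => Units.ext ?_⟩, Subtype.ext hfχ⟩
      · rw [hfχ]
        exact hχB
      · rw [← hf, he1 ⟨y, hy⟩]
        simp
  have hnd := not_dvd_card_linB0 2 M hMp P
  have hne : Nonempty {χ : IrrCharacter G // χ ∈ B ∧ charDegree (χ : G → ℂ) = 1 ∧
      (∀ y : (P : Subgroup G), (χ : G → ℂ) y = ((ν y : ℂˣ) : ℂ)) ∧ e χ = χ} := by
    by_contra hempty
    rw [not_nonempty_iff] at hempty
    rw [Nat.card_of_isEmpty, Nat.cast_zero, hNN, hN'2, hcard] at hN2
    exact hnd ((ZMod.natCast_eq_zero_iff _ _).mp hN2)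
  obtain ⟨χ, -, hd1, he1, -⟩ := hne
  have hχ1 : (χ : G → ℂ) 1 = 1 := by
    rw [apply_one_eq_charDegree (isCharacter_of_irr χ.2), hd1]
    simp
  obtain ⟨f, hf⟩ := exists_hom_of_isCharacter (χ : G → ℂ) (isCharacter_of_irr χ.2) hχ1
  refine ⟨f, fun y => Units.ext ?_⟩
  rw [← hf, he1 y]

/-- A finite group has a normal `2`-complement if and only if every odd-degree irreducible
character of its principal `2`-block fixed by `g ↦ g ^ k` is linear. -/
theorem hasNormalPComplement_two_iff [Finite G] (M : Ideal AlgInt) (hM : IsPModular 2 M)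
    (k : ℕ) (hk₁ : ∀ g : G, (∃ j : ℕ, orderOf g = 2 ^ j) → g ^ k = g ^ 3)
    (hk₂ : ∀ g : G, Odd (orderOf g) → g ^ k = g) :
    HasNormalPComplement 2 G ↔ ∀ χ ∈ principalBlock M G, Odd (charDegree (χ : G → ℂ)) →
      (∀ g : G, (χ : G → ℂ) (g ^ k) = (χ : G → ℂ) g) → charDegree (χ : G → ℂ) = 1 := by
  have hp2 := Nat.fact_prime_two
  constructor
  · intro h χ hχ hodd _
    exact charDegree_eq_one_of_hasNormalPComplement 2 M hM h χ hχ
      (Nat.two_dvd_ne_zero.mpr (Nat.odd_iff.mp hodd))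
  · intro h
    let P : Sylow 2 G := default
    exact hasNormalPComplement_of_extend 2 P
      (fun ν hν => exists_extension_two M hM k hk₁ hk₂ P h ν hν)

end Cfsg.Agent.Lib.Helper80.PNilGalois
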