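import Mathlib
import Cfsg.Agent.Lib.Helper80.AbSylowGT
import Cfsg.Agent.Lib.CT.ColumnId
import Cfsg.Agent.Lib.CT.WBO
import Cfsg.Agent.Lib.CT.LinChar
import Cfsg.Agent.Lib.CT.Clifford
import Cfsg.Agent.Lib.Helper80.NormB0
import Cfsg.Agent.Lib.Helper80.PNilGalois
import Cfsg.Agent.Lib.Helper25.CyclicTI
import Cfsg.Agent.Lib.Helper75.SelfCent
import Cfsg.Agent.S0942
import Cfsg.Agent.S1504
import Cfsg.Agent.S1507

/-!
# The principal block for an abelian Sylow subgroup with freely acting normalizer: columns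

For a linear character `ψ` of `P` and a function `χ` on `G`, `dc P χ ψ = ⟨χ|_P, ψ - 1⟩`.
Under the hypotheses of Brauer's theorem (abelian Sylow `p`-subgroup `P`,
`C_G(y) ∩ N_G(P) = C_G(P)` for `1 ≠ y ∈ P`), these numbers are integers, determine the values of
the principal block characters on `p`-singular elements, have Gram matrix `m + [ψ ∼ ψ']` over the
principal block, and are orthogonal to the columns of `p`-regular elements.
-/

set_option autoImplicit false

namespace Cfsg.Agent.Lib.Helper80.AbSylowCh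

open Cfsg Cfsg.Agent.Lib.CT.Wedderburn Cfsg.Agent.Lib.CT.Ops Cfsg.Agent.Lib.CT.Clifford
  Cfsg.Agent.Lib.Helper80.AbSylowGT

open scoped ComplexConjugate

universe u
variable {G : Type u} [Group G]

/-- `ψ - 1` as a function on `P`. -/
noncomputable def th (P : Subgroup G) (ψ : ↥P →* ℂˣ) : ↥P → ℂ := fun y => ((ψ y : ℂˣ) : ℂ) - 1

/-- `⟨χ|_P, ψ - 1⟩`. -/
noncomputable def dc (P : Subgroup G) (χ : G → ℂ) (ψ : ↥P →* ℂˣ) : ℂ :=
  (Nat.card ↥P : ℂ)⁻¹ * ∑ᶠ y : ↥P, χ (y : G) * th P ψ y⁻¹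

/-- Conjugation by an element of the normalizer, as an endomorphism of `P`. -/
def cj (P : Subgroup G) (n : G) (hn : n ∈ Subgroup.normalizer (P : Set G)) : ↥P →* ↥P where
  toFun w := ⟨n * w * n⁻¹, (Subgroup.mem_normalizer_iff.mp hn _).mp w.2⟩
  map_one' := by ext; simp
  map_mul' a b := by ext; simp

theorem cj_coe (P : Subgroup G) (n : G) (hn : n ∈ Subgroup.normalizer (P : Set G)) (w : ↥P) :
    ((cj P n hn w : ↥P) : G) = n * w * n⁻¹ := rfl

/-- The relation "`ψ'` is a normalizer conjugate of `ψ`". -/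
def Rel (P : Subgroup G) (ψ ψ' : ↥P →* ℂˣ) : Prop :=
  ∃ n : G, n ∈ Subgroup.normalizer (P : Set G) ∧
    ∀ w w' : ↥P, (w' : G) = n * w * n⁻¹ → ψ' w' = ψ w

theorem rel_iff (P : Subgroup G) (ψ ψ' : ↥P →* ℂˣ) :
    Rel P ψ ψ' ↔ ∃ n : G, ∃ hn : n ∈ Subgroup.normalizer (P : Set G), ψ'.comp (cj P n hn) = ψ := by
  constructor
  · rintro ⟨n, hn, h⟩
    exact ⟨n, hn, MonoidHom.ext fun w => h w (cj P n hn w) rfl⟩
  · rintro ⟨n, hn, h⟩
    refine ⟨n, hn, fun w w' hw' => ?_⟩
    have e : w' = cj P n hn w := Subtype.ext hw'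
    rw [e, ← h]
    rfl

theorem dc_one (P : Subgroup G) (χ : G → ℂ) : dc P χ 1 = 0 := by
  simp [dc, th]

/-- The numbers `⟨χ|_P, ψ - 1⟩` are integers. -/
theorem dc_int [Finite G] (P : Subgroup G) {χ : G → ℂ} (hχ : IsCharacter G χ) (ψ : ↥P →* ℂˣ) :
    ∃ D : ℤ, dc P χ ψ = D := by
  classical
  let _ : Fintype ↥P := Fintype.ofFinite _
  have hα : IsCharacter ↥P (fun k : ↥P => χ k) := isCharacter_restrict P hχ
  have hψc : IsCharacter ↥P (fun y : ↥P => ((ψ y : ℂˣ) : ℂ)) :=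
    Cfsg.Agent.Lib.CT.LinChar.isCharacter_of_hom ψ
  have h1c : IsCharacter ↥P (fun _ : ↥P => (1 : ℂ)) := isCharacter_one
  obtain ⟨n1, hn1⟩ := classInner_char_nat hα hψc
  obtain ⟨n2, hn2⟩ := classInner_char_nat hα h1c
  refine ⟨(n1 : ℤ) - n2, ?_⟩
  rw [classInner_eq_sum_mul_inv _ hψc] at hn1
  rw [classInner_eq_sum_mul_inv _ h1c] at hn2
  unfold dc th
  rw [finsum_eq_sum_of_fintype]
  push_cast
  rw [← hn1, ← hn2, ← mul_sub, ← Finset.sum_sub_distrib]
  congr 1
  refine Finset.sum_congr rfl fun y _ => ?_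
  ring

/-- The principal character has `⟨1, ψ - 1⟩ = -1`. -/
theorem dc_triv [Finite G] (P : Subgroup G) (ψ : ↥P →* ℂˣ) (hψ : ψ ≠ 1) :
    dc P (fun _ => 1) ψ = -1 := by
  classical
  let _ : Fintype ↥P := Fintype.ofFinite _
  have hne : (Nat.card ↥P : ℂ) ≠ 0 := Nat.cast_ne_zero.mpr Nat.card_pos.ne'
  have h0 : ∑ y : ↥P, ((ψ y⁻¹ : ℂˣ) : ℂ) = 0 := by
    have h1 := Cfsg.Agent.S1504.orth ψ 1
    rw [if_neg hψ] at h1
    rw [← h1]
    refine Fintype.sum_equiv (Equiv.inv ↥P) _ _ fun y => ?_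
    simp
  unfold dc th
  rw [finsum_eq_sum_of_fintype]
  simp only [one_mul]
  rw [Finset.sum_sub_distrib, h0, zero_sub, Finset.sum_const, Finset.card_univ, nsmul_eq_mul,
    mul_one, ← Nat.card_eq_fintype_card, mul_neg, inv_mul_cancel₀ hne]

/-- Fourier inversion: a function on `G` is recovered at non-identity elements of an abelian
subgroup from the numbers `⟨χ|_P, ψ - 1⟩`. -/
theorem sum_dc_mul [Finite G] (P : Subgroup G) (hPab : ∀ a ∈ P, ∀ b ∈ P, a * b = b * a)
    [Fintype (↥P →* ℂˣ)] (f : G → ℂ) (y : ↥P) (hy : y ≠ 1) :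
    ∑ ψ : ↥P →* ℂˣ, dc P f ψ * ((ψ y : ℂˣ) : ℂ) = f y := by
  classical
  let _ : Fintype ↥P := Fintype.ofFinite _
  have hne : (Nat.card ↥P : ℂ) ≠ 0 := Nat.cast_ne_zero.mpr Nat.card_pos.ne'
  have e1 : ∀ ψ : ↥P →* ℂˣ, dc P f ψ * ((ψ y : ℂˣ) : ℂ) =
      (Nat.card ↥P : ℂ)⁻¹ * ∑ y' : ↥P,
        f (y' : G) * (((ψ (y'⁻¹ * y) : ℂˣ) : ℂ) - ((ψ y : ℂˣ) : ℂ)) := by
    intro ψ
    unfold dc th
    rw [finsum_eq_sum_of_fintype, mul_assoc, Finset.sum_mul]
    congr 1
    refine Finset.sum_congr rfl fun y' _ => ?_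
    rw [map_mul, Units.val_mul]
    ring
  simp_rw [e1]
  rw [← Finset.mul_sum, Finset.sum_comm]
  have e2 : ∀ y' : ↥P, ∑ ψ : ↥P →* ℂˣ,
      f (y' : G) * (((ψ (y'⁻¹ * y) : ℂˣ) : ℂ) - ((ψ y : ℂˣ) : ℂ)) =
        if y' = y then f (y : G) * (Nat.card ↥P : ℂ) else 0 := by
    intro y'
    rw [← Finset.mul_sum, Finset.sum_sub_distrib,
      Cfsg.Agent.Lib.Helper25.CyclicTI.sum_hom_sub P hPab,
      Cfsg.Agent.Lib.Helper25.CyclicTI.sum_hom_sub P hPab, if_neg hy, sub_zero]
    by_cases h : y' = y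
    · subst h
      simp
    · have h' : ¬ (y'⁻¹ * y = 1) := by
        intro h1
        apply h
        rw [inv_mul_eq_one] at h1
        exact h1
      rw [if_neg h, if_neg h', mul_zero]
  simp_rw [e2]
  rw [Finset.sum_ite_eq' Finset.univ y, if_pos (Finset.mem_univ _), mul_comm (f (y : G)),
    ← mul_assoc, inv_mul_cancel₀ hne, one_mul]

/-- Complex conjugation inverts the values of a linear character of a finite group. -/
theorem conj_hom {W : Type*} [Group W] [Finite W] (φ : W →* ℂˣ) (y : W) :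
    conj ((φ y : ℂˣ) : ℂ) = (((φ y : ℂˣ) : ℂ))⁻¹ := by
  have h1 : ((φ y : ℂˣ) : ℂ) ^ Nat.card W = 1 := by
    rw [← Units.val_pow_eq_pow_val, ← map_pow, pow_card_eq_one', map_one, Units.val_one]
  have h2 : ‖((φ y : ℂˣ) : ℂ)‖ = 1 :=
    Complex.norm_eq_one_of_pow_eq_one h1 Nat.card_pos.ne'
  exact (Complex.inv_eq_conj h2).symm

/-- `⟨ψ - 1, φ - 1⟩` for non-principal linear characters of a finite group, unnormalized. -/
theorem sum_th_mul_conj {W : Type*} [Group W] [Fintype W] (ψ φ : W →* ℂˣ) (hψ : ψ ≠ 1)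
    (hφ : φ ≠ 1) [Decidable (ψ = φ)] :
    ∑ y : W, (((ψ y : ℂˣ) : ℂ) - 1) * conj (((φ y : ℂˣ) : ℂ) - 1) =
      (Fintype.card W : ℂ) * ((if ψ = φ then 1 else 0) + 1) := by
  classical
  have e : ∀ y : W, (((ψ y : ℂˣ) : ℂ) - 1) * conj (((φ y : ℂˣ) : ℂ) - 1) =
      ((ψ y : ℂˣ) : ℂ) * (((φ y : ℂˣ) : ℂ))⁻¹ - ((ψ y : ℂˣ) : ℂ) * ((((1 : W →* ℂˣ) y : ℂˣ) : ℂ))⁻¹
        - ((((1 : W →* ℂˣ) y : ℂˣ) : ℂ)) * (((φ y : ℂˣ) : ℂ))⁻¹ + 1 := by
    intro y
    rw [map_sub, map_one, conj_hom]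
    simp only [MonoidHom.one_apply, Units.val_one, inv_one]
    ring
  simp_rw [e]
  rw [Finset.sum_add_distrib, Finset.sum_sub_distrib, Finset.sum_sub_distrib,
    Cfsg.Agent.S1504.orth, Cfsg.Agent.S1504.orth, Cfsg.Agent.S1504.orth, if_neg hψ,
    if_neg (Ne.symm hφ)]
  simp only [Finset.sum_const, Finset.card_univ, nsmul_eq_mul, mul_one, sub_zero]
  split_ifs <;> ring

theorem cj_mul (P : Subgroup G) (a b : G) (ha : a ∈ Subgroup.normalizer (P : Set G))
    (hb : b ∈ Subgroup.normalizer (P : Set G)) (hab : a * b ∈ Subgroup.normalizer (P : Set G)) :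
    cj P (a * b) hab = (cj P a ha).comp (cj P b hb) := by
  refine MonoidHom.ext fun w => Subtype.ext ?_
  simp only [MonoidHom.comp_apply, cj_coe]
  group

theorem cj_of_mem_centralizer (P : Subgroup G) (c : G)
    (hc : c ∈ Subgroup.centralizer (P : Set G)) (hn : c ∈ Subgroup.normalizer (P : Set G)) :
    cj P c hn = MonoidHom.id ↥P := by
  refine MonoidHom.ext fun w => Subtype.ext ?_
  rw [cj_coe, MonoidHom.id_apply, ← Subgroup.mem_centralizer_iff.mp hc (w : G) w.2,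
    mul_inv_cancel_right]

theorem finite_hom [Finite G] (P : Subgroup G) (hPab : ∀ a ∈ P, ∀ b ∈ P, a * b = b * a) :
    Finite (↥P →* ℂˣ) := by
  apply Nat.finite_of_card_ne_zero
  rw [Cfsg.Agent.S1507.card_hom_sub P hPab]
  exact Nat.card_pos.ne'

/-- The elements of the normalizer carrying `ψ'` to `ψ` form a coset of the centralizer. -/
theorem count_T [Finite G] (p : ℕ) (P : Sylow p G)
    (hfrob : ∀ y : G, y ∈ (P : Subgroup G) → y ≠ 1 →
      Subgroup.centralizer ({y} : Set G) ⊓ Subgroup.normalizer ((P : Subgroup G) : Set G) =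
        Subgroup.centralizer ((P : Subgroup G) : Set G))
    (ψ ψ' : ↥(P : Subgroup G) →* ℂˣ) (hψ : ψ ≠ 1) (hR : Rel (P : Subgroup G) ψ ψ') :
    Nat.card {x : ↥(Subgroup.normalizer ((P : Subgroup G) : Set G)) //
        ψ'.comp (cj (P : Subgroup G) x x.2) = ψ} =
      Nat.card ↥(Subgroup.centralizer ((P : Subgroup G) : Set G)) := by
  classical
  obtain ⟨n, hn, hcomp⟩ := (rel_iff _ _ _).mp hR
  have hCN : Subgroup.centralizer ((P : Subgroup G) : Set G) ≤
      Subgroup.normalizer ((P : Subgroup G) : Set G) := Subgroup.centralizer_le_normalizer _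
  rw [← Nat.card_congr (Subgroup.subgroupOfEquivOfLe hCN).toEquiv]
  refine Nat.card_congr ?_
  refine
    { toFun := fun x => ⟨(⟨n, hn⟩ : ↥(Subgroup.normalizer ((P : Subgroup G) : Set G)))⁻¹ * x.1, ?_⟩
      invFun := fun c => ⟨(⟨n, hn⟩ : ↥(Subgroup.normalizer ((P : Subgroup G) : Set G))) * c.1, ?_⟩
      left_inv := fun x => Subtype.ext (by simp)
      right_inv := fun c => Subtype.ext (by simp) }
  · rw [Subgroup.mem_subgroupOf]
    have hx := x.2
    have ht : n⁻¹ * (x.1 : G) ∈ Subgroup.normalizer ((P : Subgroup G) : Set G) :=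
      Subgroup.mul_mem _ (Subgroup.inv_mem _ hn) x.1.2
    refine mem_centralizer_of_stab p P hfrob (n⁻¹ * (x.1 : G)) ht ψ hψ ?_
    intro w w' hw'
    have e1 : ψ w' = ψ' (cj (P : Subgroup G) n hn w') := (DFunLike.congr_fun hcomp w').symm
    have e2 : ψ w = ψ' (cj (P : Subgroup G) x.1 x.1.2 w) := (DFunLike.congr_fun hx w).symm
    have e3 : cj (P : Subgroup G) n hn w' = cj (P : Subgroup G) x.1 x.1.2 w := by
      apply Subtype.ext
      rw [cj_coe, cj_coe, hw']
      group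
    rw [e1, e2, e3]
  · have hc : (c.1 : G) ∈ Subgroup.centralizer ((P : Subgroup G) : Set G) :=
      Subgroup.mem_subgroupOf.mp c.2
    have e : cj (P : Subgroup G)
        (((⟨n, hn⟩ : ↥(Subgroup.normalizer ((P : Subgroup G) : Set G))) * c.1 : _) : G)
        ((⟨n, hn⟩ : ↥(Subgroup.normalizer ((P : Subgroup G) : Set G))) * c.1).2 =
        (cj (P : Subgroup G) n hn).comp (cj (P : Subgroup G) c.1 c.1.2) :=
      cj_mul (P : Subgroup G) n c.1 hn c.1.2 _
    rw [e, cj_of_mem_centralizer (P : Subgroup G) _ hc, MonoidHom.comp_id]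
    exact hcomp

/-- Each class of non-principal linear characters of `P` under the normalizer has
`|N_G(P) : C_G(P)|` elements. -/
theorem card_class [Finite G] (p : ℕ) (P : Sylow p G) (hab : IsMulCommutative P)
    (hfrob : ∀ y : G, y ∈ (P : Subgroup G) → y ≠ 1 →
      Subgroup.centralizer ({y} : Set G) ⊓ Subgroup.normalizer ((P : Subgroup G) : Set G) =
        Subgroup.centralizer ((P : Subgroup G) : Set G))
    (ψ : ↥(P : Subgroup G) →* ℂˣ) (hψ : ψ ≠ 1) :
    Nat.card {ψ' : ↥(P : Subgroup G) →* ℂˣ // Rel (P : Subgroup G) ψ ψ'} =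
      (Subgroup.centralizer ((P : Subgroup G) : Set G)).relIndex
        (Subgroup.normalizer ((P : Subgroup G) : Set G)) := by
  classical
  have hPab : ∀ a ∈ (P : Subgroup G), ∀ b ∈ (P : Subgroup G), a * b = b * a := fun a ha b hb =>
    congrArg Subtype.val (hab.is_comm.comm (⟨a, ha⟩ : P) ⟨b, hb⟩)
  have := finite_hom (P : Subgroup G) hPab
  have hCN : Subgroup.centralizer ((P : Subgroup G) : Set G) ≤
      Subgroup.normalizer ((P : Subgroup G) : Set G) := Subgroup.centralizer_le_normalizer _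
  have hinv : ∀ x : ↥(Subgroup.normalizer ((P : Subgroup G) : Set G)),
      (cj (P : Subgroup G) ((x⁻¹ : ↥(Subgroup.normalizer ((P : Subgroup G) : Set G))) : G)
        (x⁻¹).2).comp (cj (P : Subgroup G) x x.2) = MonoidHom.id _ := by
    intro x
    refine MonoidHom.ext fun w => Subtype.ext ?_
    simp only [MonoidHom.comp_apply, cj_coe, MonoidHom.id_apply, Subgroup.coe_inv]
    group
  have hinv' : ∀ x : ↥(Subgroup.normalizer ((P : Subgroup G) : Set G)),
      (cj (P : Subgroup G) x x.2).comp (cj (P : Subgroup G)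
        ((x⁻¹ : ↥(Subgroup.normalizer ((P : Subgroup G) : Set G))) : G) (x⁻¹).2) =
        MonoidHom.id _ := by
    intro x
    refine MonoidHom.ext fun w => Subtype.ext ?_
    simp only [MonoidHom.comp_apply, cj_coe, MonoidHom.id_apply, Subgroup.coe_inv]
    group
  have hiff : ∀ (x : ↥(Subgroup.normalizer ((P : Subgroup G) : Set G)))
      (ψ' : ↥(P : Subgroup G) →* ℂˣ),
      ψ.comp (cj (P : Subgroup G) ((x⁻¹ : ↥(Subgroup.normalizer ((P : Subgroup G) : Set G))) : G)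
        (x⁻¹).2) = ψ' ↔ ψ'.comp (cj (P : Subgroup G) x x.2) = ψ := by
    intro x ψ'
    constructor
    · intro h
      rw [← h, MonoidHom.comp_assoc, hinv x, MonoidHom.comp_id]
    · intro h
      rw [← h, MonoidHom.comp_assoc, hinv' x, MonoidHom.comp_id]
  let F : ↥(Subgroup.normalizer ((P : Subgroup G) : Set G)) →
      {ψ' : ↥(P : Subgroup G) →* ℂˣ // Rel (P : Subgroup G) ψ ψ'} := fun x =>
    ⟨ψ.comp (cj (P : Subgroup G)
      ((x⁻¹ : ↥(Subgroup.normalizer ((P : Subgroup G) : Set G))) : G) (x⁻¹).2),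
      (rel_iff _ _ _).mpr ⟨x, x.2, (hiff x _).mp rfl⟩⟩
  have hfib : ∀ b, Nat.card {x // F x = b} =
      Nat.card ↥(Subgroup.centralizer ((P : Subgroup G) : Set G)) := by
    intro b
    rw [← count_T p P hfrob ψ b.1 hψ b.2]
    refine Nat.card_congr (Equiv.subtypeEquivRight fun x => ?_)
    rw [← hiff x b.1]
    exact Subtype.ext_iff
  have h1 := Cfsg.Agent.Lib.Helper75.SelfCent.card_eq_mul_of_fiber F _ hfib
  have h2 := Cfsg.Agent.Lib.Helper76.PSolv.card_eq_card_mul_relIndex hCN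
  exact Nat.eq_of_mul_eq_mul_right Nat.card_pos (h1.symm.trans (h2.trans (mul_comm _ _)))

/-- The sum of the squares of the degrees in the principal block of `C_G(y)` is `|P|`. -/
theorem sum_deg_sq [Finite G] (p : ℕ) [Fact p.Prime] (M : Ideal AlgInt) (hM : IsPModular p M)
    (P : Sylow p G) (hab : IsMulCommutative P)
    (hfrob : ∀ y : G, y ∈ (P : Subgroup G) → y ≠ 1 →
      Subgroup.centralizer ({y} : Set G) ⊓ Subgroup.normalizer ((P : Subgroup G) : Set G) =
        Subgroup.centralizer ((P : Subgroup G) : Set G))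
    (y : G) (hy : y ∈ (P : Subgroup G)) (hy1 : y ≠ 1) :
    ((∑ᶠ ψ ∈ principalBlock M ↥(Subgroup.centralizer ({y} : Set G)),
      (charDegree (ψ : ↥(Subgroup.centralizer ({y} : Set G)) → ℂ) : ℚ) ^ 2) : ℚ) =
      (Nat.card ↥(P : Subgroup G) : ℚ) := by
  classical
  have hp : p.Prime := Fact.out
  have hord : ∃ k : ℕ, orderOf y = p ^ k :=
    Cfsg.Agent.Lib.CT.ColumnId.orderOf_coe_of_isPGroup P.2 ⟨y, hy⟩
  have h1le : ¬ p ∣ orderOf (1 : ↥(Subgroup.centralizer ({y} : Set G))) := by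
    rw [orderOf_one]
    exact fun h => hp.one_lt.ne' (Nat.dvd_one.mp h)
  obtain ⟨h1, h2⟩ := Cfsg.Agent.S0947.result p M hM y hord hy1 1 h1le
  have h3 := h2 (burnside_centralizer p P hab hfrob y hy hy1).1
  rw [h1] at h3
  have := finite_irrCharacter ↥(Subgroup.centralizer ({y} : Set G))
  have hfin : (principalBlock M ↥(Subgroup.centralizer ({y} : Set G))).Finite := Set.toFinite _
  have e1 : ∀ χ : IrrCharacter ↥(Subgroup.centralizer ({y} : Set G)),
      ‖(χ : ↥(Subgroup.centralizer ({y} : Set G)) → ℂ) 1‖ ^ 2 =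
        ((charDegree (χ : ↥(Subgroup.centralizer ({y} : Set G)) → ℂ) ^ 2 : ℕ) : ℝ) := by
    intro χ
    rw [← char_natCast_charDegree (isCharacter_of_irr χ.2), Complex.norm_natCast, Nat.cast_pow]
  have hnat : ∑ᶠ χ ∈ principalBlock M ↥(Subgroup.centralizer ({y} : Set G)),
      charDegree (χ : ↥(Subgroup.centralizer ({y} : Set G)) → ℂ) ^ 2 =
        p ^ (Nat.card ↥(Subgroup.centralizer ({y} : Set G))).factorization p := by
    apply Nat.cast_injective (R := ℝ)
    rw [← h3]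
    have e2 := AddMonoidHom.map_finsum_mem
      (fun χ : IrrCharacter ↥(Subgroup.centralizer ({y} : Set G)) =>
        charDegree (χ : ↥(Subgroup.centralizer ({y} : Set G)) → ℂ) ^ 2)
      (Nat.castAddMonoidHom ℝ) hfin
    simp only [Nat.coe_castAddMonoidHom] at e2
    rw [e2]
    exact finsum_mem_congr rfl fun χ _ => (e1 χ).symm
  have e3 := AddMonoidHom.map_finsum_mem
    (fun χ : IrrCharacter ↥(Subgroup.centralizer ({y} : Set G)) =>
      charDegree (χ : ↥(Subgroup.centralizer ({y} : Set G)) → ℂ) ^ 2)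
    (Nat.castAddMonoidHom ℚ) hfin
  simp only [Nat.coe_castAddMonoidHom, Nat.cast_pow] at e3
  rw [← e3, hnat]
  congr 1
  have hPH := le_centralizer_singleton P hab y hy
  have hQ := Sylow.card_eq_multiplicity (P.subtype hPH)
  rw [← hQ]
  exact Nat.card_congr (Subgroup.subgroupOfEquivOfLe hPH).toEquiv

/-- The Gram matrix of the columns `χ ↦ ⟨χ|_P, ψ - 1⟩` over the principal block. -/
theorem gram [Finite G] (p : ℕ) [Fact p.Prime] (M : Ideal AlgInt) (hM : IsPModular p M)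
    (P : Sylow p G) (hab : IsMulCommutative P)
    (hfrob : ∀ y : G, y ∈ (P : Subgroup G) → y ≠ 1 →
      Subgroup.centralizer ({y} : Set G) ⊓ Subgroup.normalizer ((P : Subgroup G) : Set G) =
        Subgroup.centralizer ((P : Subgroup G) : Set G))
    (ψ ψ' : ↥(P : Subgroup G) →* ℂˣ) (hψ : ψ ≠ 1) (hψ' : ψ' ≠ 1)
    [Decidable (Rel (P : Subgroup G) ψ ψ')] :
    ∑ᶠ χ ∈ principalBlock M G, dc (P : Subgroup G) (χ : G → ℂ) ψ *
        conj (dc (P : Subgroup G) (χ : G → ℂ) ψ') =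
      (((Subgroup.centralizer ((P : Subgroup G) : Set G)).relIndex
        (Subgroup.normalizer ((P : Subgroup G) : Set G)) : ℕ) : ℂ) +
        (if Rel (P : Subgroup G) ψ ψ' then 1 else 0) := by
  classical
  have hCN : Subgroup.centralizer ((P : Subgroup G) : Set G) ≤
      Subgroup.normalizer ((P : Subgroup G) : Set G) := Subgroup.centralizer_le_normalizer _
  let _ : Fintype ↥(P : Subgroup G) := Fintype.ofFinite _
  let _ : Fintype ↥(Subgroup.normalizer ((P : Subgroup G) : Set G)) := Fintype.ofFinite _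
  have hPne : (Nat.card ↥(P : Subgroup G) : ℂ) ≠ 0 := Nat.cast_ne_zero.mpr Nat.card_pos.ne'
  have hCne : (Nat.card ↥(Subgroup.centralizer ((P : Subgroup G) : Set G)) : ℂ) ≠ 0 :=
    Nat.cast_ne_zero.mpr Nat.card_pos.ne'
  have key := Cfsg.Agent.Lib.CT.ColumnId.column_identity p M hM (P : Subgroup G) P.2
    (Subgroup.normalizer ((P : Subgroup G) : Set G)) le_rfl
    {u : G | u ∈ (P : Subgroup G) ∧ u ≠ 1}
    (fun u hu g hg => fusion p P hab u hu.1 g hg)
    ((Nat.card ↥(P : Subgroup G) : ℚ) /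
      (Nat.card ↥(Subgroup.centralizer ((P : Subgroup G) : Set G)) : ℚ))
    (fun y hy => by
      rw [sum_deg_sq p M hM P hab hfrob y hy.1 hy.2, inf_comm, hfrob y hy.1 hy.2,
        div_mul_cancel₀]
      exact_mod_cast Nat.card_pos.ne')
    (th (P : Subgroup G) ψ) (th (P : Subgroup G) ψ')
    (fun y hy => by
      have : y = 1 := by
        by_contra h
        exact hy ⟨y.2, fun h1 => h (Subtype.ext h1)⟩
      rw [this]
      simp [th])
  have key' : ∑ᶠ χ ∈ principalBlock M G, dc (P : Subgroup G) (χ : G → ℂ) ψ *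
      conj (dc (P : Subgroup G) (χ : G → ℂ) ψ') = _ := key
  have hx : ∀ (x : ↥(Subgroup.normalizer ((P : Subgroup G) : Set G))) (y : ↥(P : Subgroup G)),
      extendByZero (P : Subgroup G) (th (P : Subgroup G) ψ') ((x : G) * (y : G) * (x : G)⁻¹) =
        ((((ψ'.comp (cj (P : Subgroup G) x x.2)) y : ℂˣ) : ℂ) - 1) := by
    intro x y
    have e : (x : G) * (y : G) * (x : G)⁻¹ =
        ((cj (P : Subgroup G) x x.2 y : ↥(P : Subgroup G)) : G) := rfl
    rw [e]
    unfold extendByZero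
    rw [Subtype.val_injective.extend_apply]
    rfl
  have hne' : ∀ x : ↥(Subgroup.normalizer ((P : Subgroup G) : Set G)),
      ψ'.comp (cj (P : Subgroup G) x x.2) ≠ 1 := by
    intro x h
    apply hψ'
    refine MonoidHom.ext fun w => ?_
    have h2 := DFunLike.congr_fun h (cj (P : Subgroup G)
      ((x⁻¹ : ↥(Subgroup.normalizer ((P : Subgroup G) : Set G))) : G) (x⁻¹).2 w)
    have e : cj (P : Subgroup G) x x.2 (cj (P : Subgroup G)
        ((x⁻¹ : ↥(Subgroup.normalizer ((P : Subgroup G) : Set G))) : G) (x⁻¹).2 w) = w := by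
      apply Subtype.ext
      simp only [cj_coe, Subgroup.coe_inv]
      group
    rw [MonoidHom.comp_apply, e] at h2
    exact h2
  have hR : ∑ᶠ y : ↥(P : Subgroup G), th (P : Subgroup G) ψ y *
      conj (∑ᶠ x : ↥(Subgroup.normalizer ((P : Subgroup G) : Set G)),
        extendByZero (P : Subgroup G) (th (P : Subgroup G) ψ') ((x : G) * (y : G) * (x : G)⁻¹))
      = (Nat.card ↥(P : Subgroup G) : ℂ) *
        ((Nat.card {x : ↥(Subgroup.normalizer ((P : Subgroup G) : Set G)) //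
          ψ'.comp (cj (P : Subgroup G) x x.2) = ψ} : ℂ) +
          (Nat.card ↥(Subgroup.normalizer ((P : Subgroup G) : Set G)) : ℂ)) := by
    rw [finsum_eq_sum_of_fintype]
    have e1 : ∀ y : ↥(P : Subgroup G), th (P : Subgroup G) ψ y *
        conj (∑ᶠ x : ↥(Subgroup.normalizer ((P : Subgroup G) : Set G)),
          extendByZero (P : Subgroup G) (th (P : Subgroup G) ψ') ((x : G) * (y : G) * (x : G)⁻¹))
        = ∑ x : ↥(Subgroup.normalizer ((P : Subgroup G) : Set G)), (((ψ y : ℂˣ) : ℂ) - 1) *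
          conj ((((ψ'.comp (cj (P : Subgroup G) x x.2)) y : ℂˣ) : ℂ) - 1) := by
      intro y
      rw [finsum_eq_sum_of_fintype, map_sum, Finset.mul_sum]
      refine Finset.sum_congr rfl fun x _ => ?_
      rw [hx x y]
      rfl
    simp_rw [e1]
    rw [Finset.sum_comm]
    have e2 : ∀ x : ↥(Subgroup.normalizer ((P : Subgroup G) : Set G)),
        ∑ y : ↥(P : Subgroup G), (((ψ y : ℂˣ) : ℂ) - 1) *
          conj ((((ψ'.comp (cj (P : Subgroup G) x x.2)) y : ℂˣ) : ℂ) - 1) =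
        (Nat.card ↥(P : Subgroup G) : ℂ) *
          ((if ψ'.comp (cj (P : Subgroup G) x x.2) = ψ then 1 else 0) + 1) := by
      intro x
      rw [sum_th_mul_conj ψ _ hψ (hne' x), Nat.card_eq_fintype_card]
      congr 2
      by_cases h : ψ = ψ'.comp (cj (P : Subgroup G) x x.2)
      · rw [if_pos h, if_pos h.symm]
      · rw [if_neg h, if_neg (fun h' => h h'.symm)]
    simp_rw [e2]
    rw [← Finset.mul_sum, Finset.sum_add_distrib, Finset.sum_boole, Finset.sum_const,
      Finset.card_univ, nsmul_eq_mul, mul_one]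
    congr 2
    · rw [Nat.card_eq_fintype_card, Fintype.card_subtype]
    · rw [Nat.card_eq_fintype_card]
  rw [key', hR]
  have hNcard : (Nat.card ↥(Subgroup.normalizer ((P : Subgroup G) : Set G)) : ℂ) =
      (Nat.card ↥(Subgroup.centralizer ((P : Subgroup G) : Set G)) : ℂ) *
        (((Subgroup.centralizer ((P : Subgroup G) : Set G)).relIndex
          (Subgroup.normalizer ((P : Subgroup G) : Set G)) : ℕ) : ℂ) := by
    exact_mod_cast Cfsg.Agent.Lib.Helper76.PSolv.card_eq_card_mul_relIndex hCN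
  by_cases hRel : Rel (P : Subgroup G) ψ ψ'
  · rw [if_pos hRel, count_T p P hfrob ψ ψ' hψ hRel, hNcard]
    push_cast
    field_simp
    ring
  · rw [if_neg hRel]
    have hT : Nat.card {x : ↥(Subgroup.normalizer ((P : Subgroup G) : Set G)) //
        ψ'.comp (cj (P : Subgroup G) x x.2) = ψ} = 0 := by
      have : IsEmpty {x : ↥(Subgroup.normalizer ((P : Subgroup G) : Set G)) //
          ψ'.comp (cj (P : Subgroup G) x x.2) = ψ} :=
        ⟨fun x => hRel ((rel_iff _ _ _).mpr ⟨x.1, x.1.2, x.2⟩)⟩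
      exact Nat.card_of_isEmpty
    rw [hT, hNcard]
    push_cast
    field_simp
    ring

/-- The columns `χ ↦ ⟨χ|_P, ψ - 1⟩` over the principal block are orthogonal to the columns of
the `p`-regular elements. -/
theorem orth_reg [Finite G] (p : ℕ) [Fact p.Prime] (M : Ideal AlgInt) (hM : IsPModular p M)
    (P : Subgroup G) (hP : IsPGroup p ↥P) (ψ : ↥P →* ℂˣ) (g : G) (hg : ¬ p ∣ orderOf g) :
    ∑ᶠ χ ∈ principalBlock M G, (χ : G → ℂ) g * conj (dc P (χ : G → ℂ) ψ) = 0 := by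
  classical
  have := finite_irrCharacter G
  let _ : Fintype (IrrCharacter G) := Fintype.ofFinite _
  let _ : Fintype ↥P := Fintype.ofFinite _
  rw [Cfsg.Agent.Lib.CT.ColumnId.finsum_mem_eq_sum]
  have e1 : ∀ χ : IrrCharacter G,
      (if χ ∈ principalBlock M G then (χ : G → ℂ) g * conj (dc P (χ : G → ℂ) ψ) else 0) =
        ∑ y : ↥P, (Nat.card ↥P : ℂ)⁻¹ * conj (th P ψ y⁻¹) *
          (if χ ∈ principalBlock M G then (χ : G → ℂ) g * conj ((χ : G → ℂ) (y : G)) else 0) := by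
    intro χ
    by_cases h : χ ∈ principalBlock M G
    · simp only [if_pos h]
      unfold dc
      rw [finsum_eq_sum_of_fintype, map_mul, map_sum, map_inv₀, Complex.conj_natCast,
        Finset.mul_sum, Finset.mul_sum]
      refine Finset.sum_congr rfl fun y _ => ?_
      rw [map_mul]
      ring
    · simp only [if_neg h, mul_zero, Finset.sum_const_zero]
  simp_rw [e1]
  rw [Finset.sum_comm]
  refine Finset.sum_eq_zero fun y _ => ?_
  rw [← Finset.mul_sum]
  by_cases hy : y = 1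
  · subst hy
    simp [th]
  · have hpy : p ∣ orderOf (y : G) := by
      obtain ⟨k, hk⟩ := Cfsg.Agent.Lib.CT.ColumnId.orderOf_coe_of_isPGroup hP y
      rw [hk]
      refine dvd_pow_self p ?_
      rintro rfl
      rw [pow_zero, orderOf_eq_one_iff] at hk
      exact hy (Subtype.ext hk)
    have h0 := Cfsg.Agent.Lib.CT.WBO.weak_block_orthogonality p M hM (principalBlock M G)
      (Cfsg.Agent.Lib.CT.ColumnId.isPBlock_principal M) g (y : G) hg hpy
    rw [Cfsg.Agent.Lib.CT.ColumnId.finsum_mem_eq_sum] at h0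
    rw [h0, mul_zero]

/-- Values of principal block characters on elements whose `p`-part is a non-identity element
of `P`. -/
theorem value [Finite G] (p : ℕ) [Fact p.Prime] (M : Ideal AlgInt) (hM : IsPModular p M)
    (P : Sylow p G) (hab : IsMulCommutative P)
    (hfrob : ∀ y : G, y ∈ (P : Subgroup G) → y ≠ 1 →
      Subgroup.centralizer ({y} : Set G) ⊓ Subgroup.normalizer ((P : Subgroup G) : Set G) =
        Subgroup.centralizer ((P : Subgroup G) : Set G))
    [Fintype (↥(P : Subgroup G) →* ℂˣ)] (χ : IrrCharacter G) (hχ : χ ∈ principalBlock M G)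
    (z y : G) (hz : IsPPart p z y) (hy : y ∈ (P : Subgroup G)) (hy1 : y ≠ 1) :
    (χ : G → ℂ) z = ∑ ψ : ↥(P : Subgroup G) →* ℂˣ,
      dc (P : Subgroup G) (χ : G → ℂ) ψ * ((ψ ⟨y, hy⟩ : ℂˣ) : ℂ) := by
  obtain ⟨v, hzv, hcomm, hord, hpv⟩ := hz
  have hPab : ∀ a ∈ (P : Subgroup G), ∀ b ∈ (P : Subgroup G), a * b = b * a := fun a ha b hb =>
    congrArg Subtype.val (hab.is_comm.comm (⟨a, ha⟩ : P) ⟨b, hb⟩)
  have h1 := Cfsg.Agent.S0942.result p M hM y hord v
    ((burnside_centralizer p P hab hfrob y hy hy1).2 v hcomm hpv) χ hχ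
  rw [hzv] at h1
  rw [h1]
  have hy1' : (⟨y, hy⟩ : ↥(P : Subgroup G)) ≠ 1 := fun h => hy1 (congrArg Subtype.val h)
  exact (sum_dc_mul (P : Subgroup G) hPab (χ : G → ℂ) ⟨y, hy⟩ hy1').symm

/-- A principal block character all of whose numbers `⟨χ|_P, ψ - 1⟩` vanish is the principal
character. -/
theorem eq_triv_of_dc_eq_zero [Finite G] (p : ℕ) [Fact p.Prime] (M : Ideal AlgInt)
    (hM : IsPModular p M) (P : Sylow p G) (hab : IsMulCommutative P)
    (hfrob : ∀ y : G, y ∈ (P : Subgroup G) → y ≠ 1 →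
      Subgroup.centralizer ({y} : Set G) ⊓ Subgroup.normalizer ((P : Subgroup G) : Set G) =
        Subgroup.centralizer ((P : Subgroup G) : Set G))
    (χ : IrrCharacter G) (hχ : χ ∈ principalBlock M G)
    (h0 : ∀ ψ : ↥(P : Subgroup G) →* ℂˣ, dc (P : Subgroup G) (χ : G → ℂ) ψ = 0) :
    χ = Cfsg.Agent.Lib.CT.ThirdMain.triv G := by
  classical
  have hp : p.Prime := Fact.out
  have hMp := Cfsg.Agent.Lib.Helper77.LocalRing.isPrime_of_isPModular hM
  have hPab : ∀ a ∈ (P : Subgroup G), ∀ b ∈ (P : Subgroup G), a * b = b * a := fun a ha b hb =>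
    congrArg Subtype.val (hab.is_comm.comm (⟨a, ha⟩ : P) ⟨b, hb⟩)
  have := finite_hom (P : Subgroup G) hPab
  let _ : Fintype (↥(P : Subgroup G) →* ℂˣ) := Fintype.ofFinite _
  let _ : Fintype G := Fintype.ofFinite G
  have hsing : ∀ z : G, p ∣ orderOf z → (χ : G → ℂ) z = 0 := by
    intro z hz
    obtain ⟨u, v, rfl, hcomm, hu, j, hj⟩ :=
      Cfsg.Agent.Lib.Helper80.PNilGalois.exists_decomp p z
    have hv1 : v ≠ 1 := by
      rintro rfl
      rw [mul_one] at hz
      exact hu hz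
    obtain ⟨x, hx⟩ := exists_conj_mem_sylow p P v j hj
    have hcl : (χ : G → ℂ) (u * v) = (χ : G → ℂ) ((x⁻¹ * v * x) * (x⁻¹ * u * x)) := by
      have e : (x⁻¹ * v * x) * (x⁻¹ * u * x) = x⁻¹ * (u * v) * x⁻¹⁻¹ := by
        rw [hcomm.eq]
        group
      rw [e]
      exact (char_isClassFunction (isCharacter_of_irr χ.2) _ _).symm
    have hord : ∀ w : G, orderOf (x⁻¹ * w * x) = orderOf w := by
      intro w
      have := orderOf_injective (MulAut.conj x⁻¹).toMonoidHom (MulAut.conj x⁻¹).injective w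
      simpa [MulAut.conj_apply] using this
    have hpp : IsPPart p ((x⁻¹ * v * x) * (x⁻¹ * u * x)) (x⁻¹ * v * x) := by
      refine ⟨x⁻¹ * u * x, rfl, ?_, ⟨j, by rw [hord, hj]⟩, by rw [hord]; exact hu⟩
      show (x⁻¹ * v * x) * (x⁻¹ * u * x) = (x⁻¹ * u * x) * (x⁻¹ * v * x)
      have e1 : (x⁻¹ * v * x) * (x⁻¹ * u * x) = x⁻¹ * (v * u) * x := by group
      have e2 : (x⁻¹ * u * x) * (x⁻¹ * v * x) = x⁻¹ * (u * v) * x := by group
      rw [e1, e2, hcomm.eq]
    have hy1 : x⁻¹ * v * x ≠ 1 := by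
      intro h
      apply hv1
      have : v = x * (x⁻¹ * v * x) * x⁻¹ := by group
      rw [this, h]
      group
    rw [hcl, value p M hM P hab hfrob χ hχ _ _ hpp hx hy1]
    exact Finset.sum_eq_zero fun ψ _ => by rw [h0 ψ, zero_mul]
  by_contra hne
  have horth := irr_orthonormal χ (Cfsg.Agent.Lib.CT.ThirdMain.triv G)
  rw [if_neg hne] at horth
  unfold classInner at horth
  have hGne : (Nat.card G : ℂ) ≠ 0 := Nat.cast_ne_zero.mpr Nat.card_pos.ne'
  have hsum : ∑ g : G, (χ : G → ℂ) g = 0 := by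
    have h1 := (mul_eq_zero.mp horth).resolve_left (inv_ne_zero hGne)
    rw [← h1]
    refine Finset.sum_congr rfl fun g _ => ?_
    rw [Cfsg.Agent.Lib.CT.ThirdMain.coe_triv]
    simp
  have hpair : Cfsg.Agent.Lib.Helper77.CentralChar.pair (χ : G → ℂ)
      (Cfsg.Agent.Lib.CT.ThirdMain.sReg p) = 0 := by
    rw [Cfsg.Agent.Lib.Helper77.CentralChar.pair_eq_sum, ← hsum]
    refine Finset.sum_congr rfl fun g _ => ?_
    rw [Cfsg.Agent.Lib.CT.ThirdMain.coeff_sReg]
    by_cases hg : p ∣ orderOf g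
    · rw [if_pos hg, zero_mul, hsing g hg]
    · rw [if_neg hg, one_mul]
  apply Cfsg.Agent.Lib.Helper80.NormB0.omega_sReg_not_mem hM χ hχ
  unfold Cfsg.Agent.Lib.Helper77.CentralChar.omega
  rw [hpair, zero_div]
  exact Cfsg.Agent.Lib.Helper77.LocalRing.memLocalIdeal_zero hMp

end Cfsg.Agent.Lib.Helper80.AbSylowCh
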