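import Mathlib

/-!
# Coherence for integer vectors (helper80)

Pure lattice combinatorics behind the theory of exceptional characters: a family of integer
vectors with Gram matrix `m + δ_{xy}`, orthogonal to a positive weight vector, has the form
`x = Γ + δ e_{ζ x}`.
-/

set_option autoImplicit false

namespace Cfsg.Agent.Lib.Helper80.Coherence

open Finset

variable {I : Type*} [Fintype I] [DecidableEq I]

/-- An integer vector with square-sum `2`, orthogonal to a positive weight, is `e_a - e_b`. -/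
theorem exists_pair (w : I → ℤ) (hw : ∀ i, 0 < w i) (u : I → ℤ)
    (h2 : ∑ i, u i ^ 2 = 2) (h0 : ∑ i, w i * u i = 0) :
    ∃ a b : I, a ≠ b ∧ ∀ i, u i = (if i = a then 1 else 0) - (if i = b then 1 else 0) := by
  have hpos : ∃ a, 0 < u a := by
    by_contra hcon
    have hcon' : ∀ a, u a ≤ 0 := fun a => not_lt.mp (fun h => hcon ⟨a, h⟩)
    have h1 := (Finset.sum_eq_zero_iff_of_nonpos (s := univ) (f := fun i => w i * u i)
      (fun i _ => mul_nonpos_of_nonneg_of_nonpos (hw i).le (hcon' i))).mp h0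
    have h3 : ∀ i, u i = 0 := fun i => by
      rcases mul_eq_zero.mp (h1 i (mem_univ i)) with h | h
      · exact absurd h (hw i).ne'
      · exact h
    simp [h3] at h2
  have hneg : ∃ b, u b < 0 := by
    by_contra hcon
    have hcon' : ∀ a, 0 ≤ u a := fun a => not_lt.mp (fun h => hcon ⟨a, h⟩)
    have h1 := (Finset.sum_eq_zero_iff_of_nonneg (s := univ) (f := fun i => w i * u i)
      (fun i _ => mul_nonneg (hw i).le (hcon' i))).mp h0
    have h3 : ∀ i, u i = 0 := fun i => by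
      rcases mul_eq_zero.mp (h1 i (mem_univ i)) with h | h
      · exact absurd h (hw i).ne'
      · exact h
    simp [h3] at h2
  obtain ⟨a, ha⟩ := hpos
  obtain ⟨b, hb⟩ := hneg
  have hab : a ≠ b := by rintro rfl; omega
  have hsplit : ∑ i, u i ^ 2 = u a ^ 2 + (u b ^ 2 + ∑ i ∈ (univ.erase a).erase b, u i ^ 2) := by
    rw [← Finset.add_sum_erase univ _ (mem_univ a),
      ← Finset.add_sum_erase (univ.erase a) _ (by simp [hab.symm] : b ∈ univ.erase a)]
  have hrest : 0 ≤ ∑ i ∈ (univ.erase a).erase b, u i ^ 2 :=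
    Finset.sum_nonneg fun i _ => sq_nonneg _
  have ha1 : 1 ≤ u a ^ 2 := by nlinarith
  have hb1 : 1 ≤ u b ^ 2 := by nlinarith
  have ha2 : u a ^ 2 = 1 := by linarith
  have hb2 : u b ^ 2 = 1 := by linarith
  have hr0 : ∑ i ∈ (univ.erase a).erase b, u i ^ 2 = 0 := by linarith
  have hua : u a = 1 := by nlinarith
  have hub : u b = -1 := by nlinarith
  refine ⟨a, b, hab, fun i => ?_⟩
  by_cases hia : i = a
  · subst hia; simp [hab, hua]
  by_cases hib : i = b
  · subst hib; simp [hia, hub]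
  · have h5 := (Finset.sum_eq_zero_iff_of_nonneg (s := (univ.erase a).erase b)
      (f := fun i => u i ^ 2) (fun i _ => sq_nonneg (u i))).mp hr0 i (by simp [hia, hib])
    have h6 : u i = 0 := by simpa using h5
    simp [hia, hib, h6]

/-- Coherence: vectors of norm `m+1` with pairwise inner products `m`, all orthogonal to a
positive weight, are `Γ + δ e_{ζ x}` with one sign `δ`, and `Γ` is constant on the `ζ x`. -/
theorem coherence (m : ℤ) (w : I → ℤ) (hw : ∀ i, 0 < w i) (S : Set (I → ℤ))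
    (hnorm : ∀ x ∈ S, ∑ i, x i ^ 2 = m + 1)
    (hinner : ∀ x ∈ S, ∀ y ∈ S, x ≠ y → ∑ i, x i * y i = m)
    (hwt : ∀ x ∈ S, ∑ i, w i * x i = 0)
    (x₀ x₁ : I → ℤ) (h0 : x₀ ∈ S) (h1 : x₁ ∈ S) (h01 : x₁ ≠ x₀) :
    ∃ (δ : ℤ) (Γ : I → ℤ) (γ : ℤ) (ζ : (I → ℤ) → I), (δ = 1 ∨ δ = -1) ∧
      (∀ x ∈ S, ∀ i, x i = Γ i + δ * (if i = ζ x then 1 else 0)) ∧
      (∀ x ∈ S, Γ (ζ x) = γ) ∧ ∑ i, Γ i ^ 2 + 2 * δ * γ = m := by
  classical
  have step : ∀ y : I → ℤ, y ∈ S → y ≠ x₀ → ∃ a b : I, a ≠ b ∧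
      ∀ i, x₀ i - y i = (if i = a then 1 else 0) - (if i = b then 1 else 0) := by
    intro y hy hne
    apply exists_pair w hw (fun i => x₀ i - y i)
    · have e : ∀ i, (x₀ i - y i) ^ 2 = x₀ i ^ 2 - 2 * (x₀ i * y i) + y i ^ 2 := fun i => by ring
      simp_rw [e]
      rw [Finset.sum_add_distrib, Finset.sum_sub_distrib, ← Finset.mul_sum, hnorm x₀ h0,
        hnorm y hy, hinner x₀ h0 y hy (Ne.symm hne)]
      ring
    · have e : ∀ i, w i * (x₀ i - y i) = w i * x₀ i - w i * y i := fun i => by ring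
      simp_rw [e]
      rw [Finset.sum_sub_distrib, hwt x₀ h0, hwt y hy, sub_zero]
  have : Nonempty I := by
    obtain ⟨a, -⟩ := step x₁ h1 h01
    exact ⟨a⟩
  choose! A B hAB hU using step
  -- the key dichotomy for two distinct vectors
  have key : ∀ y ∈ S, y ≠ x₀ → ∀ y' ∈ S, y' ≠ x₀ → y ≠ y' →
      (A y = A y' ∧ B y ≠ B y') ∨ (B y = B y' ∧ A y ≠ A y') := by
    intro y hy hne y' hy' hne' hyy
    have hip : ∑ i, (x₀ i - y i) * (x₀ i - y' i) = 1 := by
      have e : ∀ i, (x₀ i - y i) * (x₀ i - y' i) =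
          x₀ i ^ 2 - x₀ i * y' i - x₀ i * y i + y i * y' i := fun i => by ring
      simp_rw [e]
      rw [Finset.sum_add_distrib, Finset.sum_sub_distrib, Finset.sum_sub_distrib, hnorm x₀ h0,
        hinner x₀ h0 y' hy' (Ne.symm hne'), hinner x₀ h0 y hy (Ne.symm hne),
        hinner y hy y' hy' hyy]
      ring
    have e2 : ∑ i, (x₀ i - y i) * (x₀ i - y' i) =
        (x₀ (A y) - y' (A y)) - (x₀ (B y) - y' (B y)) := by
      have e : ∀ i, (x₀ i - y i) * (x₀ i - y' i) =
          (if i = A y then (x₀ i - y' i) else 0) - (if i = B y then (x₀ i - y' i) else 0) := by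
        intro i
        rw [hU y hy hne i]
        split_ifs <;> ring
      simp_rw [e]
      rw [Finset.sum_sub_distrib, Finset.sum_ite_eq', Finset.sum_ite_eq']
      simp
    rw [e2, hU y' hy' hne' (A y), hU y' hy' hne' (B y)] at hip
    have hab := hAB y hy hne
    have hab' := hAB y' hy' hne'
    by_cases c1 : A y = A y' <;> by_cases c2 : A y = B y' <;> by_cases c3 : B y = A y' <;>
      by_cases c4 : B y = B y' <;> simp [c1, c2, c3, c4] at hip ⊢ <;> first | omega | (exfalso; simp_all)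
  -- global dichotomy
  have dich : (∀ y ∈ S, y ≠ x₀ → A y = A x₁) ∨ (∀ y ∈ S, y ≠ x₀ → B y = B x₁) := by
    by_cases hA : ∀ y ∈ S, y ≠ x₀ → A y = A x₁
    · exact Or.inl hA
    · right
      have hA' : ∃ y2 ∈ S, y2 ≠ x₀ ∧ A y2 ≠ A x₁ := by
        by_contra hcon
        exact hA fun y hy hne => by
          by_contra h
          exact hcon ⟨y, hy, hne, h⟩
      obtain ⟨y2, hy2, hne2, hA2⟩ := hA'
      have hy21 : y2 ≠ x₁ := by rintro rfl; exact hA2 rfl
      have hB2 : B y2 = B x₁ := by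
        rcases key y2 hy2 hne2 x₁ h1 h01 hy21 with h | h
        · exact absurd h.1 hA2
        · exact h.1
      intro y hy hne
      by_cases hy1 : y = x₁
      · rw [hy1]
      rcases key y hy hne x₁ h1 h01 hy1 with h | h
      · have hyy2 : y ≠ y2 := by
          rintro rfl
          exact hA2 h.1
        rcases key y hy hne y2 hy2 hne2 hyy2 with h' | h'
        · exact absurd (h'.1.symm.trans h.1) hA2
        · rw [h'.1, hB2]
      · exact h.1
  -- common finishing step
  have finish : ∀ (δ : ℤ) (Γ : I → ℤ) (ζ : (I → ℤ) → I), (δ = 1 ∨ δ = -1) →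
      (∀ x ∈ S, ∀ i, x i = Γ i + δ * (if i = ζ x then 1 else 0)) →
      ∃ (δ : ℤ) (Γ : I → ℤ) (γ : ℤ) (ζ : (I → ℤ) → I), (δ = 1 ∨ δ = -1) ∧
      (∀ x ∈ S, ∀ i, x i = Γ i + δ * (if i = ζ x then 1 else 0)) ∧
      (∀ x ∈ S, Γ (ζ x) = γ) ∧ ∑ i, Γ i ^ 2 + 2 * δ * γ = m := by
    intro δ Γ ζ hδ hrep
    have hδ2 : δ ^ 2 = 1 := by rcases hδ with h | h <;> rw [h] <;> norm_num
    have hn : ∀ x ∈ S, ∑ i, Γ i ^ 2 + 2 * δ * Γ (ζ x) = m := by
      intro x hx
      have h3 := hnorm x hx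
      have e : ∀ i, x i ^ 2 = Γ i ^ 2 + (if i = ζ x then 2 * δ * Γ i + δ ^ 2 else 0) := by
        intro i
        rw [hrep x hx i]
        by_cases h : i = ζ x <;> simp [h] <;> ring
      simp_rw [e] at h3
      rw [Finset.sum_add_distrib, Finset.sum_ite_eq'] at h3
      simp only [mem_univ, if_true] at h3
      linarith
    refine ⟨δ, Γ, Γ (ζ x₀), ζ, hδ, hrep, fun x hx => ?_, hn x₀ h0⟩
    have h3 := hn x hx
    have h4 := hn x₀ h0
    have h5 : δ * (Γ (ζ x) - Γ (ζ x₀)) = 0 := by linarith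
    rcases mul_eq_zero.mp h5 with h | h
    · rcases hδ with h' | h' <;> rw [h'] at h <;> norm_num at h
    · linarith
  rcases dich with hA | hB
  · apply finish 1 (fun i => x₀ i - (if i = A x₁ then 1 else 0))
      (fun x => if x = x₀ then A x₁ else B x) (Or.inl rfl)
    intro x hx i
    by_cases hx0 : x = x₀
    · rw [if_pos hx0, hx0]; ring
    · rw [if_neg hx0]
      have h3 := hU x hx hx0 i
      rw [hA x hx hx0] at h3
      linarith
  · apply finish (-1) (fun i => x₀ i + (if i = B x₁ then 1 else 0))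
      (fun x => if x = x₀ then B x₁ else A x) (Or.inr rfl)
    intro x hx i
    by_cases hx0 : x = x₀
    · rw [if_pos hx0, hx0]; ring
    · rw [if_neg hx0]
      have h3 := hU x hx hx0 i
      rw [hB x hx hx0] at h3
      linarith

end Cfsg.Agent.Lib.Helper80.Coherence
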