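import Mathlib
import Cfsg.Agent.Lib.Helper80.AbSylowCh
import Cfsg.Agent.Lib.Helper80.Coherence

/-!
# Brauer's theorem on the principal block for an abelian Sylow subgroup with freely acting
normalizer

Assembly: the integer columns `χ ↦ ⟨χ|_P, ψ - 1⟩` over the principal block have Gram matrix
`m + [ψ ∼ ψ']`; the coherence lemma gives their shape, from which the ordinary and exceptional
characters, their values on `p`-singular elements and the relations on `p`-regular elements are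
read off.
-/

set_option autoImplicit false

namespace Cfsg.Agent.Lib.Helper80.AbSylowMain

open Cfsg Cfsg.Agent.Lib.CT.Wedderburn Cfsg.Agent.Lib.Helper80.AbSylowCh
  Cfsg.Agent.Lib.Helper80.AbSylowGT Cfsg.Agent.Lib.CT.ThirdMain

open scoped ComplexConjugate

universe u
variable {G : Type u} [Group G]

/-- Splitting a sum over a set that is a disjoint union. -/
theorem sum_split {ι : Type*} [Fintype ι] {A : Type*} [AddCommMonoid A] (B X Y : Set ι)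
    [DecidablePred (· ∈ Y)] (hB : B = X ∪ Y) (hd : Disjoint X Y) (F : ι → A)
    (hF : ∀ i, i ∉ B → F i = 0) :
    ∑ i, F i = ∑ᶠ i ∈ X, F i + ∑ i, if i ∈ Y then F i else 0 := by
  classical
  rw [Cfsg.Agent.Lib.CT.ColumnId.finsum_mem_eq_sum, ← Finset.sum_add_distrib]
  refine Finset.sum_congr rfl fun i _ => ?_
  by_cases hx : i ∈ X
  · have hy : i ∉ Y := fun hy => Set.disjoint_left.mp hd hx hy
    rw [if_pos hx, if_neg hy, add_zero]
  · by_cases hy : i ∈ Y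
    · rw [if_neg hx, if_pos hy, zero_add]
    · rw [if_neg hx, if_neg hy, add_zero]
      exact hF i (by rw [hB]; exact fun h => h.elim hx hy)

/-- The integer columns of the principal block and their properties. -/
theorem data [Finite G] (p : ℕ) [Fact p.Prime] (M : Ideal AlgInt) (hM : IsPModular p M)
    (P : Sylow p G) (hab : IsMulCommutative P)
    (hfrob : ∀ y : G, y ∈ (P : Subgroup G) → y ≠ 1 →
      Subgroup.centralizer ({y} : Set G) ⊓ Subgroup.normalizer ((P : Subgroup G) : Set G) =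
        Subgroup.centralizer ((P : Subgroup G) : Set G))
    [Fintype (IrrCharacter G)] [Fintype (↥(P : Subgroup G) →* ℂˣ)] :
    ∃ v : (↥(P : Subgroup G) →* ℂˣ) → IrrCharacter G → ℤ,
      (∀ ψ χ, χ ∉ principalBlock M G → v ψ χ = 0) ∧
      (∀ ψ ψ', ψ ≠ 1 → ψ' ≠ 1 →
        (Rel (P : Subgroup G) ψ ψ' → ∑ χ, v ψ χ * v ψ' χ =
          (((Subgroup.centralizer ((P : Subgroup G) : Set G)).relIndex
            (Subgroup.normalizer ((P : Subgroup G) : Set G)) : ℕ) : ℤ) + 1) ∧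
        (¬ Rel (P : Subgroup G) ψ ψ' → ∑ χ, v ψ χ * v ψ' χ =
          (((Subgroup.centralizer ((P : Subgroup G) : Set G)).relIndex
            (Subgroup.normalizer ((P : Subgroup G) : Set G)) : ℕ) : ℤ))) ∧
      (∀ ψ (g : G), ¬ p ∣ orderOf g → ∑ χ, (v ψ χ : ℂ) * (χ : G → ℂ) g = 0) ∧
      (∀ χ ∈ principalBlock M G, ∀ z y : G, IsPPart p z y → ∀ hy : y ∈ (P : Subgroup G), y ≠ 1 →
        (χ : G → ℂ) z = ∑ ψ, (v ψ χ : ℂ) * ((ψ ⟨y, hy⟩ : ℂˣ) : ℂ)) ∧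
      (∀ ψ, ψ ≠ 1 → v ψ (triv G) = -1) ∧
      (∀ χ ∈ principalBlock M G, (∀ ψ, v ψ χ = 0) → χ = triv G) ∧
      (∀ χ, v 1 χ = 0) := by
  classical
  have hMp := Cfsg.Agent.Lib.Helper77.LocalRing.isPrime_of_isPModular hM
  have hD : ∀ (χ : IrrCharacter G) (ψ : ↥(P : Subgroup G) →* ℂˣ),
      ∃ D : ℤ, dc (P : Subgroup G) (χ : G → ℂ) ψ = D :=
    fun χ ψ => dc_int (P : Subgroup G) (isCharacter_of_irr χ.2) ψ
  choose D hD using hD
  refine ⟨fun ψ χ => if χ ∈ principalBlock M G then D χ ψ else 0, ?_, ?_, ?_, ?_, ?_, ?_, ?_⟩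
  · intro ψ χ h
    exact if_neg h
  · intro ψ ψ' hψ hψ'
    have hg := gram p M hM P hab hfrob ψ ψ' hψ hψ'
    rw [Cfsg.Agent.Lib.CT.ColumnId.finsum_mem_eq_sum] at hg
    have hcast : ((∑ χ, (if χ ∈ principalBlock M G then D χ ψ else 0) *
        (if χ ∈ principalBlock M G then D χ ψ' else 0) : ℤ) : ℂ) =
        (((Subgroup.centralizer ((P : Subgroup G) : Set G)).relIndex
          (Subgroup.normalizer ((P : Subgroup G) : Set G)) : ℕ) : ℂ) +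
          (if Rel (P : Subgroup G) ψ ψ' then 1 else 0) := by
      rw [← hg]
      push_cast
      refine Finset.sum_congr rfl fun χ _ => ?_
      by_cases h : χ ∈ principalBlock M G
      · simp only [if_pos h]
        rw [hD, hD, map_intCast]
      · simp only [if_neg h, mul_zero]
    constructor
    · intro hR
      rw [if_pos hR] at hcast
      exact_mod_cast hcast
    · intro hR
      rw [if_neg hR, add_zero] at hcast
      exact_mod_cast hcast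
  · intro ψ g hg
    have h := orth_reg p M hM (P : Subgroup G) P.2 ψ g hg
    rw [Cfsg.Agent.Lib.CT.ColumnId.finsum_mem_eq_sum] at h
    rw [← h]
    refine Finset.sum_congr rfl fun χ _ => ?_
    by_cases hχ : χ ∈ principalBlock M G
    · simp only [if_pos hχ]
      rw [hD, map_intCast, mul_comm]
    · simp only [if_neg hχ, Int.cast_zero, zero_mul]
  · intro χ hχ z y hz hy hy1
    rw [value p M hM P hab hfrob χ hχ z y hz hy hy1]
    refine Finset.sum_congr rfl fun ψ _ => ?_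
    simp only [if_pos hχ]
    rw [hD]
  · intro ψ hψ
    have h1 : (D (triv G) ψ : ℂ) = -1 := by
      rw [← hD]
      exact dc_triv (P : Subgroup G) ψ hψ
    simp only [if_pos (triv_mem_principalBlock hMp)]
    exact_mod_cast h1
  · intro χ hχ h0
    refine eq_triv_of_dc_eq_zero p M hM P hab hfrob χ hχ fun ψ => ?_
    have := h0 ψ
    simp only [if_pos hχ] at this
    rw [hD, this, Int.cast_zero]
  · intro χ
    have h1 : (D χ 1 : ℂ) = 0 := by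
      rw [← hD]
      exact dc_one _ _
    have h2 : D χ 1 = 0 := by exact_mod_cast h1
    simp only [h2, ite_self]

/-- Brauer's theorem: the structure of the principal block for an abelian Sylow `p`-subgroup
whose normalizer acts freely, with `|N : C| = m` and `1 < m < |P| - 1`. -/
theorem main [Finite G] (p : ℕ) [Fact p.Prime] (M : Ideal AlgInt) (hM : IsPModular p M)
    (P : Sylow p G) (hab : IsMulCommutative P) (m : ℕ) (hm1 : 1 < m)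
    (hm2 : m + 1 < Nat.card P)
    (hCN : (Subgroup.centralizer ((P : Subgroup G) : Set G)).relIndex
      (Subgroup.normalizer ((P : Subgroup G) : Set G)) = m)
    (hfrob : ∀ y : G, y ∈ (P : Subgroup G) → y ≠ 1 →
      Subgroup.centralizer ({y} : Set G) ⊓ Subgroup.normalizer ((P : Subgroup G) : Set G) =
        Subgroup.centralizer ((P : Subgroup G) : Set G)) :
    ∃ (s : ℕ) (X Y : Set (IrrCharacter G)), s ≤ m ∧ principalBlock M G = X ∪ Y ∧ Disjoint X Y ∧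
      Nat.card X = s ∧ Nat.card Y = (Nat.card P - 1) / m ∧
      (∃ χ₁ ∈ X, (χ₁ : G → ℂ) = fun _ => 1) ∧
      ∃ (a : IrrCharacter G → ℤ) (d δ : ℤ) (ζ : (↥(P : Subgroup G) →* ℂˣ) → IrrCharacter G),
        (δ = 1 ∨ δ = -1) ∧
        (∀ χ ∈ X, a χ ≠ 0 ∧ ∀ z y : G, IsPPart p z y → y ∈ (P : Subgroup G) → y ≠ 1 →
          (χ : G → ℂ) z = (a χ : ℂ)) ∧
        (∀ ψ : ↥(P : Subgroup G) →* ℂˣ, ψ ≠ 1 → ζ ψ ∈ Y) ∧
        (∀ η ∈ Y, ∃ ψ : ↥(P : Subgroup G) →* ℂˣ, ψ ≠ 1 ∧ ζ ψ = η) ∧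
        (∀ ψ ψ' : ↥(P : Subgroup G) →* ℂˣ, ψ ≠ 1 →
          (∃ n : G, n ∈ Subgroup.normalizer ((P : Subgroup G) : Set G) ∧
            ∀ w w' : ↥(P : Subgroup G), (w' : G) = n * w * n⁻¹ → ψ' w' = ψ w) → ζ ψ' = ζ ψ) ∧
        (∀ ψ : ↥(P : Subgroup G) →* ℂˣ, ψ ≠ 1 → ∀ (z : G) (y : ↥(P : Subgroup G)),
          IsPPart p z (y : G) → (y : G) ≠ 1 →
          (ζ ψ : G → ℂ) z = (d : ℂ) + (δ : ℂ) *
            ∑ᶠ ψ' ∈ {ψ' : ↥(P : Subgroup G) →* ℂˣ |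
              ∃ n : G, n ∈ Subgroup.normalizer ((P : Subgroup G) : Set G) ∧
                ∀ w w' : ↥(P : Subgroup G), (w' : G) = n * w * n⁻¹ → ψ' w' = ψ w},
              ((ψ' y : ℂˣ) : ℂ)) ∧
        ((d - δ) ^ 2 + ((Nat.card P - 1) / m - 1 : ℤ) * d ^ 2 + ∑ᶠ χ ∈ X, a χ ^ 2 =
          (m : ℤ) + 1) ∧
        (∀ η ∈ Y, ∀ η' ∈ Y, ∀ g : G, ¬ p ∣ orderOf g → (η : G → ℂ) g = (η' : G → ℂ) g) ∧
        (∀ η ∈ Y, ∀ g : G, ¬ p ∣ orderOf g →
          ((((Nat.card P - 1) / m : ℕ) : ℂ) * d - δ) * (η : G → ℂ) g +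
            ∑ᶠ χ ∈ X, (a χ : ℂ) * (χ : G → ℂ) g = 0) := by
  classical
  have hp : p.Prime := Fact.out
  have hMp := Cfsg.Agent.Lib.Helper77.LocalRing.isPrime_of_isPModular hM
  have := finite_irrCharacter G
  let _ : Fintype (IrrCharacter G) := Fintype.ofFinite _
  have hPab : ∀ a ∈ (P : Subgroup G), ∀ b ∈ (P : Subgroup G), a * b = b * a := fun a ha b hb =>
    congrArg Subtype.val (hab.is_comm.comm (⟨a, ha⟩ : P) ⟨b, hb⟩)
  have hΨ := finite_hom (P : Subgroup G) hPab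
  let _ : Fintype (↥(P : Subgroup G) →* ℂˣ) := Fintype.ofFinite _
  have hPcard : Nat.card P = Nat.card ↥(P : Subgroup G) := rfl
  rw [hPcard] at hm2 ⊢
  obtain ⟨v, hv0, hvG, hvR, hvV, hvT, hvE, hv1⟩ := data p M hM P hab hfrob
  rw [hCN] at hvG
  -- the relation
  have hRrefl : ∀ ψ : ↥(P : Subgroup G) →* ℂˣ, Rel (P : Subgroup G) ψ ψ := fun ψ =>
    ⟨1, Subgroup.one_mem _, fun w w' h => by
      have : w' = w := Subtype.ext (by simpa using h)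
      rw [this]⟩
  have hnorm : ∀ ψ : ↥(P : Subgroup G) →* ℂˣ, ψ ≠ 1 → ∑ χ, v ψ χ * v ψ χ = (m : ℤ) + 1 :=
    fun ψ hψ => (hvG ψ ψ hψ hψ).1 (hRrefl ψ)
  have hReq : ∀ ψ ψ' : ↥(P : Subgroup G) →* ℂˣ, ψ ≠ 1 → ψ' ≠ 1 →
      (Rel (P : Subgroup G) ψ ψ' ↔ v ψ = v ψ') := by
    intro ψ ψ' hψ hψ'
    constructor
    · intro hR
      have h1 := (hvG ψ ψ' hψ hψ').1 hR
      have h2 := hnorm ψ hψ
      have h3 := hnorm ψ' hψ'
      have h4 : ∑ χ, (v ψ χ - v ψ' χ) ^ 2 = 0 := by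
        have e : ∀ χ, (v ψ χ - v ψ' χ) ^ 2 =
            v ψ χ * v ψ χ - 2 * (v ψ χ * v ψ' χ) + v ψ' χ * v ψ' χ := fun χ => by ring
        simp_rw [e]
        rw [Finset.sum_add_distrib, Finset.sum_sub_distrib, ← Finset.mul_sum, h1, h2, h3]
        ring
      funext χ
      have h5 := (Finset.sum_eq_zero_iff_of_nonneg
        (fun χ _ => sq_nonneg (v ψ χ - v ψ' χ))).mp h4 χ (Finset.mem_univ _)
      have h6 : v ψ χ - v ψ' χ = 0 := by simpa using h5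
      linarith
    · intro heq
      by_contra hR
      have h1 := (hvG ψ ψ' hψ hψ').2 hR
      have h2 := hnorm ψ hψ
      rw [← heq] at h1
      linarith
  have hRne : ∀ ψ ψ' : ↥(P : Subgroup G) →* ℂˣ, ψ ≠ 1 → Rel (P : Subgroup G) ψ ψ' → ψ' ≠ 1 := by
    rintro ψ ψ' hψ ⟨n, hn, h⟩ rfl
    apply hψ
    refine MonoidHom.ext fun w => ?_
    have := h w ⟨n * w * n⁻¹, (Subgroup.mem_normalizer_iff.mp hn _).mp w.2⟩ rfl
    rw [← this]
    rfl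
  -- counting linear characters
  have hcardΨ : Fintype.card (↥(P : Subgroup G) →* ℂˣ) = Nat.card ↥(P : Subgroup G) := by
    rw [← Nat.card_eq_fintype_card]
    exact Cfsg.Agent.S1507.card_hom_sub (P : Subgroup G) hPab
  have hcardne : (Finset.univ.filter (fun ψ : ↥(P : Subgroup G) →* ℂˣ => ψ ≠ 1)).card =
      Nat.card ↥(P : Subgroup G) - 1 := by
    rw [Finset.filter_ne', Finset.card_erase_of_mem (Finset.mem_univ _), Finset.card_univ,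
      hcardΨ]
  have hclass : ∀ ψ : ↥(P : Subgroup G) →* ℂˣ, ψ ≠ 1 →
      Nat.card {ψ' : ↥(P : Subgroup G) →* ℂˣ // Rel (P : Subgroup G) ψ ψ'} = m := fun ψ hψ => by
    rw [card_class p P hab hfrob ψ hψ, hCN]
  obtain ⟨ψ₀, hψ₀⟩ : ∃ ψ₀ : ↥(P : Subgroup G) →* ℂˣ, ψ₀ ≠ 1 := by
    by_contra hall
    have h0 : (Finset.univ.filter (fun ψ : ↥(P : Subgroup G) →* ℂˣ => ψ ≠ 1)) = ∅ := by
      rw [Finset.filter_eq_empty_iff]
      intro ψ _ hψ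
      exact hall ⟨ψ, hψ⟩
    rw [h0, Finset.card_empty] at hcardne
    omega
  obtain ⟨ψ₁, hψ₁, hR01⟩ : ∃ ψ₁ : ↥(P : Subgroup G) →* ℂˣ,
      ψ₁ ≠ 1 ∧ ¬ Rel (P : Subgroup G) ψ₀ ψ₁ := by
    by_contra hall
    have hsub : ∀ ψ : ↥(P : Subgroup G) →* ℂˣ, ψ ≠ 1 → Rel (P : Subgroup G) ψ₀ ψ := by
      intro ψ hψ
      by_contra h
      exact hall ⟨ψ, hψ, h⟩
    have h1 : (Finset.univ.filter (fun ψ : ↥(P : Subgroup G) →* ℂˣ => ψ ≠ 1)).card ≤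
        (Finset.univ.filter
          (fun ψ : ↥(P : Subgroup G) →* ℂˣ => Rel (P : Subgroup G) ψ₀ ψ)).card :=
      Finset.card_le_card (fun ψ hψ => by
        rw [Finset.mem_filter] at hψ ⊢
        exact ⟨Finset.mem_univ _, hsub ψ hψ.2⟩)
    rw [hcardne, ← Fintype.card_subtype, ← Nat.card_eq_fintype_card, hclass ψ₀ hψ₀] at h1
    omega
  -- coherence
  have hw : ∀ χ : IrrCharacter G, (0 : ℤ) < (charDegree (χ : G → ℂ) : ℤ) := fun χ => by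
    exact_mod_cast irr_charDegree_pos χ.2
  have hSnorm : ∀ x ∈ {x : IrrCharacter G → ℤ |
      ∃ ψ : ↥(P : Subgroup G) →* ℂˣ, ψ ≠ 1 ∧ v ψ = x}, ∑ χ, x χ ^ 2 = (m : ℤ) + 1 := by
    rintro x ⟨ψ, hψ, rfl⟩
    rw [← hnorm ψ hψ]
    exact Finset.sum_congr rfl fun χ _ => sq (v ψ χ)
  have hSinner : ∀ x ∈ {x : IrrCharacter G → ℤ |
      ∃ ψ : ↥(P : Subgroup G) →* ℂˣ, ψ ≠ 1 ∧ v ψ = x},
      ∀ y ∈ {x : IrrCharacter G → ℤ | ∃ ψ : ↥(P : Subgroup G) →* ℂˣ, ψ ≠ 1 ∧ v ψ = x},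
      x ≠ y → ∑ χ, x χ * y χ = (m : ℤ) := by
    rintro x ⟨ψ, hψ, rfl⟩ y ⟨ψ', hψ', rfl⟩ hne
    exact (hvG ψ ψ' hψ hψ').2 (fun hR => hne ((hReq ψ ψ' hψ hψ').mp hR))
  have hSwt : ∀ x ∈ {x : IrrCharacter G → ℤ |
      ∃ ψ : ↥(P : Subgroup G) →* ℂˣ, ψ ≠ 1 ∧ v ψ = x},
      ∑ χ : IrrCharacter G, (charDegree (χ : G → ℂ) : ℤ) * x χ = 0 := by
    rintro x ⟨ψ, hψ, rfl⟩
    have h := hvR ψ 1 (by rw [orderOf_one]; exact fun h => hp.one_lt.ne' (Nat.dvd_one.mp h))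
    have h' : ((∑ χ : IrrCharacter G, (charDegree (χ : G → ℂ) : ℤ) * v ψ χ : ℤ) : ℂ) = 0 := by
      rw [← h]
      push_cast
      refine Finset.sum_congr rfl fun χ _ => ?_
      rw [char_natCast_charDegree (isCharacter_of_irr χ.2)]
      ring
    exact_mod_cast h'
  obtain ⟨δ, Γ, γ, ζ', hδ, hform, hΓζ, hΓsum⟩ :=
    Cfsg.Agent.Lib.Helper80.Coherence.coherence (m : ℤ)
      (fun χ : IrrCharacter G => (charDegree (χ : G → ℂ) : ℤ)) hw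
      {x : IrrCharacter G → ℤ | ∃ ψ : ↥(P : Subgroup G) →* ℂˣ, ψ ≠ 1 ∧ v ψ = x}
      hSnorm hSinner hSwt (v ψ₀) (v ψ₁) ⟨ψ₀, hψ₀, rfl⟩ ⟨ψ₁, hψ₁, rfl⟩
      (fun h => hR01 ((hReq ψ₀ ψ₁ hψ₀ hψ₁).mpr h.symm))
  have hK1 : ∀ ψ : ↥(P : Subgroup G) →* ℂˣ, ψ ≠ 1 → ∀ χ,
      v ψ χ = Γ χ + δ * (if χ = ζ' (v ψ) then 1 else 0) :=
    fun ψ hψ χ => hform (v ψ) ⟨ψ, hψ, rfl⟩ χ
  have hδ0 : δ ≠ 0 := by rcases hδ with h | h <;> rw [h] <;> norm_num
  have hδ2 : δ ^ 2 = 1 := by rcases hδ with h | h <;> rw [h] <;> norm_num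
  have hK2 : ∀ ψ ψ' : ↥(P : Subgroup G) →* ℂˣ, ψ ≠ 1 → ψ' ≠ 1 →
      (ζ' (v ψ) = ζ' (v ψ') ↔ Rel (P : Subgroup G) ψ ψ') := by
    intro ψ ψ' hψ hψ'
    rw [hReq ψ ψ' hψ hψ']
    constructor
    · intro h
      funext χ
      rw [hK1 ψ hψ χ, hK1 ψ' hψ' χ, h]
    · intro h
      rw [h]
  have hζ01 : ζ' (v ψ₀) ≠ ζ' (v ψ₁) := fun h => hR01 ((hK2 ψ₀ ψ₁ hψ₀ hψ₁).mp h)
  have hpick : ∀ χ : IrrCharacter G, ∃ ψ : ↥(P : Subgroup G) →* ℂˣ, ψ ≠ 1 ∧ χ ≠ ζ' (v ψ) := by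
    intro χ
    by_cases h : χ = ζ' (v ψ₀)
    · exact ⟨ψ₁, hψ₁, fun h' => hζ01 (h.symm.trans h')⟩
    · exact ⟨ψ₀, hψ₀, h⟩
  have hΓ0 : ∀ χ, χ ∉ principalBlock M G → Γ χ = 0 := by
    intro χ hχ
    obtain ⟨ψ, hψ, hne⟩ := hpick χ
    have := hK1 ψ hψ χ
    rw [hv0 ψ χ hχ, if_neg hne] at this
    linarith
  have hζB : ∀ ψ : ↥(P : Subgroup G) →* ℂˣ, ψ ≠ 1 → ζ' (v ψ) ∈ principalBlock M G := by
    intro ψ hψ
    by_contra h
    have := hK1 ψ hψ (ζ' (v ψ))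
    rw [hv0 ψ _ h, hΓ0 _ h, if_pos rfl] at this
    apply hδ0
    linarith
  have hΓtriv : Γ (triv G) = -1 := by
    obtain ⟨ψ, hψ, hne⟩ := hpick (triv G)
    have := hK1 ψ hψ (triv G)
    rw [hvT ψ hψ, if_neg hne] at this
    linarith
  have htrivY : ∀ ψ : ↥(P : Subgroup G) →* ℂˣ, ψ ≠ 1 → ζ' (v ψ) ≠ triv G := by
    intro ψ hψ h
    have := hK1 ψ hψ (triv G)
    rw [hvT ψ hψ, hΓtriv, if_pos h.symm] at this
    apply hδ0
    linarith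
  -- the sets
  set Y : Set (IrrCharacter G) :=
    {η | ∃ ψ : ↥(P : Subgroup G) →* ℂˣ, ψ ≠ 1 ∧ ζ' (v ψ) = η} with hYdef
  set X : Set (IrrCharacter G) := principalBlock M G \ Y with hXdef
  have hYB : Y ⊆ principalBlock M G := by
    rintro η ⟨ψ, hψ, rfl⟩
    exact hζB ψ hψ
  have hBXY : principalBlock M G = X ∪ Y := (Set.sdiff_union_of_subset hYB).symm
  have hdisj : Disjoint X Y := Set.disjoint_sdiff_left
  have hΓY : ∀ η ∈ Y, Γ η = γ := by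
    rintro η ⟨ψ, hψ, rfl⟩
    exact hΓζ (v ψ) ⟨ψ, hψ, rfl⟩
  -- the number of exceptional characters
  have hcardY : Nat.card ↥(P : Subgroup G) - 1 = Nat.card Y * m := by
    rw [← hcardne, ← Fintype.card_subtype, ← Nat.card_eq_fintype_card]
    let f : {ψ : ↥(P : Subgroup G) →* ℂˣ // ψ ≠ 1} → Y := fun ψ => ⟨ζ' (v ψ.1), ψ.1, ψ.2, rfl⟩
    refine Cfsg.Agent.Lib.Helper75.SelfCent.card_eq_mul_of_fiber f m ?_
    rintro ⟨η, ψb, hψb, rfl⟩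
    rw [← hclass ψb hψb]
    refine Nat.card_congr ?_
    exact
      { toFun := fun a => ⟨a.1.1, (hK2 ψb a.1.1 hψb a.1.2).mp (congrArg Subtype.val a.2).symm⟩
        invFun := fun ψ' => ⟨⟨ψ'.1, hRne ψb ψ'.1 hψb ψ'.2⟩,
          Subtype.ext ((hK2 ψb ψ'.1 hψb (hRne ψb ψ'.1 hψb ψ'.2)).mpr ψ'.2).symm⟩
        left_inv := fun a => rfl
        right_inv := fun ψ' => rfl }
  have hm0 : 0 < m := by omega
  have hYdiv : (Nat.card ↥(P : Subgroup G) - 1) / m = Nat.card Y := by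
    rw [hcardY]
    exact Nat.mul_div_cancel _ hm0
  have hY2 : 2 ≤ Nat.card Y := by
    by_contra h
    have h1 : Nat.card Y ≤ 1 := by omega
    have h2 : Nat.card Y * m ≤ 1 * m := Nat.mul_le_mul_right m h1
    omega
  have hYcardF : (Finset.univ.filter (fun χ : IrrCharacter G => χ ∈ Y)).card = Nat.card Y := by
    rw [← Fintype.card_subtype, ← Nat.card_eq_fintype_card]
  have hXcardF : (Finset.univ.filter (fun χ : IrrCharacter G => χ ∈ X)).card = Nat.card X := by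
    rw [← Fintype.card_subtype, ← Nat.card_eq_fintype_card]
  -- values on p-singular elements
  have hK6 : ∀ χ ∈ principalBlock M G, ∀ z y : G, IsPPart p z y →
      ∀ hy : y ∈ (P : Subgroup G), y ≠ 1 →
      (χ : G → ℂ) z = -(Γ χ : ℂ) + (δ : ℂ) * ∑ ψ : ↥(P : Subgroup G) →* ℂˣ,
        if (ψ ≠ 1 ∧ ζ' (v ψ) = χ) then ((ψ ⟨y, hy⟩ : ℂˣ) : ℂ) else 0 := by
    intro χ hχ z y hz hy hy1
    rw [hvV χ hχ z y hz hy hy1]
    have hy1' : (⟨y, hy⟩ : ↥(P : Subgroup G)) ≠ 1 := fun h => hy1 (congrArg Subtype.val h)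
    have hsumΨ : ∑ ψ : ↥(P : Subgroup G) →* ℂˣ, ((ψ ⟨y, hy⟩ : ℂˣ) : ℂ) = 0 := by
      rw [Cfsg.Agent.Lib.Helper25.CyclicTI.sum_hom_sub (P : Subgroup G) hPab, if_neg hy1']
    have e : ∀ ψ : ↥(P : Subgroup G) →* ℂˣ, (v ψ χ : ℂ) * ((ψ ⟨y, hy⟩ : ℂˣ) : ℂ) =
        (Γ χ : ℂ) * ((ψ ⟨y, hy⟩ : ℂˣ) : ℂ) - (if ψ = 1 then (Γ χ : ℂ) else 0) +
          (δ : ℂ) * (if (ψ ≠ 1 ∧ ζ' (v ψ) = χ) then ((ψ ⟨y, hy⟩ : ℂˣ) : ℂ) else 0) := by
      intro ψ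
      by_cases hψ : ψ = 1
      · subst hψ
        rw [hv1 χ]
        simp
      · rw [hK1 ψ hψ χ, if_neg hψ]
        by_cases h : ζ' (v ψ) = χ
        · rw [if_pos h.symm, if_pos ⟨hψ, h⟩]
          push_cast
          ring
        · rw [if_neg (fun h' => h h'.symm), if_neg (fun h' => h h'.2)]
          push_cast
          ring
    simp_rw [e]
    rw [Finset.sum_add_distrib, Finset.sum_sub_distrib, ← Finset.mul_sum, hsumΨ,
      Finset.sum_ite_eq' Finset.univ (1 : ↥(P : Subgroup G) →* ℂˣ) (fun _ => (Γ χ : ℂ)),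
      if_pos (Finset.mem_univ _), ← Finset.mul_sum]
    ring
  -- relations on p-regular elements
  have hreg : ∀ ψ : ↥(P : Subgroup G) →* ℂˣ, ψ ≠ 1 → ∀ g : G, ¬ p ∣ orderOf g →
      (∑ χ, (Γ χ : ℂ) * (χ : G → ℂ) g) + (δ : ℂ) * (ζ' (v ψ) : G → ℂ) g = 0 := by
    intro ψ hψ g hg
    rw [← hvR ψ g hg]
    have e : ∀ χ : IrrCharacter G, (v ψ χ : ℂ) * (χ : G → ℂ) g =
        (Γ χ : ℂ) * (χ : G → ℂ) g + (δ : ℂ) * (if χ = ζ' (v ψ) then (χ : G → ℂ) g else 0) := by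
      intro χ
      rw [hK1 ψ hψ χ]
      by_cases h : χ = ζ' (v ψ)
      · rw [if_pos h, if_pos h]
        push_cast
        ring
      · rw [if_neg h, if_neg h]
        push_cast
        ring
    simp_rw [e]
    rw [Finset.sum_add_distrib, ← Finset.mul_sum, Finset.sum_ite_eq' Finset.univ (ζ' (v ψ))
      (fun χ => (χ : G → ℂ) g), if_pos (Finset.mem_univ _)]
  have hδC : (δ : ℂ) ≠ 0 := by exact_mod_cast hδ0
  have hagree : ∀ η ∈ Y, ∀ η' ∈ Y, ∀ g : G, ¬ p ∣ orderOf g →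
      (η : G → ℂ) g = (η' : G → ℂ) g := by
    rintro η ⟨ψ, hψ, rfl⟩ η' ⟨ψ', hψ', rfl⟩ g hg
    have h1 := hreg ψ hψ g hg
    have h2 := hreg ψ' hψ' g hg
    have h3 : (δ : ℂ) * ((ζ' (v ψ) : G → ℂ) g - (ζ' (v ψ') : G → ℂ) g) = 0 := by
      linear_combination h1 - h2
    have h4 := (mul_eq_zero.mp h3).resolve_left hδC
    exact sub_eq_zero.mp h4
  -- the norm identity
  have hsq : ∑ χ, Γ χ ^ 2 = ∑ᶠ χ ∈ X, (-Γ χ) ^ 2 + (Nat.card Y : ℤ) * γ ^ 2 := by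
    rw [sum_split (principalBlock M G) X Y hBXY hdisj (fun χ => Γ χ ^ 2)
      (fun χ hχ => by rw [hΓ0 χ hχ]; ring)]
    congr 1
    · exact finsum_mem_congr rfl fun χ _ => by ring
    · have e : ∀ χ : IrrCharacter G, (if χ ∈ Y then Γ χ ^ 2 else 0) =
          (if χ ∈ Y then 1 else 0) * γ ^ 2 := by
        intro χ
        by_cases h : χ ∈ Y
        · rw [if_pos h, if_pos h, hΓY χ h, one_mul]
        · rw [if_neg h, if_neg h, zero_mul]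
      simp_rw [e]
      rw [← Finset.sum_mul, Finset.sum_boole, hYcardF]
  have hane : ∀ χ ∈ X, -Γ χ ≠ 0 := by
    intro χ hχ h
    have hΓχ : Γ χ = 0 := by linarith
    have hall : ∀ ψ : ↥(P : Subgroup G) →* ℂˣ, v ψ χ = 0 := by
      intro ψ
      by_cases hψ : ψ = 1
      · rw [hψ]
        exact hv1 χ
      · rw [hK1 ψ hψ χ, hΓχ, if_neg (fun h' => hχ.2 ⟨ψ, hψ, h'.symm⟩)]
        ring
    have htr := hvE χ hχ.1 hall
    rw [htr, hΓtriv] at hΓχ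
    norm_num at hΓχ
  have hXle : (Nat.card X : ℤ) ≤ ∑ᶠ χ ∈ X, (-Γ χ) ^ 2 := by
    rw [Cfsg.Agent.Lib.CT.ColumnId.finsum_mem_eq_sum, ← hXcardF, Finset.card_filter]
    push_cast
    refine Finset.sum_le_sum fun χ _ => ?_
    by_cases h : χ ∈ X
    · rw [if_pos h, if_pos h]
      have h1 := hane χ h
      have h2 : 0 < (-Γ χ) ^ 2 := by positivity
      linarith
    · rw [if_neg h, if_neg h]
  have hint : ((Nat.card ↥(P : Subgroup G) : ℤ) - 1) / (m : ℤ) = (Nat.card Y : ℤ) := by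
    have h1 : ((Nat.card ↥(P : Subgroup G) : ℤ) - 1) = (Nat.card Y : ℤ) * (m : ℤ) := by
      have h2 : 1 ≤ Nat.card ↥(P : Subgroup G) := Nat.card_pos
      have h3 : ((Nat.card ↥(P : Subgroup G) - 1 : ℕ) : ℤ) = (Nat.card Y : ℤ) * (m : ℤ) := by
        exact_mod_cast hcardY
      rw [← h3]
      push_cast [h2]
      ring
    rw [h1]
    exact Int.mul_ediv_cancel _ (by exact_mod_cast hm0.ne')
  have hnormid : (-γ - δ) ^ 2 + ((Nat.card ↥(P : Subgroup G) - 1) / m - 1 : ℤ) * (-γ) ^ 2 +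
      ∑ᶠ χ ∈ X, (-Γ χ) ^ 2 = (m : ℤ) + 1 := by
    rw [hint]
    have h1 : ∑ᶠ χ ∈ X, (-Γ χ) ^ 2 = (m : ℤ) - 2 * δ * γ - (Nat.card Y : ℤ) * γ ^ 2 := by
      linarith
    rw [h1]
    linear_combination hδ2
  have hsle : Nat.card X ≤ m := by
    have h1 : (1 : ℤ) ≤ (-γ - δ) ^ 2 + ((Nat.card Y : ℤ) - 1) * (-γ) ^ 2 := by
      have hY2' : (2 : ℤ) ≤ (Nat.card Y : ℤ) := by exact_mod_cast hY2
      by_cases hγ : γ = 0
      · rw [hγ]
        have : (-(0 : ℤ) - δ) ^ 2 = δ ^ 2 := by ring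
        rw [this, hδ2]
        simp
      · have h2 : 0 < γ ^ 2 := by positivity
        have h3 : 0 ≤ (-γ - δ) ^ 2 := sq_nonneg _
        have h4 : (-γ) ^ 2 = γ ^ 2 := by ring
        rw [h4]
        nlinarith
    rw [hint] at hnormid
    have h2 : (Nat.card X : ℤ) ≤ (m : ℤ) := by linarith
    exact_mod_cast h2
  refine ⟨Nat.card X, X, Y, hsle, hBXY, hdisj, rfl, hYdiv.symm,
    ⟨triv G, ⟨triv_mem_principalBlock hMp, ?_⟩, rfl⟩,
    fun χ => -Γ χ, -γ, δ, fun ψ => ζ' (v ψ), hδ, ?_, fun ψ hψ => ⟨ψ, hψ, rfl⟩,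
    fun η hη => hη, ?_, ?_, ?_, hagree, ?_⟩
  · rintro ⟨ψ, hψ, h⟩
    exact htrivY ψ hψ h
  · intro χ hχ
    refine ⟨hane χ hχ, ?_⟩
    intro z y hz hy hy1
    rw [hK6 χ hχ.1 z y hz hy hy1]
    have h0 : ∑ ψ : ↥(P : Subgroup G) →* ℂˣ,
        (if (ψ ≠ 1 ∧ ζ' (v ψ) = χ) then ((ψ ⟨y, hy⟩ : ℂˣ) : ℂ) else 0) = 0 :=
      Finset.sum_eq_zero fun ψ _ => if_neg (fun h => hχ.2 ⟨ψ, h.1, h.2⟩)
    rw [h0]
    push_cast
    ring
  · intro ψ ψ' hψ hR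
    exact ((hK2 ψ ψ' hψ (hRne ψ ψ' hψ hR)).mpr hR).symm
  · intro ψ hψ z y hz hy1
    rw [hK6 (ζ' (v ψ)) (hζB ψ hψ) z (y : G) hz y.2 hy1, hΓζ (v ψ) ⟨ψ, hψ, rfl⟩,
      Cfsg.Agent.Lib.CT.ColumnId.finsum_mem_eq_sum]
    push_cast
    congr 2
    refine Finset.sum_congr rfl fun ψ' _ => ?_
    by_cases h : Rel (P : Subgroup G) ψ ψ'
    · have h1 : ψ' ≠ 1 ∧ ζ' (v ψ') = ζ' (v ψ) :=
        ⟨hRne ψ ψ' hψ h, ((hK2 ψ ψ' hψ (hRne ψ ψ' hψ h)).mpr h).symm⟩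
      rw [if_pos h1]
      exact (if_pos h).symm
    · have h1 : ¬ (ψ' ≠ 1 ∧ ζ' (v ψ') = ζ' (v ψ)) := fun h' =>
        h ((hK2 ψ ψ' hψ h'.1).mp h'.2.symm)
      rw [if_neg h1]
      exact (if_neg h).symm
  · exact hnormid
  · intro η hη g hg
    obtain ⟨ψ, hψ, rfl⟩ := hη
    have h1 := hreg ψ hψ g hg
    rw [sum_split (principalBlock M G) X Y hBXY hdisj (fun χ => (Γ χ : ℂ) * (χ : G → ℂ) g)
      (fun χ hχ => by rw [hΓ0 χ hχ]; simp)] at h1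
    have e : ∀ χ : IrrCharacter G, (if χ ∈ Y then (Γ χ : ℂ) * (χ : G → ℂ) g else 0) =
        (if χ ∈ Y then 1 else 0) * ((γ : ℂ) * (ζ' (v ψ) : G → ℂ) g) := by
      intro χ
      by_cases h : χ ∈ Y
      · rw [if_pos h, if_pos h, hΓY χ h, one_mul, hagree χ h (ζ' (v ψ)) ⟨ψ, hψ, rfl⟩ g hg]
      · rw [if_neg h, if_neg h, zero_mul]
    simp_rw [e] at h1
    rw [← Finset.sum_mul, Finset.sum_boole, hYcardF] at h1
    rw [hYdiv]
    have e2 : ∑ᶠ χ ∈ X, ((-Γ χ : ℤ) : ℂ) * (χ : G → ℂ) g =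
        -∑ᶠ χ ∈ X, (Γ χ : ℂ) * (χ : G → ℂ) g := by
      rw [← finsum_mem_neg_distrib _ (Set.toFinite X)]
      exact finsum_mem_congr rfl fun χ _ => by push_cast; ring
    rw [e2]
    push_cast
    linear_combination -h1

end Cfsg.Agent.Lib.Helper80.AbSylowMain
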