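import Mathlib
import Cfsg.Agent.Lib.Helper80.AbSylowMain

/-!
# The principal block for an abelian Sylow subgroup with freely acting normalizer: packaged
structure

`IsPkg` packages the integer columns `v ψ χ` of the principal block together with a coherent
decomposition `v ψ = Γ + δ e_{ζ ψ}`; the consequences used for Brauer's theorems (values on
`p`-singular elements, relations on `p`-regular elements, the norm identity) are derived from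
the package, so that they can be reused after renormalizing the decomposition.
-/

set_option autoImplicit false

namespace Cfsg.Agent.Lib.Helper80.AbSylowPkg

open Cfsg Cfsg.Agent.Lib.CT.Wedderburn Cfsg.Agent.Lib.Helper80.AbSylowCh
  Cfsg.Agent.Lib.Helper80.AbSylowGT Cfsg.Agent.Lib.CT.ThirdMain
  Cfsg.Agent.Lib.Helper80.AbSylowMain

open scoped ComplexConjugate

universe u
variable {G : Type u} [Group G]

/-- The package: integer columns `v`, a sign `δ`, a vector `Γ`, its value `γ` on the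
exceptional characters and the map `ζ` onto the exceptional characters. -/
structure IsPkg [Finite G] (p : ℕ) (M : Ideal AlgInt) (P : Sylow p G) (m : ℕ)
    [Fintype (IrrCharacter G)] [Fintype (↥(P : Subgroup G) →* ℂˣ)]
    [DecidableEq (IrrCharacter G)]
    (v : (↥(P : Subgroup G) →* ℂˣ) → IrrCharacter G → ℤ) (δ : ℤ) (Γ : IrrCharacter G → ℤ)
    (γ : ℤ) (ζ : (↥(P : Subgroup G) →* ℂˣ) → IrrCharacter G) : Prop where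
  hv0 : ∀ ψ χ, χ ∉ principalBlock M G → v ψ χ = 0
  hvR : ∀ ψ (g : G), ¬ p ∣ orderOf g → ∑ χ, (v ψ χ : ℂ) * (χ : G → ℂ) g = 0
  hvV : ∀ χ ∈ principalBlock M G, ∀ z y : G, IsPPart p z y → ∀ hy : y ∈ (P : Subgroup G),
    y ≠ 1 → (χ : G → ℂ) z = ∑ ψ, (v ψ χ : ℂ) * ((ψ ⟨y, hy⟩ : ℂˣ) : ℂ)
  hvT : ∀ ψ, ψ ≠ 1 → v ψ (triv G) = -1
  hvE : ∀ χ ∈ principalBlock M G, (∀ ψ, v ψ χ = 0) → χ = triv G
  hv1 : ∀ χ, v 1 χ = 0
  hδ : δ = 1 ∨ δ = -1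
  hK1 : ∀ ψ, ψ ≠ 1 → ∀ χ, v ψ χ = Γ χ + δ * (if χ = ζ ψ then 1 else 0)
  hΓζ : ∀ ψ, ψ ≠ 1 → Γ (ζ ψ) = γ
  hK2 : ∀ ψ ψ', ψ ≠ 1 → ψ' ≠ 1 → (ζ ψ = ζ ψ' ↔ Rel (P : Subgroup G) ψ ψ')
  hΓsum : ∑ χ, Γ χ ^ 2 + 2 * δ * γ = (m : ℤ)
  hRne : ∀ ψ ψ', ψ ≠ 1 → Rel (P : Subgroup G) ψ ψ' → ψ' ≠ 1
  hclass : ∀ ψ, ψ ≠ 1 → Nat.card {ψ' : ↥(P : Subgroup G) →* ℂˣ // Rel (P : Subgroup G) ψ ψ'} = m
  hcardΨ : Fintype.card (↥(P : Subgroup G) →* ℂˣ) = Nat.card ↥(P : Subgroup G)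
  hPab : ∀ a ∈ (P : Subgroup G), ∀ b ∈ (P : Subgroup G), a * b = b * a
  hex : ∃ ψ₀ ψ₁ : ↥(P : Subgroup G) →* ℂˣ, ψ₀ ≠ 1 ∧ ψ₁ ≠ 1 ∧ ¬ Rel (P : Subgroup G) ψ₀ ψ₁
  hMp : M.IsPrime
  hp : p.Prime
  hm : 0 < m
  hm2 : m + 1 < Nat.card ↥(P : Subgroup G)

/-- The set of exceptional characters attached to `ζ`. -/
def Yset {p : ℕ} {P : Sylow p G} (ζ : (↥(P : Subgroup G) →* ℂˣ) → IrrCharacter G) :
    Set (IrrCharacter G) :=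
  {η | ∃ ψ : ↥(P : Subgroup G) →* ℂˣ, ψ ≠ 1 ∧ ζ ψ = η}

/-- Existence of a package under the hypotheses of Brauer's theorem. -/
theorem exists_pkg [Finite G] (p : ℕ) [Fact p.Prime] (M : Ideal AlgInt) (hM : IsPModular p M)
    (P : Sylow p G) (hab : IsMulCommutative P) (m : ℕ) (hm1 : 1 < m)
    (hm2 : m + 1 < Nat.card ↥(P : Subgroup G))
    (hCN : (Subgroup.centralizer ((P : Subgroup G) : Set G)).relIndex
      (Subgroup.normalizer ((P : Subgroup G) : Set G)) = m)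
    (hfrob : ∀ y : G, y ∈ (P : Subgroup G) → y ≠ 1 →
      Subgroup.centralizer ({y} : Set G) ⊓ Subgroup.normalizer ((P : Subgroup G) : Set G) =
        Subgroup.centralizer ((P : Subgroup G) : Set G))
    [Fintype (IrrCharacter G)] [Fintype (↥(P : Subgroup G) →* ℂˣ)]
    [DecidableEq (IrrCharacter G)] :
    ∃ (v : (↥(P : Subgroup G) →* ℂˣ) → IrrCharacter G → ℤ) (δ : ℤ) (Γ : IrrCharacter G → ℤ)
      (γ : ℤ) (ζ : (↥(P : Subgroup G) →* ℂˣ) → IrrCharacter G), IsPkg p M P m v δ Γ γ ζ := by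
  classical
  have hp : p.Prime := Fact.out
  have hMp := Cfsg.Agent.Lib.Helper77.LocalRing.isPrime_of_isPModular hM
  have hPab : ∀ a ∈ (P : Subgroup G), ∀ b ∈ (P : Subgroup G), a * b = b * a := fun a ha b hb =>
    congrArg Subtype.val (hab.is_comm.comm (⟨a, ha⟩ : P) ⟨b, hb⟩)
  obtain ⟨v, hv0, hvG, hvR, hvV, hvT, hvE, hv1⟩ := data p M hM P hab hfrob
  rw [hCN] at hvG
  have hRrefl : ∀ ψ : ↥(P : Subgroup G) →* ℂˣ, Rel (P : Subgroup G) ψ ψ := fun ψ =>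
    ⟨1, Subgroup.one_mem _, fun w w' h => by
      have : w' = w := Subtype.ext (by simpa using h)
      rw [this]⟩
  have hnorm : ∀ ψ : ↥(P : Subgroup G) →* ℂˣ, ψ ≠ 1 → ∑ χ, v ψ χ * v ψ χ = (m : ℤ) + 1 :=
    fun ψ hψ => (hvG ψ ψ hψ hψ).1 (hRrefl ψ)
  have hReq : ∀ ψ ψ' : ↥(P : Subgroup G) →* ℂˣ, ψ ≠ 1 → ψ' ≠ 1 →
      (Rel (P : Subgroup G) ψ ψ' ↔ v ψ = v ψ') := by
    intro ψ ψ' hψ hψ'
    constructor
    · intro hR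
      have h1 := (hvG ψ ψ' hψ hψ').1 hR
      have h2 := hnorm ψ hψ
      have h3 := hnorm ψ' hψ'
      have h4 : ∑ χ, (v ψ χ - v ψ' χ) ^ 2 = 0 := by
        have e : ∀ χ, (v ψ χ - v ψ' χ) ^ 2 =
            v ψ χ * v ψ χ - 2 * (v ψ χ * v ψ' χ) + v ψ' χ * v ψ' χ := fun χ => by ring
        simp_rw [e]
        rw [Finset.sum_add_distrib, Finset.sum_sub_distrib, ← Finset.mul_sum, h1, h2, h3]
        ring
      funext χ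
      have h5 := (Finset.sum_eq_zero_iff_of_nonneg
        (fun χ _ => sq_nonneg (v ψ χ - v ψ' χ))).mp h4 χ (Finset.mem_univ _)
      have h6 : v ψ χ - v ψ' χ = 0 := by simpa using h5
      linarith
    · intro heq
      by_contra hR
      have h1 := (hvG ψ ψ' hψ hψ').2 hR
      have h2 := hnorm ψ hψ
      rw [← heq] at h1
      linarith
  have hRne : ∀ ψ ψ' : ↥(P : Subgroup G) →* ℂˣ, ψ ≠ 1 → Rel (P : Subgroup G) ψ ψ' → ψ' ≠ 1 := by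
    rintro ψ ψ' hψ ⟨n, hn, h⟩ rfl
    apply hψ
    refine MonoidHom.ext fun w => ?_
    have := h w ⟨n * w * n⁻¹, (Subgroup.mem_normalizer_iff.mp hn _).mp w.2⟩ rfl
    rw [← this]
    rfl
  have hcardΨ : Fintype.card (↥(P : Subgroup G) →* ℂˣ) = Nat.card ↥(P : Subgroup G) := by
    rw [← Nat.card_eq_fintype_card]
    exact Cfsg.Agent.S1507.card_hom_sub (P : Subgroup G) hPab
  have hcardne : (Finset.univ.filter (fun ψ : ↥(P : Subgroup G) →* ℂˣ => ψ ≠ 1)).card =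
      Nat.card ↥(P : Subgroup G) - 1 := by
    rw [Finset.filter_ne', Finset.card_erase_of_mem (Finset.mem_univ _), Finset.card_univ,
      hcardΨ]
  have hclass : ∀ ψ : ↥(P : Subgroup G) →* ℂˣ, ψ ≠ 1 →
      Nat.card {ψ' : ↥(P : Subgroup G) →* ℂˣ // Rel (P : Subgroup G) ψ ψ'} = m := fun ψ hψ => by
    rw [card_class p P hab hfrob ψ hψ, hCN]
  obtain ⟨ψ₀, hψ₀⟩ : ∃ ψ₀ : ↥(P : Subgroup G) →* ℂˣ, ψ₀ ≠ 1 := by
    by_contra hall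
    have h0 : (Finset.univ.filter (fun ψ : ↥(P : Subgroup G) →* ℂˣ => ψ ≠ 1)) = ∅ := by
      rw [Finset.filter_eq_empty_iff]
      intro ψ _ hψ
      exact hall ⟨ψ, hψ⟩
    rw [h0, Finset.card_empty] at hcardne
    omega
  obtain ⟨ψ₁, hψ₁, hR01⟩ : ∃ ψ₁ : ↥(P : Subgroup G) →* ℂˣ,
      ψ₁ ≠ 1 ∧ ¬ Rel (P : Subgroup G) ψ₀ ψ₁ := by
    by_contra hall
    have hsub : ∀ ψ : ↥(P : Subgroup G) →* ℂˣ, ψ ≠ 1 → Rel (P : Subgroup G) ψ₀ ψ := by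
      intro ψ hψ
      by_contra h
      exact hall ⟨ψ, hψ, h⟩
    have h1 : (Finset.univ.filter (fun ψ : ↥(P : Subgroup G) →* ℂˣ => ψ ≠ 1)).card ≤
        (Finset.univ.filter
          (fun ψ : ↥(P : Subgroup G) →* ℂˣ => Rel (P : Subgroup G) ψ₀ ψ)).card :=
      Finset.card_le_card (fun ψ hψ => by
        rw [Finset.mem_filter] at hψ ⊢
        exact ⟨Finset.mem_univ _, hsub ψ hψ.2⟩)
    rw [hcardne, ← Fintype.card_subtype, ← Nat.card_eq_fintype_card, hclass ψ₀ hψ₀] at h1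
    omega
  have hw : ∀ χ : IrrCharacter G, (0 : ℤ) < (charDegree (χ : G → ℂ) : ℤ) := fun χ => by
    exact_mod_cast irr_charDegree_pos χ.2
  have hSnorm : ∀ x ∈ {x : IrrCharacter G → ℤ |
      ∃ ψ : ↥(P : Subgroup G) →* ℂˣ, ψ ≠ 1 ∧ v ψ = x}, ∑ χ, x χ ^ 2 = (m : ℤ) + 1 := by
    rintro x ⟨ψ, hψ, rfl⟩
    rw [← hnorm ψ hψ]
    exact Finset.sum_congr rfl fun χ _ => sq (v ψ χ)
  have hSinner : ∀ x ∈ {x : IrrCharacter G → ℤ |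
      ∃ ψ : ↥(P : Subgroup G) →* ℂˣ, ψ ≠ 1 ∧ v ψ = x},
      ∀ y ∈ {x : IrrCharacter G → ℤ | ∃ ψ : ↥(P : Subgroup G) →* ℂˣ, ψ ≠ 1 ∧ v ψ = x},
      x ≠ y → ∑ χ, x χ * y χ = (m : ℤ) := by
    rintro x ⟨ψ, hψ, rfl⟩ y ⟨ψ', hψ', rfl⟩ hne
    exact (hvG ψ ψ' hψ hψ').2 (fun hR => hne ((hReq ψ ψ' hψ hψ').mp hR))
  have hSwt : ∀ x ∈ {x : IrrCharacter G → ℤ |
      ∃ ψ : ↥(P : Subgroup G) →* ℂˣ, ψ ≠ 1 ∧ v ψ = x},
      ∑ χ : IrrCharacter G, (charDegree (χ : G → ℂ) : ℤ) * x χ = 0 := by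
    rintro x ⟨ψ, hψ, rfl⟩
    have h := hvR ψ 1 (by rw [orderOf_one]; exact fun h => hp.one_lt.ne' (Nat.dvd_one.mp h))
    have h' : ((∑ χ : IrrCharacter G, (charDegree (χ : G → ℂ) : ℤ) * v ψ χ : ℤ) : ℂ) = 0 := by
      rw [← h]
      push_cast
      refine Finset.sum_congr rfl fun χ _ => ?_
      rw [char_natCast_charDegree (isCharacter_of_irr χ.2)]
      ring
    exact_mod_cast h'
  obtain ⟨δ, Γ, γ, ζ', hδ, hform, hΓζ, hΓsum⟩ :=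
    Cfsg.Agent.Lib.Helper80.Coherence.coherence (m : ℤ)
      (fun χ : IrrCharacter G => (charDegree (χ : G → ℂ) : ℤ)) hw
      {x : IrrCharacter G → ℤ | ∃ ψ : ↥(P : Subgroup G) →* ℂˣ, ψ ≠ 1 ∧ v ψ = x}
      hSnorm hSinner hSwt (v ψ₀) (v ψ₁) ⟨ψ₀, hψ₀, rfl⟩ ⟨ψ₁, hψ₁, rfl⟩
      (fun h => hR01 ((hReq ψ₀ ψ₁ hψ₀ hψ₁).mpr h.symm))
  have hK1 : ∀ ψ : ↥(P : Subgroup G) →* ℂˣ, ψ ≠ 1 → ∀ χ,
      v ψ χ = Γ χ + δ * (if χ = ζ' (v ψ) then 1 else 0) := by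
    intro ψ hψ χ
    rw [hform (v ψ) ⟨ψ, hψ, rfl⟩ χ]
  refine ⟨v, δ, Γ, γ, fun ψ => ζ' (v ψ), ?_⟩
  refine
    { hv0 := hv0
      hvR := hvR
      hvV := hvV
      hvT := hvT
      hvE := hvE
      hv1 := hv1
      hδ := hδ
      hK1 := hK1
      hΓζ := fun ψ hψ => hΓζ (v ψ) ⟨ψ, hψ, rfl⟩
      hK2 := ?_
      hΓsum := hΓsum
      hRne := hRne
      hclass := hclass
      hcardΨ := hcardΨ
      hPab := hPab
      hex := ⟨ψ₀, ψ₁, hψ₀, hψ₁, hR01⟩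
      hMp := hMp
      hp := hp
      hm := by omega
      hm2 := hm2 }
  intro ψ ψ' hψ hψ'
  rw [hReq ψ ψ' hψ hψ']
  constructor
  · intro h
    funext χ
    rw [hK1 ψ hψ χ, hK1 ψ' hψ' χ, h]
  · intro h
    rw [h]

section derived

variable [Finite G] {p : ℕ} {M : Ideal AlgInt} {P : Sylow p G} {m : ℕ}
  [Fintype (IrrCharacter G)] [Fintype (↥(P : Subgroup G) →* ℂˣ)] [DecidableEq (IrrCharacter G)]
  [DecidableEq (↥(P : Subgroup G) →* ℂˣ)]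
  {v : (↥(P : Subgroup G) →* ℂˣ) → IrrCharacter G → ℤ} {δ : ℤ} {Γ : IrrCharacter G → ℤ} {γ : ℤ}
  {ζ : (↥(P : Subgroup G) →* ℂˣ) → IrrCharacter G}

omit [DecidableEq (↥(P : Subgroup G) →* ℂˣ)] in
theorem IsPkg.δ_ne (h : IsPkg p M P m v δ Γ γ ζ) : δ ≠ 0 := by
  rcases h.hδ with h1 | h1 <;> rw [h1] <;> norm_num

omit [DecidableEq (↥(P : Subgroup G) →* ℂˣ)] in
theorem IsPkg.δ_sq (h : IsPkg p M P m v δ Γ γ ζ) : δ ^ 2 = 1 := by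
  rcases h.hδ with h1 | h1 <;> rw [h1] <;> norm_num

omit [DecidableEq (↥(P : Subgroup G) →* ℂˣ)] in
theorem IsPkg.pick (h : IsPkg p M P m v δ Γ γ ζ) (χ : IrrCharacter G) :
    ∃ ψ : ↥(P : Subgroup G) →* ℂˣ, ψ ≠ 1 ∧ χ ≠ ζ ψ := by
  obtain ⟨ψ₀, ψ₁, h0, h1, hR⟩ := h.hex
  by_cases hc : χ = ζ ψ₀
  · exact ⟨ψ₁, h1, fun h' => hR ((h.hK2 ψ₀ ψ₁ h0 h1).mp (hc.symm.trans h'))⟩
  · exact ⟨ψ₀, h0, hc⟩

omit [DecidableEq (↥(P : Subgroup G) →* ℂˣ)] in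
theorem IsPkg.Γ_off (h : IsPkg p M P m v δ Γ γ ζ) (χ : IrrCharacter G)
    (hχ : χ ∉ principalBlock M G) : Γ χ = 0 := by
  obtain ⟨ψ, hψ, hne⟩ := h.pick χ
  have := h.hK1 ψ hψ χ
  rw [h.hv0 ψ χ hχ, if_neg hne] at this
  linarith

omit [DecidableEq (↥(P : Subgroup G) →* ℂˣ)] in
theorem IsPkg.ζ_mem (h : IsPkg p M P m v δ Γ γ ζ) (ψ : ↥(P : Subgroup G) →* ℂˣ) (hψ : ψ ≠ 1) :
    ζ ψ ∈ principalBlock M G := by
  by_contra hc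
  have := h.hK1 ψ hψ (ζ ψ)
  rw [h.hv0 ψ _ hc, h.Γ_off _ hc, if_pos rfl] at this
  apply h.δ_ne
  linarith

omit [DecidableEq (↥(P : Subgroup G) →* ℂˣ)] in
theorem IsPkg.Γ_triv (h : IsPkg p M P m v δ Γ γ ζ) : Γ (triv G) = -1 := by
  obtain ⟨ψ, hψ, hne⟩ := h.pick (triv G)
  have := h.hK1 ψ hψ (triv G)
  rw [h.hvT ψ hψ, if_neg hne] at this
  linarith

omit [DecidableEq (↥(P : Subgroup G) →* ℂˣ)] in
theorem IsPkg.ζ_ne_triv (h : IsPkg p M P m v δ Γ γ ζ) (ψ : ↥(P : Subgroup G) →* ℂˣ)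
    (hψ : ψ ≠ 1) : ζ ψ ≠ triv G := by
  intro hc
  have := h.hK1 ψ hψ (triv G)
  rw [h.hvT ψ hψ, h.Γ_triv, if_pos hc.symm] at this
  apply h.δ_ne
  linarith

omit [DecidableEq (↥(P : Subgroup G) →* ℂˣ)] in
theorem IsPkg.Y_sub (h : IsPkg p M P m v δ Γ γ ζ) : Yset ζ ⊆ principalBlock M G := by
  rintro η ⟨ψ, hψ, rfl⟩
  exact h.ζ_mem ψ hψ

omit [DecidableEq (↥(P : Subgroup G) →* ℂˣ)] in
theorem IsPkg.Γ_Y (h : IsPkg p M P m v δ Γ γ ζ) (η : IrrCharacter G) (hη : η ∈ Yset ζ) :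
    Γ η = γ := by
  obtain ⟨ψ, hψ, rfl⟩ := hη
  exact h.hΓζ ψ hψ

omit [DecidableEq (↥(P : Subgroup G) →* ℂˣ)] in
theorem IsPkg.triv_mem_X (h : IsPkg p M P m v δ Γ γ ζ) :
    triv G ∈ principalBlock M G \ Yset ζ := by
  refine ⟨triv_mem_principalBlock h.hMp, ?_⟩
  rintro ⟨ψ, hψ, hc⟩
  exact h.ζ_ne_triv ψ hψ hc

theorem IsPkg.card_ne (h : IsPkg p M P m v δ Γ γ ζ) :
    (Finset.univ.filter (fun ψ : ↥(P : Subgroup G) →* ℂˣ => ψ ≠ 1)).card =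
      Nat.card ↥(P : Subgroup G) - 1 := by
  rw [Finset.filter_ne', Finset.card_erase_of_mem (Finset.mem_univ _), Finset.card_univ,
    h.hcardΨ]

omit [DecidableEq (↥(P : Subgroup G) →* ℂˣ)] in
theorem IsPkg.card_Y (h : IsPkg p M P m v δ Γ γ ζ) :
    Nat.card ↥(P : Subgroup G) - 1 = Nat.card (Yset ζ) * m := by
  classical
  rw [← h.card_ne, ← Fintype.card_subtype, ← Nat.card_eq_fintype_card]
  let f : {ψ : ↥(P : Subgroup G) →* ℂˣ // ψ ≠ 1} → Yset ζ := fun ψ => ⟨ζ ψ.1, ψ.1, ψ.2, rfl⟩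
  refine Cfsg.Agent.Lib.Helper75.SelfCent.card_eq_mul_of_fiber f m ?_
  rintro ⟨η, ψb, hψb, rfl⟩
  rw [← h.hclass ψb hψb]
  refine Nat.card_congr ?_
  exact
    { toFun := fun a => ⟨a.1.1, (h.hK2 ψb a.1.1 hψb a.1.2).mp (congrArg Subtype.val a.2).symm⟩
      invFun := fun ψ' => ⟨⟨ψ'.1, h.hRne ψb ψ'.1 hψb ψ'.2⟩,
        Subtype.ext ((h.hK2 ψb ψ'.1 hψb (h.hRne ψb ψ'.1 hψb ψ'.2)).mpr ψ'.2).symm⟩
      left_inv := fun a => rfl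
      right_inv := fun ψ' => rfl }

omit [DecidableEq (↥(P : Subgroup G) →* ℂˣ)] in
theorem IsPkg.two_le_card_Y (h : IsPkg p M P m v δ Γ γ ζ) : 2 ≤ Nat.card (Yset ζ) := by
  by_contra hc
  have h1 : Nat.card (Yset ζ) ≤ 1 := by omega
  have h2 : Nat.card (Yset ζ) * m ≤ 1 * m := Nat.mul_le_mul_right m h1
  have h3 := h.card_Y
  have h4 := h.hm2
  omega

theorem IsPkg.value (h : IsPkg p M P m v δ Γ γ ζ) (χ : IrrCharacter G)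
    (hχ : χ ∈ principalBlock M G) (z y : G) (hz : IsPPart p z y) (hy : y ∈ (P : Subgroup G))
    (hy1 : y ≠ 1) :
    (χ : G → ℂ) z = -(Γ χ : ℂ) + (δ : ℂ) * ∑ ψ : ↥(P : Subgroup G) →* ℂˣ,
      if (ψ ≠ 1 ∧ ζ ψ = χ) then ((ψ ⟨y, hy⟩ : ℂˣ) : ℂ) else 0 := by
  rw [h.hvV χ hχ z y hz hy hy1]
  have hy1' : (⟨y, hy⟩ : ↥(P : Subgroup G)) ≠ 1 := fun h' => hy1 (congrArg Subtype.val h')
  have hsumΨ : ∑ ψ : ↥(P : Subgroup G) →* ℂˣ, ((ψ ⟨y, hy⟩ : ℂˣ) : ℂ) = 0 := by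
    rw [Cfsg.Agent.Lib.Helper25.CyclicTI.sum_hom_sub (P : Subgroup G) h.hPab, if_neg hy1']
  have e : ∀ ψ : ↥(P : Subgroup G) →* ℂˣ, (v ψ χ : ℂ) * ((ψ ⟨y, hy⟩ : ℂˣ) : ℂ) =
      (Γ χ : ℂ) * ((ψ ⟨y, hy⟩ : ℂˣ) : ℂ) - (if ψ = 1 then (Γ χ : ℂ) else 0) +
        (δ : ℂ) * (if (ψ ≠ 1 ∧ ζ ψ = χ) then ((ψ ⟨y, hy⟩ : ℂˣ) : ℂ) else 0) := by
    intro ψ
    by_cases hψ : ψ = 1
    · subst hψ
      rw [h.hv1 χ]
      simp
    · rw [h.hK1 ψ hψ χ, if_neg hψ]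
      by_cases hc : ζ ψ = χ
      · rw [if_pos hc.symm, if_pos ⟨hψ, hc⟩]
        push_cast
        ring
      · rw [if_neg (fun h' => hc h'.symm), if_neg (fun h' => hc h'.2)]
        push_cast
        ring
  simp_rw [e]
  rw [Finset.sum_add_distrib, Finset.sum_sub_distrib, ← Finset.mul_sum, hsumΨ,
    Finset.sum_ite_eq' Finset.univ (1 : ↥(P : Subgroup G) →* ℂˣ) (fun _ => (Γ χ : ℂ)),
    if_pos (Finset.mem_univ _), ← Finset.mul_sum]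
  ring

omit [DecidableEq (↥(P : Subgroup G) →* ℂˣ)] in
theorem IsPkg.value_X (h : IsPkg p M P m v δ Γ γ ζ) (χ : IrrCharacter G)
    (hχ : χ ∈ principalBlock M G \ Yset ζ) (z y : G) (hz : IsPPart p z y)
    (hy : y ∈ (P : Subgroup G)) (hy1 : y ≠ 1) : (χ : G → ℂ) z = ((-Γ χ : ℤ) : ℂ) := by
  classical
  rw [h.value χ hχ.1 z y hz hy hy1]
  have h0 : ∑ ψ : ↥(P : Subgroup G) →* ℂˣ,
      (if (ψ ≠ 1 ∧ ζ ψ = χ) then ((ψ ⟨y, hy⟩ : ℂˣ) : ℂ) else 0) = 0 :=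
    Finset.sum_eq_zero fun ψ _ => if_neg (fun h' => hχ.2 ⟨ψ, h'.1, h'.2⟩)
  rw [h0]
  push_cast
  ring

omit [DecidableEq (↥(P : Subgroup G) →* ℂˣ)] in
theorem IsPkg.value_Y (h : IsPkg p M P m v δ Γ γ ζ) (ψ : ↥(P : Subgroup G) →* ℂˣ) (hψ : ψ ≠ 1)
    (z y : G) (hz : IsPPart p z y) (hy : y ∈ (P : Subgroup G)) (hy1 : y ≠ 1) :
    (ζ ψ : G → ℂ) z = ((-γ : ℤ) : ℂ) + (δ : ℂ) *
      ∑ᶠ ψ' ∈ {ψ' : ↥(P : Subgroup G) →* ℂˣ | Rel (P : Subgroup G) ψ ψ'},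
        ((ψ' ⟨y, hy⟩ : ℂˣ) : ℂ) := by
  classical
  rw [h.value (ζ ψ) (h.ζ_mem ψ hψ) z y hz hy hy1, h.hΓζ ψ hψ,
    Cfsg.Agent.Lib.CT.ColumnId.finsum_mem_eq_sum]
  push_cast
  congr 2
  refine Finset.sum_congr rfl fun ψ' _ => ?_
  by_cases hc : Rel (P : Subgroup G) ψ ψ'
  · have h1 : ψ' ≠ 1 ∧ ζ ψ' = ζ ψ :=
      ⟨h.hRne ψ ψ' hψ hc, ((h.hK2 ψ ψ' hψ (h.hRne ψ ψ' hψ hc)).mpr hc).symm⟩
    rw [if_pos h1]
    exact (if_pos hc).symm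
  · have h1 : ¬ (ψ' ≠ 1 ∧ ζ ψ' = ζ ψ) := fun h' =>
      hc ((h.hK2 ψ ψ' hψ h'.1).mp h'.2.symm)
    rw [if_neg h1]
    exact (if_neg hc).symm

omit [DecidableEq (↥(P : Subgroup G) →* ℂˣ)] in
theorem IsPkg.reg (h : IsPkg p M P m v δ Γ γ ζ) (ψ : ↥(P : Subgroup G) →* ℂˣ) (hψ : ψ ≠ 1)
    (g : G) (hg : ¬ p ∣ orderOf g) :
    (∑ χ, (Γ χ : ℂ) * (χ : G → ℂ) g) + (δ : ℂ) * (ζ ψ : G → ℂ) g = 0 := by
  rw [← h.hvR ψ g hg]
  have e : ∀ χ : IrrCharacter G, (v ψ χ : ℂ) * (χ : G → ℂ) g =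
      (Γ χ : ℂ) * (χ : G → ℂ) g + (δ : ℂ) * (if χ = ζ ψ then (χ : G → ℂ) g else 0) := by
    intro χ
    rw [h.hK1 ψ hψ χ]
    by_cases hc : χ = ζ ψ
    · rw [if_pos hc, if_pos hc]
      push_cast
      ring
    · rw [if_neg hc, if_neg hc]
      push_cast
      ring
  simp_rw [e]
  rw [Finset.sum_add_distrib, ← Finset.mul_sum, Finset.sum_ite_eq' Finset.univ (ζ ψ)
    (fun χ => (χ : G → ℂ) g), if_pos (Finset.mem_univ _)]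

omit [DecidableEq (↥(P : Subgroup G) →* ℂˣ)] in
theorem IsPkg.agree (h : IsPkg p M P m v δ Γ γ ζ) (η : IrrCharacter G) (hη : η ∈ Yset ζ)
    (η' : IrrCharacter G) (hη' : η' ∈ Yset ζ) (g : G) (hg : ¬ p ∣ orderOf g) :
    (η : G → ℂ) g = (η' : G → ℂ) g := by
  obtain ⟨ψ, hψ, rfl⟩ := hη
  obtain ⟨ψ', hψ', rfl⟩ := hη'
  have h1 := h.reg ψ hψ g hg
  have h2 := h.reg ψ' hψ' g hg
  have hδC : (δ : ℂ) ≠ 0 := by exact_mod_cast h.δ_ne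
  have h3 : (δ : ℂ) * ((ζ ψ : G → ℂ) g - (ζ ψ' : G → ℂ) g) = 0 := by
    linear_combination h1 - h2
  exact sub_eq_zero.mp ((mul_eq_zero.mp h3).resolve_left hδC)

omit [DecidableEq (↥(P : Subgroup G) →* ℂˣ)] in
theorem IsPkg.card_Y_filter (_h : IsPkg p M P m v δ Γ γ ζ)
    [DecidablePred (· ∈ Yset ζ)] :
    (Finset.univ.filter (fun χ : IrrCharacter G => χ ∈ Yset ζ)).card = Nat.card (Yset ζ) := by
  rw [← Fintype.card_subtype, ← Nat.card_eq_fintype_card]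

omit [DecidableEq (↥(P : Subgroup G) →* ℂˣ)] in
theorem IsPkg.sq (h : IsPkg p M P m v δ Γ γ ζ) :
    ∑ χ, Γ χ ^ 2 = ∑ᶠ χ ∈ principalBlock M G \ Yset ζ, Γ χ ^ 2 +
      (Nat.card (Yset ζ) : ℤ) * γ ^ 2 := by
  classical
  rw [sum_split (principalBlock M G) (principalBlock M G \ Yset ζ) (Yset ζ)
    (Set.sdiff_union_of_subset h.Y_sub).symm Set.disjoint_sdiff_left (fun χ => Γ χ ^ 2)
    (fun χ hχ => by rw [h.Γ_off χ hχ]; ring)]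
  congr 1
  have e : ∀ χ : IrrCharacter G, (if χ ∈ Yset ζ then Γ χ ^ 2 else 0) =
      (if χ ∈ Yset ζ then 1 else 0) * γ ^ 2 := by
    intro χ
    by_cases hc : χ ∈ Yset ζ
    · rw [if_pos hc, if_pos hc, h.Γ_Y χ hc, one_mul]
    · rw [if_neg hc, if_neg hc, zero_mul]
  simp_rw [e]
  rw [← Finset.sum_mul, Finset.sum_boole, h.card_Y_filter]

omit [DecidableEq (↥(P : Subgroup G) →* ℂˣ)] in
theorem IsPkg.Γ_ne_zero (h : IsPkg p M P m v δ Γ γ ζ) (χ : IrrCharacter G)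
    (hχ : χ ∈ principalBlock M G \ Yset ζ) : Γ χ ≠ 0 := by
  intro hΓχ
  have hall : ∀ ψ : ↥(P : Subgroup G) →* ℂˣ, v ψ χ = 0 := by
    intro ψ
    by_cases hψ : ψ = 1
    · rw [hψ]
      exact h.hv1 χ
    · rw [h.hK1 ψ hψ χ, hΓχ, if_neg (fun h' => hχ.2 ⟨ψ, hψ, h'.symm⟩)]
      ring
  have htr := h.hvE χ hχ.1 hall
  rw [htr, h.Γ_triv] at hΓχ
  norm_num at hΓχ

omit [DecidableEq (↥(P : Subgroup G) →* ℂˣ)] in
theorem IsPkg.reg_X (h : IsPkg p M P m v δ Γ γ ζ) (η : IrrCharacter G) (hη : η ∈ Yset ζ)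
    (g : G) (hg : ¬ p ∣ orderOf g) :
    ((Nat.card (Yset ζ) : ℂ) * γ + δ) * (η : G → ℂ) g +
      ∑ᶠ χ ∈ principalBlock M G \ Yset ζ, (Γ χ : ℂ) * (χ : G → ℂ) g = 0 := by
  classical
  obtain ⟨ψ, hψ, rfl⟩ := hη
  have h1 := h.reg ψ hψ g hg
  rw [sum_split (principalBlock M G) (principalBlock M G \ Yset ζ) (Yset ζ)
    (Set.sdiff_union_of_subset h.Y_sub).symm Set.disjoint_sdiff_left
    (fun χ => (Γ χ : ℂ) * (χ : G → ℂ) g)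
    (fun χ hχ => by rw [h.Γ_off χ hχ]; simp)] at h1
  have e : ∀ χ : IrrCharacter G, (if χ ∈ Yset ζ then (Γ χ : ℂ) * (χ : G → ℂ) g else 0) =
      (if χ ∈ Yset ζ then 1 else 0) * ((γ : ℂ) * (ζ ψ : G → ℂ) g) := by
    intro χ
    by_cases hc : χ ∈ Yset ζ
    · rw [if_pos hc, if_pos hc, h.Γ_Y χ hc, one_mul, h.agree χ hc (ζ ψ) ⟨ψ, hψ, rfl⟩ g hg]
    · rw [if_neg hc, if_neg hc, zero_mul]
  simp_rw [e] at h1
  rw [← Finset.sum_mul, Finset.sum_boole, h.card_Y_filter] at h1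
  linear_combination h1

end derived

end Cfsg.Agent.Lib.Helper80.AbSylowPkg
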