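import Mathlib
import Cfsg.Prelude.Def_Blocks
import Cfsg.Prelude.Def_BlockRank
import Cfsg.Agent.Lib.Helper80.PReg
import Cfsg.Agent.Lib.Helper80.Integrality
import Cfsg.Agent.Lib.Helper77.LocalRing
import Cfsg.Agent.Lib.Helper77.DefectClass
import Cfsg.Agent.Lib.Helper16.Defect
import Cfsg.Agent.Lib.Helper16.ZR
import Cfsg.Agent.Lib.Helper75.BlockOrth2
import Cfsg.Agent.Lib.CT.Clifford
import Cfsg.Agent.Lib.CT.Orth

/-!
# `p ^ d` times the `p`-regular part of a block character lies in the `ℤ`-span of the block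

For `ψ` in a `p`-block `B` of defect `d`, the inner products `p ^ d [ψ̃, φ]` (`ψ̃` the
`p`-regular part of `ψ`) are integers, and vanish for `φ ∉ B`.
-/

set_option autoImplicit false

namespace Cfsg.Agent.Lib.Helper80.BlockSpan

open Cfsg Cfsg.Agent.Lib.Helper77.LocalRing Cfsg.Agent.Lib.CT.Wedderburn
open scoped ComplexConjugate

universe u

theorem pRegularPart_of_not_dvd {G : Type u} [Group G] (p : ℕ) (χ : G → ℂ) {g : G}
    (h : ¬ p ∣ orderOf g) : pRegularPart p χ g = χ g := by
  unfold pRegularPart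
  exact if_pos h

theorem pRegularPart_of_dvd {G : Type u} [Group G] (p : ℕ) (χ : G → ℂ) {g : G}
    (h : p ∣ orderOf g) : pRegularPart p χ g = 0 := by
  unfold pRegularPart
  exact if_neg (fun h' : IsPRegular p g => h' h)

theorem pRegularPart_isClassFunction {G : Type u} [Group G] (p : ℕ) {χ : G → ℂ}
    (hχ : IsClassFunction G χ) : IsClassFunction G (pRegularPart p χ) := by
  intro g h
  have e : orderOf (h * g * h⁻¹) = orderOf g := by
    have := orderOf_injective (MulAut.conj h).toMonoidHom (MulAut.conj h).injective g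
    simpa using this
  by_cases hg : p ∣ orderOf g
  · rw [pRegularPart_of_dvd p χ hg, pRegularPart_of_dvd p χ (e ▸ hg)]
  · rw [pRegularPart_of_not_dvd p χ hg, pRegularPart_of_not_dvd p χ (e ▸ hg), hχ]

/-- An integer divided by `p ^ j` lies in the local ring only if `p ^ j` divides it. -/
theorem pow_dvd_of_memLocalRing {p : ℕ} {M : Ideal AlgInt} (hM : IsPModular p M) (w : ℤ) (j : ℕ)
    (h : MemLocalRing M ((w : ℂ) / ((p : ℂ) ^ j))) : ((p ^ j : ℕ) : ℤ) ∣ w := by
  have hp := hM.1
  by_cases hw : w = 0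
  · rw [hw]; exact dvd_zero _
  have hm : w.natAbs ≠ 0 := Int.natAbs_ne_zero.2 hw
  have h1 : MemLocalRing M ((w.natAbs : ℂ) / ((p ^ j : ℕ) : ℂ)) := by
    rcases Int.natAbs_eq w with h2 | h2
    · have h3 : (w.natAbs : ℂ) = (w : ℂ) := by
        have := congrArg (fun z : ℤ => (z : ℂ)) h2
        simpa using this.symm
      rw [h3]; push_cast; exact h
    · have h3 : (w.natAbs : ℂ) = -(w : ℂ) := by
        have := congrArg (fun z : ℤ => (z : ℂ)) h2
        simp only [Int.cast_neg, Int.cast_natCast] at this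
        rw [this, neg_neg]
      rw [h3, neg_div]; push_cast; exact memLocalRing_neg h
  have h3 := Cfsg.Agent.Lib.Helper16.Defect.factorization_le_of_memLocalRing hM w.natAbs (p ^ j) hm
    (pow_ne_zero _ hp.ne_zero) h1
  rw [Nat.Prime.factorization_pow hp, Finsupp.single_eq_same] at h3
  have h4 : p ^ j ∣ w.natAbs := (Nat.Prime.pow_dvd_iff_le_factorization hp hm).2 h3
  exact Int.natCast_dvd.2 h4

/-- `p ^ k [ψ̃, φ]` is an integer as soon as `k + ν_p(ψ(1)) ≥ ν_p(|G|)`. -/
theorem exists_int_classInner {G : Type u} [Group G] [Fintype G] (p : ℕ) [Fact p.Prime]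
    (M : Ideal AlgInt) (hM : IsPModular p M) (ψ φ : IrrCharacter G) (k : ℕ)
    (hk : k ≤ (Nat.card G).factorization p)
    (hk2 : (Nat.card G).factorization p ≤ k + (charDegree (ψ : G → ℂ)).factorization p) :
    ∃ z : ℤ, ((p : ℂ) ^ k) * classInner (pRegularPart p (ψ : G → ℂ)) (φ : G → ℂ) = z := by
  classical
  have hp : p.Prime := Fact.out
  have hMp := isPrime_of_isPModular hM
  have hpc : (p : ℂ) ≠ 0 := Nat.cast_ne_zero.mpr hp.ne_zero
  have hGc : (Nat.card G : ℂ) ≠ 0 := Nat.cast_ne_zero.mpr Nat.card_pos.ne'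
  have hψc := isCharacter_of_irr ψ.2
  have hφc := isCharacter_of_irr φ.2
  set a := (Nat.card G).factorization p with ha
  set X := classInner (pRegularPart p (ψ : G → ℂ)) (φ : G → ℂ) with hX
  -- (1) `p ^ a X` is an integer
  obtain ⟨α, β, hα, hβ, hαβ⟩ :=
    Cfsg.Agent.Lib.Helper80.PReg.isGeneralizedCharacter_pRegular p (ψ : G → ℂ) hψc
  obtain ⟨m, hm⟩ := Cfsg.Agent.Lib.CT.Clifford.classInner_char_nat hα hφc
  obtain ⟨n, hn⟩ := Cfsg.Agent.Lib.CT.Clifford.classInner_char_nat hβ hφc
  have h1 : (p : ℂ) ^ a * X = (((m : ℤ) - n : ℤ) : ℂ) := by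
    have h1a : classInner (α - β) (φ : G → ℂ) = (m : ℂ) - n := by
      rw [← hm, ← hn]
      unfold classInner
      rw [← mul_sub, ← Finset.sum_sub_distrib]
      congr 1
      refine Finset.sum_congr rfl fun g _ => ?_
      rw [Pi.sub_apply]; ring
    rw [← hαβ] at h1a
    push_cast
    rw [← h1a, hX]
    unfold classInner
    rw [mul_left_comm, Finset.mul_sum]
    congr 1
    refine Finset.sum_congr rfl fun g _ => ?_
    beta_reduce
    by_cases hg : p ∣ orderOf g
    · rw [pRegularPart_of_dvd p _ hg, if_pos hg]; ring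
    · rw [pRegularPart_of_not_dvd p _ hg, if_neg hg]; push_cast; ring
  -- (2) `p ^ k X` is a local integer
  have h2 : MemLocalRing M ((p : ℂ) ^ k * X) := by
    have hcf : ∀ x g : G, pRegularPart p (ψ : G → ℂ) (x * g * x⁻¹) *
        conj ((φ : G → ℂ) (x * g * x⁻¹)) =
        pRegularPart p (ψ : G → ℂ) g * conj ((φ : G → ℂ) g) := by
      intro x g
      rw [pRegularPart_isClassFunction p (char_isClassFunction hψc) g x,
        char_isClassFunction hφc g x]
    have hsum := Cfsg.Agent.Lib.Helper77.DefectClass.sum_eq_sum_classes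
      (fun g => pRegularPart p (ψ : G → ℂ) g * conj ((φ : G → ℂ) g)) hcf
    have hdeg := Cfsg.Agent.Lib.Helper80.Integrality.apply_one_eq_charDegree hψc
    have hdeg0 : (charDegree (ψ : G → ℂ) : ℂ) ≠ 0 :=
      Nat.cast_ne_zero.mpr (Cfsg.Agent.Lib.Helper80.Integrality.charDegree_pos ψ).ne'
    have h2a : (p : ℂ) ^ k * X = ∑ c : ConjClasses G,
        (if p ∣ orderOf c.out then (0 : ℂ) else
          (((p ^ k * charDegree (ψ : G → ℂ) : ℕ) : ℂ) / (Nat.card G : ℂ)) *
            centralChar (ψ : G → ℂ) c.out * conj ((φ : G → ℂ) c.out)) := by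
      rw [hX]
      unfold classInner
      rw [hsum, Finset.mul_sum, Finset.mul_sum]
      refine Finset.sum_congr rfl fun c _ => ?_
      by_cases hc : p ∣ orderOf c.out
      · rw [if_pos hc, pRegularPart_of_dvd p _ hc]; ring
      · rw [if_neg hc, pRegularPart_of_not_dvd p _ hc]
        unfold centralChar
        rw [hdeg]
        push_cast
        field_simp
    rw [h2a]
    refine memLocalRing_sum hMp _ _ (fun c _ => ?_)
    by_cases hc : p ∣ orderOf c.out
    · rw [if_pos hc]; exact memLocalRing_zero hMp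
    · rw [if_neg hc]
      refine memLocalRing_mul hMp (memLocalRing_mul hMp ?_ ?_) ?_
      · apply Cfsg.Agent.Lib.Helper16.Defect.natCast_div_memLocalRing hM _ _ Nat.card_pos.ne'
        have h3 : p ^ (charDegree (ψ : G → ℂ)).factorization p ∣ charDegree (ψ : G → ℂ) :=
          Nat.ordProj_dvd _ _
        calc p ^ (Nat.card G).factorization p
            ∣ p ^ (k + (charDegree (ψ : G → ℂ)).factorization p) := pow_dvd_pow p hk2
          _ = p ^ k * p ^ (charDegree (ψ : G → ℂ)).factorization p := pow_add _ _ _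
          _ ∣ p ^ k * charDegree (ψ : G → ℂ) := Nat.mul_dvd_mul_left _ h3
      · exact memLocalRing_of_isIntegral hMp
          (Cfsg.Agent.Lib.Helper80.Integrality.isIntegral_centralChar ψ _)
      · apply memLocalRing_of_isIntegral hMp
        rw [← char_apply_inv hφc]
        exact Cfsg.Agent.Lib.Helper80.Integrality.isIntegral_irrCharacter φ _
  -- (3) combine
  obtain ⟨j, hj⟩ := Nat.exists_eq_add_of_le hk
  have h3 : (p : ℂ) ^ k * X = (((m : ℤ) - n : ℤ) : ℂ) / (p : ℂ) ^ j := by
    rw [← h1, hj, pow_add]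
    field_simp
  rw [h3] at h2
  obtain ⟨z, hz⟩ := pow_dvd_of_memLocalRing hM _ j h2
  refine ⟨z, ?_⟩
  rw [h3, hz]
  push_cast
  field_simp

end Cfsg.Agent.Lib.Helper80.BlockSpan
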