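import Mathlib
import Cfsg.Prelude.Def_Blocks
import Cfsg.Prelude.Def_BlockRank
import Cfsg.Agent.Lib.Helper80.BlockSpan
import Cfsg.Agent.Lib.Helper75.BlockRank
import Cfsg.Agent.Lib.Helper16.PSection
import Cfsg.Agent.S4665

/-!
# Brauer's contributions of a block

For a `p`-block `B` of defect `d` the numbers `m χ ψ = p ^ d [χ̃, ψ]` (`χ, ψ ∈ B`, `χ̃` the
`p`-regular part of `χ`) are integers (`mz`).  We prove

* `mz_symm`, `mz_eq_zero_of_not_mem`, `sum_mz_sq` (`∑_ψ m χ ψ ^ 2 = p ^ d m χ χ`),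
  `mz_self_pos`, `mz_self_le`;
* `brauer_contrib`: if `χ` has height zero then `m χ ψ = p ^ (ht ψ) b` with `p ∤ b`
  (Brauer);
* `pow_succ_dvd_mz_self`: if `ψ` has positive height then `p ^ (ht ψ + 1) ∣ m ψ ψ`.
-/

set_option autoImplicit false

namespace Cfsg.Agent.Lib.Helper80.Contrib

open Cfsg Cfsg.Agent.Lib.Helper77.LocalRing Cfsg.Agent.Lib.CT.Wedderburn
  Cfsg.Agent.Lib.Helper80.BlockSpan Cfsg.Agent.Lib.Helper80.Integrality
open scoped ComplexConjugate

universe u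

variable {G : Type u} [Group G]

theorem centralizer_inv (g : G) :
    Subgroup.centralizer ({g⁻¹} : Set G) = Subgroup.centralizer ({g} : Set G) := by
  ext x
  simp only [Subgroup.mem_centralizer_iff, Set.mem_singleton_iff, forall_eq]
  constructor
  · intro h
    calc g * x = g * (x * g⁻¹) * g := by group
      _ = g * (g⁻¹ * x) * g := by rw [h]
      _ = x * g := by group
  · intro h
    calc g⁻¹ * x = g⁻¹ * (x * g) * g⁻¹ := by group
      _ = g⁻¹ * (g * x) * g⁻¹ := by rw [h]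
      _ = x * g⁻¹ := by group

theorem centralChar_inv [Finite G] (φ : IrrCharacter G) (g : G) :
    centralChar (φ : G → ℂ) g⁻¹ = conj (centralChar (φ : G → ℂ) g) := by
  have hφ := isCharacter_of_irr φ.2
  unfold centralChar
  rw [centralizer_inv, char_apply_inv hφ g, map_div₀, map_mul, map_natCast,
    apply_one_eq_charDegree hφ, map_natCast]

/-- The `p`-part of the degree of a character in a block, in terms of defect and height. -/
theorem factorization_charDegree [Finite G] (p : ℕ) (B : Set (IrrCharacter G))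
    (ψ : IrrCharacter G) (hψ : ψ ∈ B) :
    blockDefect p B ≤ (Nat.card G).factorization p ∧
    (charDegree (ψ : G → ℂ)).factorization p =
      ((Nat.card G).factorization p - blockDefect p B) + blockHeight p B (ψ : G → ℂ) := by
  have h1 : sInf ((fun χ : IrrCharacter G => (charDegree (χ : G → ℂ)).factorization p) '' B) ≤
      (charDegree (ψ : G → ℂ)).factorization p := Nat.sInf_le ⟨ψ, hψ, rfl⟩
  have h2 : (charDegree (ψ : G → ℂ)).factorization p ≤ (Nat.card G).factorization p :=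
    (Nat.factorization_le_iff_dvd (charDegree_pos ψ).ne' Nat.card_pos.ne').2
      (charDegree_dvd_card ψ) p
  unfold blockDefect blockHeight
  constructor <;> omega

theorem memLocalIdeal_intCast_iff {p : ℕ} {M : Ideal AlgInt} (hM : IsPModular p M) (z : ℤ) :
    MemLocalIdeal M (z : ℂ) ↔ (p : ℤ) ∣ z := by
  rw [Int.natCast_dvd, ← memLocalIdeal_natCast_iff hM]
  rcases Int.natAbs_eq z with h | h
  · have h3 : (z.natAbs : ℂ) = (z : ℂ) := by
      have := congrArg (fun z : ℤ => (z : ℂ)) h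
      simpa using this.symm
    rw [h3]
  · have h3 : (z.natAbs : ℂ) = -(z : ℂ) := by
      have := congrArg (fun z : ℤ => (z : ℂ)) h
      simp only [Int.cast_neg, Int.cast_natCast] at this
      rw [this, neg_neg]
    rw [h3, memLocalIdeal_neg_iff]

section Local

variable [Fintype G] (p : ℕ) [Fact p.Prime] (M : Ideal AlgInt) (hM : IsPModular p M)

open Classical in
/-- The normalised contribution `p ^ a [χ̃, φ] / φ(1)` as a sum over conjugacy classes. -/
theorem normContrib_eq_sum (χ φ : IrrCharacter G) :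
    ((p ^ (Nat.card G).factorization p : ℕ) : ℂ) *
      classInner (pRegularPart p (χ : G → ℂ)) (φ : G → ℂ) / (φ : G → ℂ) 1 =
    ∑ c : ConjClasses G, ((p ^ (Nat.card G).factorization p : ℕ) : ℂ) / (Nat.card G : ℂ) *
      pRegularPart p (χ : G → ℂ) c.out * centralChar (φ : G → ℂ) (c.out)⁻¹ := by
  classical
  have hχc := isCharacter_of_irr χ.2
  have hφc := isCharacter_of_irr φ.2
  have hGc : (Nat.card G : ℂ) ≠ 0 := Nat.cast_ne_zero.mpr Nat.card_pos.ne'
  have hcf : ∀ x g : G, pRegularPart p (χ : G → ℂ) (x * g * x⁻¹) *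
      conj ((φ : G → ℂ) (x * g * x⁻¹)) =
      pRegularPart p (χ : G → ℂ) g * conj ((φ : G → ℂ) g) := by
    intro x g
    rw [pRegularPart_isClassFunction p (char_isClassFunction hχc) g x,
      char_isClassFunction hφc g x]
  have hsum := Cfsg.Agent.Lib.Helper77.DefectClass.sum_eq_sum_classes
    (fun g => pRegularPart p (χ : G → ℂ) g * conj ((φ : G → ℂ) g)) hcf
  have hdeg := apply_one_eq_charDegree hφc
  have hdeg0 : (charDegree (φ : G → ℂ) : ℂ) ≠ 0 :=
    Nat.cast_ne_zero.mpr (charDegree_pos φ).ne'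
  unfold classInner
  rw [hsum, Finset.mul_sum, Finset.mul_sum, Finset.sum_div]
  refine Finset.sum_congr rfl fun c _ => ?_
  rw [centralChar_inv]
  unfold centralChar
  rw [map_div₀, map_mul, map_natCast, hdeg, map_natCast]
  field_simp

include hM in
theorem normContrib_memLocalRing (χ φ : IrrCharacter G) :
    MemLocalRing M (((p ^ (Nat.card G).factorization p : ℕ) : ℂ) *
      classInner (pRegularPart p (χ : G → ℂ)) (φ : G → ℂ) / (φ : G → ℂ) 1) := by
  classical
  have hMp := isPrime_of_isPModular hM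
  rw [normContrib_eq_sum]
  refine memLocalRing_sum hMp _ _ (fun c _ => ?_)
  refine memLocalRing_mul hMp (memLocalRing_mul hMp ?_ ?_) ?_
  · exact Cfsg.Agent.Lib.Helper16.Defect.natCast_div_memLocalRing hM _ _ Nat.card_pos.ne'
      dvd_rfl
  · by_cases hc : p ∣ orderOf c.out
    · rw [pRegularPart_of_dvd p _ hc]; exact memLocalRing_zero hMp
    · rw [pRegularPart_of_not_dvd p _ hc]
      exact memLocalRing_of_isIntegral hMp (isIntegral_irrCharacter χ _)
  · exact memLocalRing_of_isIntegral hMp (isIntegral_centralChar φ _)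

include hM in
/-- Characters in the same block have congruent normalised contributions. -/
theorem normContrib_congr (χ φ₁ φ₂ : IrrCharacter G)
    (h : SameBlock M (φ₁ : G → ℂ) (φ₂ : G → ℂ)) :
    MemLocalIdeal M (((p ^ (Nat.card G).factorization p : ℕ) : ℂ) *
      classInner (pRegularPart p (χ : G → ℂ)) (φ₁ : G → ℂ) / (φ₁ : G → ℂ) 1 -
      ((p ^ (Nat.card G).factorization p : ℕ) : ℂ) *
      classInner (pRegularPart p (χ : G → ℂ)) (φ₂ : G → ℂ) / (φ₂ : G → ℂ) 1) := by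
  classical
  have hMp := isPrime_of_isPModular hM
  rw [normContrib_eq_sum, normContrib_eq_sum, ← Finset.sum_sub_distrib]
  refine memLocalIdeal_sum hMp _ _ (fun c _ => ?_)
  rw [← mul_sub]
  refine memLocalIdeal_mul_left hMp (memLocalRing_mul hMp ?_ ?_) (h _)
  · exact Cfsg.Agent.Lib.Helper16.Defect.natCast_div_memLocalRing hM _ _ Nat.card_pos.ne'
      dvd_rfl
  · by_cases hc : p ∣ orderOf c.out
    · rw [pRegularPart_of_dvd p _ hc]; exact memLocalRing_zero hMp
    · rw [pRegularPart_of_not_dvd p _ hc]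
      exact memLocalRing_of_isIntegral hMp (isIntegral_irrCharacter χ _)

end Local

/-! ### The integer contributions -/

/-- The integer contribution `p ^ d [χ̃, ψ]` (meaningful for `χ ∈ B`). -/
noncomputable def mz [Fintype G] (p : ℕ) (B : Set (IrrCharacter G)) (χ ψ : IrrCharacter G) : ℤ :=
  ⌊(((p : ℂ) ^ blockDefect p B) *
    classInner (pRegularPart p (χ : G → ℂ)) (ψ : G → ℂ)).re⌋

section Mz

variable [Fintype G] (p : ℕ) [Fact p.Prime] (M : Ideal AlgInt) (hM : IsPModular p M)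
  (B : Set (IrrCharacter G)) (hB : IsPBlock M B)

include hM in
theorem mz_cast (χ ψ : IrrCharacter G) (hχ : χ ∈ B) :
    ((mz p B χ ψ : ℤ) : ℂ) = (p : ℂ) ^ blockDefect p B *
      classInner (pRegularPart p (χ : G → ℂ)) (ψ : G → ℂ) := by
  obtain ⟨z, hz⟩ := exists_int_classInner p M hM χ ψ (blockDefect p B)
    (factorization_charDegree p B χ hχ).1
    (by have := (factorization_charDegree p B χ hχ).2; omega)
  unfold mz
  rw [hz]
  simp

include hM hB in
theorem mz_eq_zero_of_not_mem (χ ψ : IrrCharacter G) (hχ : χ ∈ B) (hψ : ψ ∉ B) :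
    mz p B χ ψ = 0 := by
  unfold mz
  rw [Cfsg.Agent.Lib.Helper75.BlockRank.classInner_pRegularPart_eq_zero p M hM B hB χ ψ hχ hψ]
  simp

omit [Fact (Nat.Prime p)] in
theorem classInner_pRegularPart_conj (χ ψ : IrrCharacter G) :
    classInner (pRegularPart p (ψ : G → ℂ)) (χ : G → ℂ) =
      conj (classInner (pRegularPart p (χ : G → ℂ)) (ψ : G → ℂ)) := by
  unfold classInner
  rw [map_mul, map_inv₀, map_natCast, map_sum]
  congr 1
  refine Finset.sum_congr rfl fun g _ => ?_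
  rw [map_mul, Complex.conj_conj]
  by_cases hg : p ∣ orderOf g
  · rw [pRegularPart_of_dvd p _ hg, pRegularPart_of_dvd p _ hg, map_zero, zero_mul, zero_mul]
  · rw [pRegularPart_of_not_dvd p _ hg, pRegularPart_of_not_dvd p _ hg, mul_comm]

include hM in
theorem mz_symm (χ ψ : IrrCharacter G) (hχ : χ ∈ B) (hψ : ψ ∈ B) :
    mz p B χ ψ = mz p B ψ χ := by
  have h1 := mz_cast p M hM B χ ψ hχ
  have h2 := mz_cast p M hM B ψ χ hψ
  rw [classInner_pRegularPart_conj p χ ψ] at h2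
  have h3 : ((mz p B ψ χ : ℤ) : ℂ) = conj ((mz p B χ ψ : ℤ) : ℂ) := by
    rw [h1, h2, map_mul, map_pow, map_natCast]
  rw [map_intCast] at h3
  exact_mod_cast h3.symm

variable [Fintype (IrrCharacter G)]

include hM in
theorem mz_expand (χ : IrrCharacter G) (hχ : χ ∈ B) (g : G) :
    (p : ℂ) ^ blockDefect p B * pRegularPart p (χ : G → ℂ) g =
      ∑ ψ : IrrCharacter G, ((mz p B χ ψ : ℤ) : ℂ) * (ψ : G → ℂ) g := by
  rw [Cfsg.Agent.Lib.CT.Orth.classFunction_expand_sum _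
    (pRegularPart_isClassFunction p (char_isClassFunction (isCharacter_of_irr χ.2))) g,
    Finset.mul_sum]
  refine Finset.sum_congr rfl fun ψ _ => ?_
  rw [← mul_assoc, mz_cast p M hM B χ ψ hχ]

include hM in
/-- `∑_ψ m χ ψ ^ 2 = p ^ d m χ χ`. -/
theorem sum_mz_sq (χ : IrrCharacter G) (hχ : χ ∈ B) :
    ∑ ψ : IrrCharacter G, mz p B χ ψ ^ 2 = (p : ℤ) ^ blockDefect p B * mz p B χ χ := by
  have hGc : (Nat.card G : ℂ) ≠ 0 := Nat.cast_ne_zero.mpr Nat.card_pos.ne'
  set d := blockDefect p B with hd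
  have e1 := mz_expand p M hM B χ hχ
  have e2 : ∀ ψ : IrrCharacter G, (Nat.card G : ℂ)⁻¹ *
      ∑ g : G, (ψ : G → ℂ) g * conj ((p : ℂ) ^ d * pRegularPart p (χ : G → ℂ) g) =
      ((mz p B χ ψ : ℤ) : ℂ) := by
    intro ψ
    have h1 := congrArg conj (mz_cast p M hM B χ ψ hχ)
    rw [map_intCast] at h1
    rw [h1]
    unfold classInner
    rw [map_mul, map_pow, map_natCast, map_mul, map_inv₀, map_natCast, map_sum, Finset.mul_sum,
      Finset.mul_sum, Finset.mul_sum]
    refine Finset.sum_congr rfl fun g _ => ?_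
    rw [map_mul, map_mul, Complex.conj_conj, map_pow, map_natCast]
    ring
  have key : ((∑ ψ : IrrCharacter G, mz p B χ ψ ^ 2 : ℤ) : ℂ) =
      (((p : ℤ) ^ d * mz p B χ χ : ℤ) : ℂ) := by
    push_cast
    have h3 : ∀ ψ : IrrCharacter G, ((mz p B χ ψ : ℤ) : ℂ) ^ 2 =
        ((mz p B χ ψ : ℤ) : ℂ) * ((Nat.card G : ℂ)⁻¹ *
          ∑ g : G, (ψ : G → ℂ) g * conj ((p : ℂ) ^ d * pRegularPart p (χ : G → ℂ) g)) := by
      intro ψ
      rw [e2 ψ, sq]
    rw [Finset.sum_congr rfl (fun ψ _ => h3 ψ)]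
    have h4 : ∑ ψ : IrrCharacter G, ((mz p B χ ψ : ℤ) : ℂ) * ((Nat.card G : ℂ)⁻¹ *
          ∑ g : G, (ψ : G → ℂ) g * conj ((p : ℂ) ^ d * pRegularPart p (χ : G → ℂ) g)) =
        (Nat.card G : ℂ)⁻¹ * ∑ g : G, (∑ ψ : IrrCharacter G, ((mz p B χ ψ : ℤ) : ℂ) *
          (ψ : G → ℂ) g) * conj ((p : ℂ) ^ d * pRegularPart p (χ : G → ℂ) g) := by
      simp only [Finset.mul_sum, Finset.sum_mul]
      rw [Finset.sum_comm]
      refine Finset.sum_congr rfl fun g _ => ?_
      refine Finset.sum_congr rfl fun ψ _ => ?_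
      ring
    rw [h4, mz_cast p M hM B χ χ hχ]
    have h5 : (p : ℂ) ^ d * ((p : ℂ) ^ d *
        classInner (pRegularPart p (χ : G → ℂ)) (χ : G → ℂ)) =
        (Nat.card G : ℂ)⁻¹ * ∑ g : G, ((p : ℂ) ^ d * pRegularPart p (χ : G → ℂ) g) *
          conj ((p : ℂ) ^ d * pRegularPart p (χ : G → ℂ) g) := by
      unfold classInner
      rw [Finset.mul_sum, Finset.mul_sum, Finset.mul_sum, Finset.mul_sum]
      refine Finset.sum_congr rfl fun g _ => ?_
      rw [map_mul, map_pow, map_natCast]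
      by_cases hg : p ∣ orderOf g
      · rw [pRegularPart_of_dvd p _ hg]; simp
      · rw [pRegularPart_of_not_dvd p _ hg]; ring
    rw [h5]
    congr 1
    refine Finset.sum_congr rfl fun g _ => ?_
    rw [← e1 g]
  exact_mod_cast key

include hM in
theorem mz_self_pos (χ : IrrCharacter G) (hχ : χ ∈ B) : 0 < mz p B χ χ := by
  have hp : p.Prime := Fact.out
  by_contra hcon
  push Not at hcon
  have h1 := sum_mz_sq p M hM B χ hχ
  have h2 : ∑ ψ : IrrCharacter G, mz p B χ ψ ^ 2 ≤ 0 := by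
    rw [h1]
    exact mul_nonpos_of_nonneg_of_nonpos (pow_nonneg (Int.natCast_nonneg p) _) hcon
  have h3 : ∀ ψ ∈ (Finset.univ : Finset (IrrCharacter G)), mz p B χ ψ ^ 2 = 0 :=
    (Finset.sum_eq_zero_iff_of_nonneg (fun ψ _ => sq_nonneg _)).1
      (le_antisymm h2 (Finset.sum_nonneg fun ψ _ => sq_nonneg _))
  have h4 := mz_expand p M hM B χ hχ 1
  have h5 : ∑ ψ : IrrCharacter G, ((mz p B χ ψ : ℤ) : ℂ) * (ψ : G → ℂ) 1 = 0 := by
    apply Finset.sum_eq_zero
    intro ψ hψ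
    have := h3 ψ hψ
    rw [pow_eq_zero_iff (by norm_num)] at this
    rw [this]; simp
  rw [h5, pRegularPart_of_not_dvd p _ (by rw [orderOf_one]; exact hp.one_lt.ne' ∘ Nat.dvd_one.1)]
    at h4
  have hpc : (p : ℂ) ≠ 0 := Nat.cast_ne_zero.mpr hp.ne_zero
  rcases mul_eq_zero.1 h4 with h | h
  · exact pow_ne_zero _ hpc h
  · exact irr_apply_one_ne_zero χ.2 h

include hM in
theorem mz_self_le (χ : IrrCharacter G) (hχ : χ ∈ B) :
    mz p B χ χ ≤ (p : ℤ) ^ blockDefect p B := by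
  have h1 := sum_mz_sq p M hM B χ hχ
  have h2 : mz p B χ χ ^ 2 ≤ ∑ ψ : IrrCharacter G, mz p B χ ψ ^ 2 :=
    Finset.single_le_sum (s := Finset.univ) (f := fun ψ : IrrCharacter G => mz p B χ ψ ^ 2)
      (fun ψ _ => sq_nonneg _) (Finset.mem_univ χ)
  rw [h1, sq] at h2
  exact le_of_mul_le_mul_right h2 (mz_self_pos p M hM B χ hχ)

include hM hB in
/-- If `m χ χ = p ^ d` then `χ` vanishes on `p`-singular elements and `p ^ a ∣ χ(1)`. -/
theorem dvd_of_mz_self_eq (χ : IrrCharacter G) (hχ : χ ∈ B)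
    (h : mz p B χ χ = (p : ℤ) ^ blockDefect p B) :
    p ^ (Nat.card G).factorization p ∣ charDegree (χ : G → ℂ) := by
  classical
  have hp : p.Prime := Fact.out
  have hpc : (p : ℂ) ≠ 0 := Nat.cast_ne_zero.mpr hp.ne_zero
  have h1 := sum_mz_sq p M hM B χ hχ
  rw [← Finset.add_sum_erase _ _ (Finset.mem_univ χ), h, ← sq] at h1
  have h2 : ∑ ψ ∈ (Finset.univ : Finset (IrrCharacter G)).erase χ, mz p B χ ψ ^ 2 = 0 := by
    linarith
  have h3 : ∀ ψ ∈ (Finset.univ : Finset (IrrCharacter G)).erase χ, mz p B χ ψ ^ 2 = 0 :=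
    (Finset.sum_eq_zero_iff_of_nonneg (fun ψ _ => sq_nonneg _)).1 h2
  have h4 : ∀ g : G, pRegularPart p (χ : G → ℂ) g = (χ : G → ℂ) g := by
    intro g
    have h5 := mz_expand p M hM B χ hχ g
    rw [← Finset.add_sum_erase _ _ (Finset.mem_univ χ)] at h5
    have h6 : ∑ ψ ∈ (Finset.univ : Finset (IrrCharacter G)).erase χ,
        ((mz p B χ ψ : ℤ) : ℂ) * (ψ : G → ℂ) g = 0 := by
      apply Finset.sum_eq_zero
      intro ψ hψ
      have := h3 ψ hψ
      rw [pow_eq_zero_iff (by norm_num)] at this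
      rw [this]; simp
    rw [h6, add_zero, h] at h5
    push_cast at h5
    exact mul_left_cancel₀ (pow_ne_zero _ hpc) h5
  set n : IrrCharacter G → ℤ := fun ψ => if ψ = χ then 1 else 0 with hn
  have hn1 : n χ = 1 := if_pos rfl
  have hn0 : ∀ ψ : IrrCharacter G, ψ ≠ χ → n ψ = 0 := fun ψ h => if_neg h
  have hspan : ∀ g : G, (χ : G → ℂ) g = ∑ᶠ ψ ∈ B, (n ψ : ℂ) * (ψ : G → ℂ) g := by
    intro g
    rw [finsum_mem_def, finsum_eq_sum_of_fintype, Finset.sum_eq_single χ]
    · rw [Set.indicator_of_mem hχ, hn1]; simp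
    · intro ψ _ hne
      by_cases hψ : ψ ∈ B
      · rw [Set.indicator_of_mem hψ, hn0 ψ hne]; simp
      · rw [Set.indicator_of_notMem hψ]
    · intro h'; exact absurd (Finset.mem_univ χ) h'
  obtain ⟨k, hk⟩ := Cfsg.Agent.S4665.result p M hM B hB (χ : G → ℂ) ⟨n, hspan⟩
    ⟨n, fun g => by rw [h4 g]; exact hspan g⟩
  rw [apply_one_eq_charDegree (isCharacter_of_irr χ.2)] at hk
  have hk' : ((charDegree (χ : G → ℂ) : ℕ) : ℤ) =
      ((p ^ (Nat.card G).factorization p : ℕ) : ℤ) * k := by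
    have : (((charDegree (χ : G → ℂ) : ℕ) : ℤ) : ℂ) =
        ((((p ^ (Nat.card G).factorization p : ℕ) : ℤ) * k : ℤ) : ℂ) := by
      push_cast
      exact hk
    exact_mod_cast this
  exact Int.natCast_dvd_natCast.1 ⟨k, hk'⟩

end Mz

/-! ### Brauer's theorem on contributions -/

/-- The normalised contribution `p ^ a [χ̃, φ] / φ(1)`. -/
noncomputable def nc [Fintype G] (p : ℕ) (χ φ : IrrCharacter G) : ℂ :=
  ((p ^ (Nat.card G).factorization p : ℕ) : ℂ) *
    classInner (pRegularPart p (χ : G → ℂ)) (φ : G → ℂ) / (φ : G → ℂ) 1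

/-- The `p'`-part of the degree. -/
noncomputable def degp (p : ℕ) (φ : IrrCharacter G) : ℕ :=
  charDegree (φ : G → ℂ) / p ^ (charDegree (φ : G → ℂ)).factorization p

section Brauer

variable [Fintype G] (p : ℕ) [Fact p.Prime] (M : Ideal AlgInt) (hM : IsPModular p M)
  (B : Set (IrrCharacter G)) (hB : IsPBlock M B)

omit [Fintype G] in
theorem degp_ne_zero (φ : IrrCharacter G) : degp p φ ≠ 0 := by
  have hp : p.Prime := Fact.out
  unfold degp
  exact (Nat.div_pos (Nat.le_of_dvd (charDegree_pos φ) (Nat.ordProj_dvd _ _))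
    (pow_pos hp.pos _)).ne'

omit [Fintype G] in
theorem not_dvd_degp (φ : IrrCharacter G) : ¬ p ∣ degp p φ :=
  Nat.not_dvd_ordCompl Fact.out (charDegree_pos φ).ne'

omit [Fintype G] in
include hM in
theorem inv_degp_memLocalRing (φ : IrrCharacter G) :
    MemLocalRing M ((degp p φ : ℂ)⁻¹) := by
  have h := Cfsg.Agent.Lib.Helper16.Defect.natCast_div_memLocalRing hM 1 (degp p φ)
    (degp_ne_zero p φ)
    (by rw [Nat.factorization_eq_zero_of_not_dvd (not_dvd_degp p φ), pow_zero])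
  rwa [Nat.cast_one, one_div] at h

include hM in
theorem nc_mul (χ φ : IrrCharacter G) (hχ : χ ∈ B) (hφ : φ ∈ B) :
    nc p χ φ * ((p : ℂ) ^ blockHeight p B (φ : G → ℂ) * (degp p φ : ℂ)) =
      ((mz p B χ φ : ℤ) : ℂ) := by
  have hp : p.Prime := Fact.out
  have hpc : (p : ℂ) ≠ 0 := Nat.cast_ne_zero.mpr hp.ne_zero
  have hdeg := apply_one_eq_charDegree (isCharacter_of_irr φ.2)
  obtain ⟨hd, hν⟩ := factorization_charDegree p B φ hφ
  have hs0 : (degp p φ : ℂ) ≠ 0 := Nat.cast_ne_zero.mpr (degp_ne_zero p φ)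
  have hsplit : (charDegree (φ : G → ℂ) : ℂ) =
      (p : ℂ) ^ ((Nat.card G).factorization p - blockDefect p B) *
        (p : ℂ) ^ blockHeight p B (φ : G → ℂ) * (degp p φ : ℂ) := by
    have h1 := congrArg (Nat.cast : ℕ → ℂ) (Nat.ordProj_mul_ordCompl_eq_self
      (charDegree (φ : G → ℂ)) p)
    push_cast at h1
    rw [← pow_add, ← hν]
    unfold degp
    rw [← h1]
  have ha : ((p ^ (Nat.card G).factorization p : ℕ) : ℂ) =
      (p : ℂ) ^ ((Nat.card G).factorization p - blockDefect p B) *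
        (p : ℂ) ^ blockDefect p B := by
    push_cast
    rw [← pow_add]
    congr 1
    omega
  unfold nc
  rw [mz_cast p M hM B χ φ hχ, hdeg, hsplit, ha]
  field_simp

include hM in
theorem nc_eq (χ φ : IrrCharacter G) (hχ : χ ∈ B) (hφ : φ ∈ B) :
    nc p χ φ = ((mz p B χ φ : ℤ) : ℂ) / (p : ℂ) ^ blockHeight p B (φ : G → ℂ) *
      (degp p φ : ℂ)⁻¹ := by
  have hp : p.Prime := Fact.out
  have hpc : (p : ℂ) ≠ 0 := Nat.cast_ne_zero.mpr hp.ne_zero
  have hs0 : (degp p φ : ℂ) ≠ 0 := Nat.cast_ne_zero.mpr (degp_ne_zero p φ)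
  rw [← nc_mul p M hM B χ φ hχ hφ]
  field_simp

variable [Fintype (IrrCharacter G)]

include hM hB in
/-- The diagonal contribution of a height-zero character is prime to `p`. -/
theorem not_dvd_mz_self (χ : IrrCharacter G) (hχ : χ ∈ B)
    (h0 : blockHeight p B (χ : G → ℂ) = 0) : ¬ (p : ℤ) ∣ mz p B χ χ := by
  intro hx
  have hp : p.Prime := Fact.out
  have hpc : (p : ℂ) ≠ 0 := Nat.cast_ne_zero.mpr hp.ne_zero
  have hMp := isPrime_of_isPModular hM
  have hself : MemLocalIdeal M (nc p χ χ) := by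
    rw [nc_eq p M hM B χ χ hχ hχ, h0, pow_zero, div_one]
    exact memLocalIdeal_mul_right hMp ((memLocalIdeal_intCast_iff hM _).2 hx)
      (inv_degp_memLocalRing p M hM χ)
  have hall : ∀ ψ ∈ B, (p : ℤ) ∣ mz p B χ ψ := by
    intro ψ hψ
    have h1 := normContrib_congr p M hM χ ψ χ
      (Cfsg.Agent.Lib.Helper16.ZR.sameBlock_of_mem hMp hB hψ hχ)
    have h3 : MemLocalIdeal M (nc p χ ψ) := by
      have := memLocalIdeal_add hMp h1 hself
      unfold nc at this ⊢
      rwa [sub_add_cancel] at this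
    rw [← memLocalIdeal_intCast_iff hM, ← nc_mul p M hM B χ ψ hχ hψ]
    exact memLocalIdeal_mul_right hMp h3 (memLocalRing_mul hMp
      (memLocalRing_pow hMp (memLocalRing_natCast hMp p) _) (memLocalRing_natCast hMp _))
  choose! q hq using hall
  set θ : G → ℂ := fun g => ∑ᶠ ψ ∈ B, (q ψ : ℂ) * (ψ : G → ℂ) g with hθdef
  have hθ : ∀ g : G, (p : ℂ) * θ g =
      (p : ℂ) ^ blockDefect p B * pRegularPart p (χ : G → ℂ) g := by
    intro g
    rw [mz_expand p M hM B χ hχ g]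
    show (p : ℂ) * ∑ᶠ ψ ∈ B, (q ψ : ℂ) * (ψ : G → ℂ) g = _
    rw [finsum_mem_def, finsum_eq_sum_of_fintype, Finset.mul_sum]
    refine Finset.sum_congr rfl fun ψ _ => ?_
    by_cases hψ : ψ ∈ B
    · rw [Set.indicator_of_mem hψ, hq ψ hψ]; push_cast; ring
    · rw [Set.indicator_of_notMem hψ, mz_eq_zero_of_not_mem p M hM B hB χ ψ hχ hψ]; simp
  have hθ0 : ∀ g : G, pRegularPart p θ g = θ g := by
    intro g
    by_cases hg : p ∣ orderOf g
    · rw [pRegularPart_of_dvd p _ hg]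
      have := hθ g
      rw [pRegularPart_of_dvd p _ hg, mul_zero] at this
      exact ((mul_eq_zero.1 this).resolve_left hpc).symm
    · rw [pRegularPart_of_not_dvd p _ hg]
  obtain ⟨k, hk⟩ := Cfsg.Agent.S4665.result p M hM B hB θ ⟨q, fun g => rfl⟩
    ⟨q, fun g => by rw [hθ0 g]⟩
  have h5 := hθ 1
  rw [hk, pRegularPart_of_not_dvd p _
    (by rw [orderOf_one]; exact hp.one_lt.ne' ∘ Nat.dvd_one.1),
    apply_one_eq_charDegree (isCharacter_of_irr χ.2)] at h5
  have h6 : ((p ^ ((Nat.card G).factorization p + 1) : ℕ) : ℤ) * k =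
      ((p ^ blockDefect p B * charDegree (χ : G → ℂ) : ℕ) : ℤ) := by
    have : ((((p ^ ((Nat.card G).factorization p + 1) : ℕ) : ℤ) * k : ℤ) : ℂ) =
        ((((p ^ blockDefect p B * charDegree (χ : G → ℂ) : ℕ) : ℤ)) : ℂ) := by
      push_cast
      rw [pow_succ]
      linear_combination h5
    exact_mod_cast this
  have h7 : p ^ ((Nat.card G).factorization p + 1) ∣
      p ^ blockDefect p B * charDegree (χ : G → ℂ) := Int.natCast_dvd_natCast.1 ⟨k, h6.symm⟩
  have hne : p ^ blockDefect p B * charDegree (χ : G → ℂ) ≠ 0 :=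
    Nat.mul_ne_zero (pow_ne_zero _ hp.ne_zero) (charDegree_pos χ).ne'
  have h8 := (Nat.Prime.pow_dvd_iff_le_factorization hp hne).1 h7
  rw [Nat.factorization_mul (pow_ne_zero _ hp.ne_zero) (charDegree_pos χ).ne',
    Finsupp.add_apply, Nat.Prime.factorization_pow hp, Finsupp.single_eq_same] at h8
  obtain ⟨hd, hν⟩ := factorization_charDegree p B χ hχ
  rw [h0] at hν
  omega

include hM hB in
/-- **Brauer**: if `χ ∈ B` has height zero then `p ^ d [χ̃, ψ] = p ^ (ht ψ) b` with `p ∤ b`,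
for every `ψ ∈ B`. -/
theorem brauer_contrib (χ ψ : IrrCharacter G) (hχ : χ ∈ B)
    (h0 : blockHeight p B (χ : G → ℂ) = 0) (hψ : ψ ∈ B) :
    ∃ b : ℤ, mz p B χ ψ = (p : ℤ) ^ blockHeight p B (ψ : G → ℂ) * b ∧ ¬ (p : ℤ) ∣ b := by
  have hp : p.Prime := Fact.out
  have hpc : (p : ℂ) ≠ 0 := Nat.cast_ne_zero.mpr hp.ne_zero
  have hMp := isPrime_of_isPModular hM
  have hs0 : (degp p ψ : ℂ) ≠ 0 := Nat.cast_ne_zero.mpr (degp_ne_zero p ψ)
  have hx := not_dvd_mz_self p M hM B hB χ hχ h0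
  have hself : ¬ MemLocalIdeal M (nc p χ χ) := by
    intro h
    apply hx
    rw [← memLocalIdeal_intCast_iff hM, ← nc_mul p M hM B χ χ hχ hχ]
    exact memLocalIdeal_mul_right hMp h (memLocalRing_mul hMp
      (memLocalRing_pow hMp (memLocalRing_natCast hMp p) _) (memLocalRing_natCast hMp _))
  have h1 := normContrib_congr p M hM χ ψ χ
    (Cfsg.Agent.Lib.Helper16.ZR.sameBlock_of_mem hMp hB hψ hχ)
  have h2 : ¬ MemLocalIdeal M (nc p χ ψ) := by
    intro h
    apply hself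
    have := memLocalIdeal_sub hMp h h1
    unfold nc at this ⊢
    rwa [sub_sub_cancel] at this
  have h3 := nc_mul p M hM B χ ψ hχ hψ
  have h4 : ((mz p B χ ψ : ℤ) : ℂ) / (p : ℂ) ^ blockHeight p B (ψ : G → ℂ) =
      nc p χ ψ * (degp p ψ : ℂ) := by
    rw [← h3]; field_simp
  have h5 : MemLocalRing M (((mz p B χ ψ : ℤ) : ℂ) / (p : ℂ) ^ blockHeight p B (ψ : G → ℂ)) := by
    rw [h4]
    exact memLocalRing_mul hMp (normContrib_memLocalRing p M hM χ ψ) (memLocalRing_natCast hMp _)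
  obtain ⟨b, hb⟩ := pow_dvd_of_memLocalRing hM _ _ h5
  refine ⟨b, by rw [hb]; push_cast; ring, fun hpb => h2 ?_⟩
  have h6 : nc p χ ψ = (b : ℂ) * (degp p ψ : ℂ)⁻¹ := by
    rw [nc_eq p M hM B χ ψ hχ hψ, hb]
    push_cast
    field_simp
  rw [h6]
  exact memLocalIdeal_mul_right hMp ((memLocalIdeal_intCast_iff hM b).2 hpb)
    (inv_degp_memLocalRing p M hM ψ)

include hM hB in
/-- The diagonal contribution of a character of positive height `h` is divisible by
`p ^ (h + 1)`. -/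
theorem pow_succ_dvd_mz_self (ψ : IrrCharacter G) (hψ : ψ ∈ B)
    (hpos : 0 < blockHeight p B (ψ : G → ℂ)) :
    (p : ℤ) ^ (blockHeight p B (ψ : G → ℂ) + 1) ∣ mz p B ψ ψ := by
  have hp : p.Prime := Fact.out
  have hpc : (p : ℂ) ≠ 0 := Nat.cast_ne_zero.mpr hp.ne_zero
  have hMp := isPrime_of_isPModular hM
  have hs0 : (degp p ψ : ℂ) ≠ 0 := Nat.cast_ne_zero.mpr (degp_ne_zero p ψ)
  obtain ⟨χ₀, hχ₀, h0⟩ := Cfsg.Agent.Lib.Helper16.PSection.exists_height_zero p B ψ hψ
  obtain ⟨b, hb, -⟩ := brauer_contrib p M hM B hB χ₀ ψ hχ₀ h0 hψ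
  have hsym := mz_symm p M hM B ψ χ₀ hψ hχ₀
  have h1 := normContrib_congr p M hM ψ χ₀ ψ
    (Cfsg.Agent.Lib.Helper16.ZR.sameBlock_of_mem hMp hB hχ₀ hψ)
  have h2 : MemLocalIdeal M (nc p ψ χ₀) := by
    rw [nc_eq p M hM B ψ χ₀ hψ hχ₀, h0, pow_zero, div_one, hsym, hb]
    refine memLocalIdeal_mul_right hMp ((memLocalIdeal_intCast_iff hM _).2 ?_)
      (inv_degp_memLocalRing p M hM χ₀)
    exact Dvd.dvd.mul_right (dvd_pow_self _ hpos.ne') _
  have h3 : MemLocalIdeal M (nc p ψ ψ) := by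
    have := memLocalIdeal_sub hMp h2 h1
    unfold nc at this ⊢
    rwa [sub_sub_cancel] at this
  have h4 := nc_mul p M hM B ψ ψ hψ hψ
  have h5 : ((mz p B ψ ψ : ℤ) : ℂ) / (p : ℂ) ^ blockHeight p B (ψ : G → ℂ) =
      nc p ψ ψ * (degp p ψ : ℂ) := by
    rw [← h4]; field_simp
  have h6 : MemLocalIdeal M (nc p ψ ψ * (degp p ψ : ℂ)) :=
    memLocalIdeal_mul_right hMp h3 (memLocalRing_natCast hMp _)
  obtain ⟨w, hw⟩ := pow_dvd_of_memLocalRing hM _ _
    (h5 ▸ memLocalRing_of_memLocalIdeal h6)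
  have h7 : (p : ℤ) ∣ w := by
    rw [← memLocalIdeal_intCast_iff hM]
    have h8 : (w : ℂ) = nc p ψ ψ * (degp p ψ : ℂ) := by
      rw [← h5, hw]
      push_cast
      field_simp
    rw [h8]; exact h6
  obtain ⟨w', rfl⟩ := h7
  exact ⟨w', by rw [hw]; push_cast; ring⟩

end Brauer

end Cfsg.Agent.Lib.Helper80.Contrib
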