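import Mathlib
import Cfsg.Agent.Lib.Helper75.Section2
import Cfsg.Agent.Lib.Helper17.BrGrp

/-!
# Blocks of defect one: local structure of `C_G(P)` for a Sylow subgroup `P` of order `p`

* `exists_proj`: a homomorphism `π : C_G(P) →* P` which is the identity on `P` and whose kernel
  is the set of `p`-regular elements (Burnside transfer).
* `sum_decomp`: summation over `C_G(P)` along `c = z * r`, `z ∈ P`, `r` `p`-regular.
* `sec_zero`: Brauer's second main theorem in coefficient form, for a subgroup `L` equal to the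
  centralizer of a `p`-element.
-/

set_option autoImplicit false
set_option linter.unusedSectionVars false
set_option linter.style.haveILetI false
set_option maxHeartbeats 1000000

namespace Cfsg.Agent.Lib.Helper80.DefOneLoc

open Cfsg Cfsg.Agent.Lib.CT.Wedderburn Cfsg.Agent.Lib.Helper17.BrGrp
open scoped ComplexConjugate

universe u
variable {G : Type u} [Group G]

/-- Elements of a Sylow subgroup of prime order commute. -/
theorem comm_of_mem {p : ℕ} [Fact p.Prime] [Finite G] (P : Sylow p G) (hP : Nat.card P = p)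
    {a b : G} (ha : a ∈ (P : Subgroup G)) (hb : b ∈ (P : Subgroup G)) : a * b = b * a := by
  have hab := isMulCommutative P hP
  exact congrArg Subtype.val (hab.is_comm.comm (⟨a, ha⟩ : P) ⟨b, hb⟩)

theorem le_centralizer {p : ℕ} [Fact p.Prime] [Finite G] (P : Sylow p G) (hP : Nat.card P = p) :
    (P : Subgroup G) ≤ Subgroup.centralizer ((P : Subgroup G) : Set G) := by
  intro w hw
  rw [Subgroup.mem_centralizer_iff]
  intro h hh
  exact comm_of_mem P hP hh hw

/-- The centralizer of a non-identity element of `P` is the centralizer of `P`. -/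
theorem centralizer_eq {p : ℕ} [Fact p.Prime] [Finite G] (P : Sylow p G) (hP : Nat.card P = p)
    {u : G} (hu : u ∈ (P : Subgroup G)) (hu1 : u ≠ 1) :
    Subgroup.centralizer ((P : Subgroup G) : Set G) = Subgroup.centralizer ({u} : Set G) := by
  ext c
  rw [mem_centralizer_iff P hP hu hu1, Subgroup.mem_centralizer_iff]
  constructor
  · intro h w hw
    rw [Set.mem_singleton_iff] at hw
    subst hw
    exact h.symm
  · intro h
    exact (h u rfl).symm

/-- The projection of `C_G(P)` onto `P`. -/
theorem exists_proj {p : ℕ} [Fact p.Prime] [Finite G] (P : Sylow p G) (hP : Nat.card P = p) :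
    ∃ π : ↥(Subgroup.centralizer ((P : Subgroup G) : Set G)) →* ↥(P : Subgroup G),
      (∀ c : ↥(Subgroup.centralizer ((P : Subgroup G) : Set G)),
        (c : G) ∈ (P : Subgroup G) → ((π c : ↥(P : Subgroup G)) : G) = (c : G)) ∧
      (∀ c : ↥(Subgroup.centralizer ((P : Subgroup G) : Set G)),
        π c = 1 ↔ ¬ p ∣ orderOf c) := by
  classical
  have hp : p.Prime := Fact.out
  set L := Subgroup.centralizer ((P : Subgroup G) : Set G) with hL
  have hPL : (P : Subgroup G) ≤ L := le_centralizer P hP
  set Q : Sylow p L := P.subtype hPL with hQdef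
  have hQmem : ∀ h : L, h ∈ (Q : Subgroup L) ↔ (h : G) ∈ (P : Subgroup G) := by
    intro h
    rw [hQdef, Sylow.coe_subtype, Subgroup.mem_subgroupOf]
  have hQ : Subgroup.normalizer (Q : Set L) ≤ Subgroup.centralizer (Q : Set L) := by
    intro n _
    rw [Subgroup.mem_centralizer_iff]
    intro q hq
    apply Subtype.ext
    have := Subgroup.mem_centralizer_iff.mp n.2 (q : G) ((hQmem q).mp hq)
    simpa using this
  set τ := MonoidHom.transferSylow Q hQ with hτ
  set m := (Q : Subgroup L).index with hm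
  have hpm : ¬ p ∣ m := Q.not_dvd_index
  have hcop : Nat.Coprime m p := ((Nat.Prime.coprime_iff_not_dvd hp).mpr hpm).symm
  obtain ⟨m', -, hm'⟩ := Nat.exists_mul_mod_eq_one_of_coprime hcop hp.one_lt
  have hmm' : m * m' ≡ 1 [MOD p] := by
    unfold Nat.ModEq
    rw [hm', Nat.mod_eq_of_lt hp.one_lt]
  have hpm' : ¬ p ∣ m' := by
    intro h
    have h1 : (m * m') % p = 0 := Nat.mod_eq_zero_of_dvd (Dvd.dvd.mul_left h m)
    rw [hm'] at h1
    exact one_ne_zero h1
  let ι : ↥(Q : Subgroup L) →* ↥(P : Subgroup G) :=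
    { toFun := fun x => ⟨((x : L) : G), (hQmem x).mp x.2⟩
      map_one' := rfl
      map_mul' := fun _ _ => rfl }
  have hcomm : ∀ a b : ↥(P : Subgroup G), Commute a b := fun a b =>
    Subtype.ext (comm_of_mem P hP a.2 b.2)
  let π : L →* ↥(P : Subgroup G) :=
    { toFun := fun c => (ι (τ c)) ^ m'
      map_one' := by rw [map_one, map_one, one_pow]
      map_mul' := fun a b => by
        rw [map_mul, map_mul]
        exact (hcomm _ _).mul_pow m' }
  have hπ : ∀ c, π c = (ι (τ c)) ^ m' := fun c => rfl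
  refine ⟨π, ?_, ?_⟩
  · intro c hc
    have hcQ : c ∈ (Q : Subgroup L) := (hQmem c).mpr hc
    have h1 : τ c = ⟨c ^ m, Subgroup.pow_mem _ hcQ m⟩ :=
      MonoidHom.transferSylow_eq_pow Q hQ c hcQ
    rw [hπ, h1]
    show (((c : L) : G) ^ m) ^ m' = (c : G)
    rw [← pow_mul]
    have hord : orderOf (c : G) ∣ p := by
      have := Subgroup.orderOf_dvd_natCard (P : Subgroup G) hc
      rwa [show Nat.card ↥(P : Subgroup G) = p from hP] at this
    have h2 : m * m' ≡ 1 [MOD orderOf (c : G)] := hmm'.of_dvd hord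
    have h3 := pow_eq_pow_iff_modEq.mpr h2
    rw [h3, pow_one]
  · intro c
    constructor
    · intro h1 hdvd
      rw [hπ] at h1
      have h2 : orderOf (ι (τ c)) ∣ m' := orderOf_dvd_of_pow_eq_one h1
      have h3 : orderOf (ι (τ c)) ∣ p := by
        have := orderOf_dvd_natCard (ι (τ c))
        rwa [show Nat.card ↥(P : Subgroup G) = p from hP] at this
      have h4 : orderOf (ι (τ c)) = 1 := by
        rcases (Nat.dvd_prime hp).mp h3 with h | h
        · exact h
        · rw [h] at h2
          exact absurd h2 hpm'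
      have h5 : ι (τ c) = 1 := orderOf_eq_one_iff.mp h4
      have h6 : τ c = 1 := by
        apply Subtype.ext
        apply Subtype.ext
        have := congrArg Subtype.val h5
        exact this
      have h7 : c ∈ τ.ker := MonoidHom.mem_ker.mpr h6
      have h8 : orderOf c ∣ Nat.card τ.ker := by
        have h9 : orderOf (⟨c, h7⟩ : τ.ker) = orderOf c := Subgroup.orderOf_mk c h7
        rw [← h9]
        exact orderOf_dvd_natCard _
      exact MonoidHom.not_dvd_card_ker_transferSylow Q hQ (hdvd.trans h8)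
    · intro hc
      have h1 : orderOf (π c) ∣ orderOf c := orderOf_map_dvd π c
      have h3 : orderOf (π c) ∣ p := by
        have := orderOf_dvd_natCard (π c)
        rwa [show Nat.card ↥(P : Subgroup G) = p from hP] at this
      rcases (Nat.dvd_prime hp).mp h3 with h | h
      · exact orderOf_eq_one_iff.mp h
      · rw [h] at h1
        exact absurd h1 hc

section Decomp

variable {p : ℕ} [Fact p.Prime] [Fintype G] (P : Sylow p G) (hP : Nat.card P = p)
  (π : ↥(Subgroup.centralizer ((P : Subgroup G) : Set G)) →* ↥(P : Subgroup G))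
  (hπP : ∀ c : ↥(Subgroup.centralizer ((P : Subgroup G) : Set G)),
    (c : G) ∈ (P : Subgroup G) → ((π c : ↥(P : Subgroup G)) : G) = (c : G))
  (hπreg : ∀ c : ↥(Subgroup.centralizer ((P : Subgroup G) : Set G)), π c = 1 ↔ ¬ p ∣ orderOf c)

/-- The inclusion of `P` into `C_G(P)`. -/
def inc (hP : Nat.card P = p) (z : ↥(P : Subgroup G)) :
    ↥(Subgroup.centralizer ((P : Subgroup G) : Set G)) :=
  ⟨(z : G), le_centralizer P hP z.2⟩

theorem inc_coe (z : ↥(P : Subgroup G)) : ((inc P hP z : _) : G) = (z : G) := rfl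

include hπP in
theorem proj_inc (z : ↥(P : Subgroup G)) : π (inc P hP z) = z :=
  Subtype.ext (hπP (inc P hP z) z.2)

include hπP hπreg in
/-- Summation over `C_G(P)` along the decomposition `c = z * r`. -/
theorem sum_decomp [Fintype ↥(Subgroup.centralizer ((P : Subgroup G) : Set G))]
    [Fintype ↥(P : Subgroup G)]
    (F : ↥(Subgroup.centralizer ((P : Subgroup G) : Set G)) → ℂ) :
    ∑ c, F c = ∑ z : ↥(P : Subgroup G),
      ∑ r : ↥(Subgroup.centralizer ((P : Subgroup G) : Set G)),
        (if p ∣ orderOf r then 0 else F (inc P hP z * r)) := by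
  classical
  have h1 : ∀ c : ↥(Subgroup.centralizer ((P : Subgroup G) : Set G)),
      F c = ∑ z : ↥(P : Subgroup G), if π c = z then F c else 0 := by
    intro c
    rw [Finset.sum_ite_eq Finset.univ (π c) (fun _ => F c), if_pos (Finset.mem_univ _)]
  rw [Finset.sum_congr rfl (fun c _ => h1 c), Finset.sum_comm]
  refine Finset.sum_congr rfl fun z _ => ?_
  refine Fintype.sum_equiv (Equiv.mulLeft (inc P hP z)⁻¹) _ _ fun c => ?_
  show (if π c = z then F c else 0) = if p ∣ orderOf ((inc P hP z)⁻¹ * c) then 0 else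
    F (inc P hP z * ((inc P hP z)⁻¹ * c))
  have e1 : inc P hP z * ((inc P hP z)⁻¹ * c) = c := by group
  have e2 : π ((inc P hP z)⁻¹ * c) = z⁻¹ * π c := by
    rw [map_mul, map_inv, proj_inc P hP π hπP]
  rw [e1]
  by_cases hc : π c = z
  · have h2 : π ((inc P hP z)⁻¹ * c) = 1 := by rw [e2, hc, inv_mul_cancel]
    rw [if_pos hc, if_neg ((hπreg _).mp h2)]
  · have h2 : π ((inc P hP z)⁻¹ * c) ≠ 1 := by
      rw [e2]
      intro h
      apply hc
      exact (inv_mul_eq_one.mp h).symm
    have h3 : p ∣ orderOf ((inc P hP z)⁻¹ * c) := by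
      by_contra h
      exact h2 ((hπreg _).mpr h)
    rw [if_neg hc, if_pos h3]

end Decomp

/-- **Second main theorem**, coefficient form, for a subgroup `L` equal to the centralizer of
the `p`-element `x`. -/
theorem sec_zero [Finite G] (p : ℕ) [Fact p.Prime] (M : Ideal AlgInt) (hM : IsPModular p M)
    (x : G) (hx : ∃ k : ℕ, orderOf x = p ^ k) (L : Subgroup G)
    (hL : L = Subgroup.centralizer ({x} : Set G)) [Fintype L]
    (χ : IrrCharacter G) (ξ : IrrCharacter L)
    (hnot : ¬ IsInducedBlock M L (blockOf M (ξ : L → ℂ)) (blockOf M (χ : G → ℂ))) :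
    ∑ r : L, (if p ∣ orderOf r then 0 else (χ : G → ℂ) (x * (r : G)) * conj ((ξ : L → ℂ) r)) =
      0 := by
  subst hL
  have hMp := Cfsg.Agent.Lib.Helper77.LocalRing.isPrime_of_isPModular hM
  have hχ : χ ∈ blockOf M (χ : G → ℂ) := by
    intro g
    rw [sub_self]
    exact ⟨0, 1, M.zero_mem, (Ideal.ne_top_iff_one M).mp hMp.ne_top, by simp⟩
  have h := Cfsg.Agent.Lib.Helper75.Section2.classInner_secRes_eq_zero p M hM x hx
    (blockOf M (χ : G → ℂ)) (Cfsg.Agent.Lib.CT.DefectZeroBlock.isPBlock_blockOf χ) χ hχ ξ hnot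
  unfold classInner at h
  have hne : (Nat.card ↥(Subgroup.centralizer ({x} : Set G)) : ℂ)⁻¹ ≠ 0 :=
    inv_ne_zero (Nat.cast_ne_zero.mpr Nat.card_pos.ne')
  have h2 := (mul_eq_zero.mp h).resolve_left hne
  refine Eq.trans ?_ h2
  refine Finset.sum_congr rfl fun r _ => ?_
  by_cases hr : p ∣ orderOf r
  · rw [if_pos hr, Cfsg.Agent.Lib.Helper75.Section.secRes_of_singular p x _ hr, zero_mul]
  · rw [if_neg hr, Cfsg.Agent.Lib.Helper75.Section.secRes_of_regular p x _ hr]

end Cfsg.Agent.Lib.Helper80.DefOneLoc
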