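import Mathlib
import Cfsg.Prelude.Def_Blocks
import Cfsg.Agent.Lib.Helper80.Integrality
import Cfsg.Agent.Lib.CT.Orth
import Cfsg.Agent.Lib.CT.Kernel
import Cfsg.Agent.Lib.CT.Ops

/-!
Kernels and codegrees of irreducible characters.  Namespace `Cfsg.Agent.Lib.Helper80.Codegree`.
The codegree of `χ` is written, as in the statements, as
`Nat.card G / (Nat.card {g : G // χ g = χ 1} * charDegree χ)`.
-/

set_option autoImplicit false

namespace Cfsg.Agent.Lib.Helper80.Codegree

open Cfsg Cfsg.Agent.Lib.Helper80.Integrality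
open Cfsg.Agent.Lib.CT.Wedderburn Cfsg.Agent.Lib.CT.Orth Cfsg.Agent.Lib.CT.Kernel
open scoped ComplexConjugate

universe u
variable {G : Type u} [Group G]

/-- The principal character as an element of `IrrCharacter G`. -/
noncomputable def triv (G : Type u) [Group G] : IrrCharacter G :=
  ⟨fun _ => (1 : ℂ), Cfsg.Agent.Lib.CT.Ops.isIrrCharacter_one⟩

theorem triv_apply (g : G) : ((triv G : IrrCharacter G) : G → ℂ) g = 1 := rfl

theorem charDegree_triv : charDegree ((triv G : IrrCharacter G) : G → ℂ) = 1 := by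
  simp [charDegree, triv]

/-- The kernel of an irreducible character as a normal subgroup, with its cardinality. -/
theorem exists_ker [Finite G] (χ : IrrCharacter G) :
    ∃ K : Subgroup G, K.Normal ∧ (∀ g, g ∈ K ↔ (χ : G → ℂ) g = (χ : G → ℂ) 1) ∧
      Nat.card {g : G // (χ : G → ℂ) g = (χ : G → ℂ) 1} = Nat.card K := by
  obtain ⟨K, hKn, hK⟩ := exists_normal_ker (isCharacter_of_irr χ.2)
  refine ⟨K, hKn, hK, ?_⟩
  exact Nat.card_congr (Equiv.subtypeEquivRight fun g => (hK g).symm)

/-- An irreducible character that is constant is the principal character. -/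
theorem eq_triv_of_const [Finite G] (χ : IrrCharacter G)
    (h : ∀ g : G, (χ : G → ℂ) g = (χ : G → ℂ) 1) : χ = triv G := by
  haveI := Fintype.ofFinite G
  by_contra hne
  have horth := irr_orthonormal χ (triv G)
  rw [if_neg hne, classInner] at horth
  have hcard : (Nat.card G : ℂ) ≠ 0 := Nat.cast_ne_zero.mpr Nat.card_pos.ne'
  have h1 : ∑ x : G, (χ : G → ℂ) x * conj (((triv G : IrrCharacter G) : G → ℂ) x) =
      (Nat.card G : ℂ) * (χ : G → ℂ) 1 := by
    simp only [h, triv_apply, map_one, mul_one, Finset.sum_const, Finset.card_univ, nsmul_eq_mul,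
      Nat.card_eq_fintype_card]
  rw [h1] at horth
  have h2 : (χ : G → ℂ) 1 = 0 := by
    rcases mul_eq_zero.1 horth with h3 | h3
    · exact absurd (inv_eq_zero.1 h3) hcard
    · rcases mul_eq_zero.1 h3 with h4 | h4
      · exact absurd h4 hcard
      · exact h4
  exact irr_apply_one_ne_zero χ.2 h2

/-- `card (ker χ) * χ(1)` divides `card G`: the codegree division is exact. -/
theorem card_ker_mul_charDegree_dvd_card [Finite G] (χ : IrrCharacter G) :
    Nat.card {g : G // (χ : G → ℂ) g = (χ : G → ℂ) 1} * charDegree (χ : G → ℂ) ∣ Nat.card G := by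
  obtain ⟨K, hKn, hK, hcard⟩ := exists_ker χ
  obtain ⟨χbar, hirr, hbar⟩ := exists_quotient_irr K χ.2 (fun n hn => (hK n).1 hn)
  have hdeg : charDegree χbar = charDegree (χ : G → ℂ) := by
    unfold charDegree
    rw [← hbar 1]
    rfl
  have h1 : charDegree χbar ∣ Nat.card (G ⧸ K) := charDegree_dvd_card ⟨χbar, hirr⟩
  rw [hcard, ← Subgroup.card_mul_index K, ← hdeg, Subgroup.index_eq_card]
  exact Nat.mul_dvd_mul_left _ h1

/-- `card G = card (ker χ) * χ(1) * cod χ`. -/
theorem card_eq_ker_mul_deg_mul_cod [Finite G] (χ : IrrCharacter G) :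
    Nat.card G = Nat.card {g : G // (χ : G → ℂ) g = (χ : G → ℂ) 1} * charDegree (χ : G → ℂ) *
      (Nat.card G / (Nat.card {g : G // (χ : G → ℂ) g = (χ : G → ℂ) 1} *
        charDegree (χ : G → ℂ))) :=
  (Nat.mul_div_cancel' (card_ker_mul_charDegree_dvd_card χ)).symm

/-- The codegree divides the group order. -/
theorem cod_dvd_card [Finite G] (χ : IrrCharacter G) :
    Nat.card G / (Nat.card {g : G // (χ : G → ℂ) g = (χ : G → ℂ) 1} * charDegree (χ : G → ℂ)) ∣
      Nat.card G :=
  Nat.div_dvd_of_dvd (card_ker_mul_charDegree_dvd_card χ)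

/-- The codegree is positive. -/
theorem cod_pos [Finite G] (χ : IrrCharacter G) :
    0 < Nat.card G / (Nat.card {g : G // (χ : G → ℂ) g = (χ : G → ℂ) 1} *
      charDegree (χ : G → ℂ)) :=
  Nat.pos_of_ne_zero fun h => by
    have h1 := card_eq_ker_mul_deg_mul_cod χ
    rw [h, mul_zero] at h1
    exact Nat.card_pos.ne' h1

/-- For a faithful irreducible character the kernel set has one element. -/
theorem card_ker_eq_one_of_faithful (χ : IrrCharacter G)
    (hf : ∀ g : G, (χ : G → ℂ) g = (χ : G → ℂ) 1 → g = 1) :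
    Nat.card {g : G // (χ : G → ℂ) g = (χ : G → ℂ) 1} = 1 := by
  rw [Nat.card_eq_one_iff_unique]
  exact ⟨⟨fun a b => Subtype.ext ((hf a.1 a.2).trans (hf b.1 b.2).symm)⟩, ⟨⟨1, rfl⟩⟩⟩

/-- In a finite simple group every non-principal irreducible character is faithful. -/
theorem faithful_of_simple [Finite G] [IsSimpleGroup G] (χ : IrrCharacter G) (hχ : χ ≠ triv G)
    (g : G) (hg : (χ : G → ℂ) g = (χ : G → ℂ) 1) : g = 1 := by
  obtain ⟨K, hKn, hK, -⟩ := exists_ker χ
  rcases hKn.eq_bot_or_eq_top with h | h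
  · exact (Subgroup.mem_bot).1 (h ▸ (hK g).2 hg)
  · exact absurd (eq_triv_of_const χ fun x => (hK x).1 (h ▸ Subgroup.mem_top x)) hχ

/-- If a prime `r` divides the order of a finite group, some non-principal irreducible character
has degree prime to `r`. -/
theorem exists_ne_triv_not_dvd [Finite G] (r : ℕ) (hr : r.Prime) (hdvd : r ∣ Nat.card G) :
    ∃ χ : IrrCharacter G, χ ≠ triv G ∧ ¬ r ∣ charDegree (χ : G → ℂ) := by
  classical
  by_contra hcon
  push Not at hcon
  haveI := finite_irrCharacter G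
  haveI := Fintype.ofFinite (IrrCharacter G)
  have hsum := sum_charDegree_sq (G := G)
  rw [finsum_eq_sum_of_fintype,
    ← Finset.add_sum_erase Finset.univ _ (Finset.mem_univ (triv G)), charDegree_triv] at hsum
  have h1 : r ∣ ∑ χ ∈ Finset.univ.erase (triv G), charDegree (χ : G → ℂ) ^ 2 :=
    Finset.dvd_sum fun χ hχ =>
      dvd_pow (hcon χ (Finset.ne_of_mem_erase hχ)) (by norm_num)
  have h2 : r ∣ 1 ^ 2 := by
    have h3 : r ∣ 1 ^ 2 + ∑ χ ∈ Finset.univ.erase (triv G), charDegree (χ : G → ℂ) ^ 2 := by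
      rw [hsum]; exact hdvd
    exact (Nat.dvd_add_left h1).1 h3
  exact hr.one_lt.ne' (Nat.dvd_one.1 (by simpa using h2))

end Cfsg.Agent.Lib.Helper80.Codegree
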