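import Mathlib
import Cfsg.Prelude.Def_Blocks
import Cfsg.Agent.Lib.Helper80.Core
import Cfsg.Agent.Lib.Helper80.Codegree
import Cfsg.Agent.Lib.CT.LinChar

/-!
Groups with a faithful irreducible character of prime codegree; linear characters with kernel
of prime index.  Namespace `Cfsg.Agent.Lib.Helper80.PrimeCod`.
-/

set_option autoImplicit false

namespace Cfsg.Agent.Lib.Helper80.PrimeCod

open Cfsg Cfsg.Agent.Lib.Helper80.Integrality Cfsg.Agent.Lib.Helper80.Core
open Cfsg.Agent.Lib.Helper80.Codegree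
open Cfsg.Agent.Lib.CT.Wedderburn Cfsg.Agent.Lib.CT.LinChar

universe u
variable {G : Type u} [Group G]

/-- A finite group that is not perfect has a homomorphism to `ℂˣ` whose kernel has prime
index. -/
theorem exists_hom_ker_index_prime [Finite G] (h : commutator G ≠ ⊤) :
    ∃ (p : ℕ) (ψ : G →* ℂˣ), p.Prime ∧ ψ.ker.index = p := by
  -- a nontrivial homomorphism
  obtain ⟨g₀, hg₀⟩ : ∃ g₀ : G, g₀ ∉ commutator G := by
    by_contra hcon
    push Not at hcon
    exact h ((Subgroup.eq_top_iff' _).2 hcon)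
  have ha : (Abelianization.of g₀ : Abelianization G) ≠ 1 := by
    intro h1
    apply hg₀
    rw [← Abelianization.ker_of G, MonoidHom.mem_ker]
    exact h1
  haveI : NeZero (Monoid.exponent (Abelianization G)) :=
    ⟨Monoid.exponent_ne_zero_of_finite⟩
  obtain ⟨φ₀, hφ₀⟩ :=
    CommGroup.exists_apply_ne_one_of_hasEnoughRootsOfUnity (Abelianization G) ℂ ha
  set φ : G →* ℂˣ := φ₀.comp Abelianization.of with hφ
  have hφ1 : φ ≠ 1 := by
    intro h1
    apply hφ₀
    have := congrArg (fun f : G →* ℂˣ => f g₀) h1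
    simpa [hφ] using this
  have hpow : φ ^ Nat.card G = 1 := by
    ext g
    simp only [MonoidHom.pow_apply, MonoidHom.one_apply]
    rw [← map_pow, pow_card_eq_one', map_one]
  have hn0 : orderOf φ ≠ 0 := by
    intro h0
    have := orderOf_dvd_of_pow_eq_one (x := φ) (n := Nat.card G) hpow
    rw [h0, zero_dvd_iff] at this
    exact Nat.card_pos.ne' this
  have hn1 : orderOf φ ≠ 1 := fun h1 => hφ1 (orderOf_eq_one_iff.1 h1)
  set p := (orderOf φ).minFac with hp
  have hpp : p.Prime := Nat.minFac_prime hn1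
  haveI : Fact p.Prime := ⟨hpp⟩
  have hpd : p ∣ orderOf φ := Nat.minFac_dvd _
  set ψ : G →* ℂˣ := φ ^ (orderOf φ / p) with hψ
  have hψo : orderOf ψ = p := orderOf_pow_orderOf_div hn0 hpd
  have hψ1 : ψ ≠ 1 := by
    intro h1
    rw [h1, orderOf_one] at hψo
    exact hpp.one_lt.ne hψo
  have hψp : ψ ^ p = 1 := by rw [← hψo]; exact pow_orderOf_eq_one ψ
  refine ⟨p, ψ, hpp, ?_⟩
  rw [Subgroup.index_ker]
  have hle : ψ.range ≤ rootsOfUnity p ℂ := by
    rintro y ⟨g, rfl⟩
    rw [mem_rootsOfUnity]
    have := congrArg (fun f : G →* ℂˣ => f g) hψp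
    simpa using this
  have hdvd : Nat.card ψ.range ∣ p := by
    have h1 := Subgroup.card_dvd_of_le hle
    haveI : NeZero p := ⟨hpp.ne_zero⟩
    rwa [Complex.card_rootsOfUnity] at h1
  rcases (Nat.dvd_prime hpp).1 hdvd with h1 | h1
  · exfalso
    apply hψ1
    ext g
    have h2 : Subsingleton ψ.range := (Nat.card_eq_one_iff_unique.1 h1).1
    have h3 := congrArg Subtype.val (Subsingleton.elim (⟨ψ g, g, rfl⟩ : ψ.range) 1)
    simpa using h3
  · exact h1

/-- A finite group that is not perfect has an irreducible character of prime codegree. -/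
theorem exists_irr_cod_prime [Finite G] (h : commutator G ≠ ⊤) :
    ∃ χ : IrrCharacter G, (Nat.card G / (Nat.card {g : G // (χ : G → ℂ) g = (χ : G → ℂ) 1} *
      charDegree (χ : G → ℂ))).Prime := by
  obtain ⟨p, ψ, hp, hidx⟩ := exists_hom_ker_index_prime h
  refine ⟨⟨fun g => ((ψ g : ℂˣ) : ℂ), isIrrCharacter_of_hom ψ⟩, ?_⟩
  have hdeg : charDegree (fun g => ((ψ g : ℂˣ) : ℂ)) = 1 := by
    simp [charDegree]
  have hker : Nat.card {g : G // ((ψ g : ℂˣ) : ℂ) = ((ψ 1 : ℂˣ) : ℂ)} = Nat.card ψ.ker := by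
    refine Nat.card_congr (Equiv.subtypeEquivRight fun g => ?_)
    rw [MonoidHom.mem_ker, map_one, Units.val_one, Units.val_eq_one]
  simp only [hdeg, mul_one]
  rw [hker]
  have h1 := Subgroup.card_mul_index ψ.ker
  rw [hidx] at h1
  rw [← h1, Nat.mul_div_cancel_left _ Nat.card_pos]
  exact hp

/-- A linear faithful character forces the group to be commutative. -/
theorem comm_of_faithful_linear (χ : IrrCharacter G)
    (hf : ∀ g : G, (χ : G → ℂ) g = (χ : G → ℂ) 1 → g = 1) (hd : charDegree (χ : G → ℂ) = 1)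
    (a b : G) : a * b = b * a := by
  have hchar := isCharacter_of_irr χ.2
  have h1 : (χ : G → ℂ) 1 = 1 := by
    rw [apply_one_eq_charDegree hchar, hd, Nat.cast_one]
  have hmul := linear_mul hchar h1
  have h2 : (χ : G → ℂ) (a * b * a⁻¹ * b⁻¹) = (χ : G → ℂ) 1 := by
    have ha : (χ : G → ℂ) a * (χ : G → ℂ) a⁻¹ = 1 := by rw [← hmul, mul_inv_cancel, h1]
    have hb : (χ : G → ℂ) b * (χ : G → ℂ) b⁻¹ = 1 := by rw [← hmul, mul_inv_cancel, h1]
    rw [hmul, hmul, hmul, h1]
    linear_combination ((χ : G → ℂ) b * (χ : G → ℂ) b⁻¹) * ha + hb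
  have h3 := hf _ h2
  calc a * b = (a * b * a⁻¹ * b⁻¹) * (b * a) := by group
    _ = b * a := by rw [h3, one_mul]

/-- If `card H = p * χ(1)` for an irreducible `χ` and a prime `p`, then `χ(1) < p`. -/
theorem charDegree_lt_of_card_eq [Finite G] (χ : IrrCharacter G) (p : ℕ) (hp : p.Prime)
    (hcard : Nat.card G = p * charDegree (χ : G → ℂ)) : charDegree (χ : G → ℂ) < p := by
  have hd := charDegree_pos χ
  have h1 := charDegree_sq_le_index_center χ
  have h2 : (Subgroup.center G).index ≤ Nat.card G :=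
    Nat.le_of_dvd Nat.card_pos (Subgroup.index_dvd_card _)
  have h3 : charDegree (χ : G → ℂ) ≤ p := by
    have : charDegree (χ : G → ℂ) ^ 2 ≤ p * charDegree (χ : G → ℂ) := by
      rw [← hcard]; exact h1.trans h2
    nlinarith
  rcases lt_or_eq_of_le h3 with h4 | h4
  · exact h4
  exfalso
  haveI : Fact p.Prime := ⟨hp⟩
  have hsq : Nat.card G = p ^ 2 := by rw [hcard, h4, sq]
  have hcomm := IsPGroup.isMulCommutative_of_card_eq_prime_sq hsq
  have hcenter : Subgroup.center G = ⊤ :=
    (Subgroup.eq_top_iff' _).2 fun g => Subgroup.mem_center_iff.2 fun x =>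
      hcomm.is_comm.comm x g
  rw [hcenter, Subgroup.index_top] at h1
  have : charDegree (χ : G → ℂ) = 1 := by nlinarith
  rw [this] at h4
  exact hp.one_lt.ne h4

/-- If `card H = p * χ(1)` for an irreducible `χ` and a prime `p`, the Sylow
`p`-subgroup is normal of order `p`. -/
theorem exists_normal_sylow [Finite G] (χ : IrrCharacter G) (p : ℕ) [Fact p.Prime]
    (hcard : Nat.card G = p * charDegree (χ : G → ℂ)) :
    ∃ P : Sylow p G, (P : Subgroup G).Normal ∧ Nat.card P = p := by
  have hp : p.Prime := Fact.out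
  have hlt := charDegree_lt_of_card_eq χ p hp hcard
  have hd := charDegree_pos χ
  have hnd : ¬ p ∣ charDegree (χ : G → ℂ) := fun h => absurd (Nat.le_of_dvd hd h) (not_le.2 hlt)
  obtain ⟨P⟩ : Nonempty (Sylow p G) := inferInstance
  have hPcard : Nat.card P = p := by
    rw [P.card_eq_multiplicity, hcard, Nat.factorization_mul hp.ne_zero hd.ne', Finsupp.add_apply,
      hp.factorization_self, Nat.factorization_eq_zero_of_not_dvd hnd, pow_one]
  have hidx : (P : Subgroup G).index = charDegree (χ : G → ℂ) := by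
    have h1 := Subgroup.card_mul_index (P : Subgroup G)
    rw [hPcard, hcard] at h1
    exact Nat.eq_of_mul_eq_mul_left hp.pos h1
  have hn1 : Nat.card (Sylow p G) = 1 := by
    have h1 := card_sylow_modEq_one p G
    have h2 : Nat.card (Sylow p G) ≤ charDegree (χ : G → ℂ) := by
      rw [← hidx]; exact Nat.le_of_dvd (hidx ▸ hd) P.card_dvd_index
    have h3 : Nat.card (Sylow p G) < p := lt_of_le_of_lt h2 hlt
    have h4 := Nat.ModEq.symm h1
    rw [Nat.ModEq, Nat.mod_eq_of_lt hp.one_lt, Nat.mod_eq_of_lt h3] at h4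
    exact h4.symm
  haveI : Subsingleton (Sylow p G) := (Nat.card_eq_one_iff_unique.1 hn1).1
  exact ⟨P, P.normal_of_subsingleton, hPcard⟩

/-- In a perfect group, a normal subgroup of prime order is central. -/
theorem le_center_of_normal_of_card_prime (hperf : commutator G = ⊤) (P : Subgroup G) [P.Normal]
    (p : ℕ) [Fact p.Prime] (hP : Nat.card P = p) : P ≤ Subgroup.center G := by
  haveI : IsCyclic P := isCyclic_of_prime_card hP
  let f : G →* (ZMod (Nat.card P))ˣ :=
    (IsCyclic.mulAutMulEquiv P).toMonoidHom.comp (MulAut.conjNormal (H := P))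
  have hker : f.ker = ⊤ := top_le_iff.1 (hperf ▸ Abelianization.commutator_subset_ker f)
  intro x hx
  rw [Subgroup.mem_center_iff]
  intro g
  have h1 : f g = 1 := by
    have : g ∈ f.ker := hker ▸ Subgroup.mem_top g
    exact this
  have h2 : MulAut.conjNormal (H := P) g = 1 := by
    have h3 : (IsCyclic.mulAutMulEquiv P) (MulAut.conjNormal (H := P) g) = 1 := h1
    exact (MulEquiv.map_eq_one_iff _).1 h3
  have h4 := congrArg (fun e : MulAut P => ((e ⟨x, hx⟩ : P) : G)) h2
  simp only [MulAut.conjNormal_apply, MulAut.one_apply] at h4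
  calc g * x = g * x * g⁻¹ * g := by group
    _ = x * g := by rw [h4]

/-- A perfect finite group has no faithful irreducible character of prime codegree. -/
theorem false_of_perfect_of_card_eq [Finite G] (hperf : commutator G = ⊤) (χ : IrrCharacter G)
    (hf : ∀ g : G, (χ : G → ℂ) g = (χ : G → ℂ) 1 → g = 1) (p : ℕ) (hp : p.Prime)
    (hcard : Nat.card G = p * charDegree (χ : G → ℂ)) : False := by
  haveI : Fact p.Prime := ⟨hp⟩
  have hd := charDegree_pos χ
  obtain ⟨P, hPn, hPcard⟩ := exists_normal_sylow χ p hcard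
  have hle := le_center_of_normal_of_card_prime hperf (P : Subgroup G) p hPcard
  have h1 : p ∣ Nat.card (Subgroup.center G) := hPcard ▸ Subgroup.card_dvd_of_le hle
  have h2 := Subgroup.card_mul_index (Subgroup.center G)
  rw [hcard] at h2
  have h3 := charDegree_sq_le_index_center χ
  have hZpos : 0 < Nat.card (Subgroup.center G) := Nat.card_pos
  have h4 : p ≤ Nat.card (Subgroup.center G) := Nat.le_of_dvd hZpos h1
  have h5 : (Subgroup.center G).index ≤ charDegree (χ : G → ℂ) := by
    by_contra hcon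
    push Not at hcon
    have : p * charDegree (χ : G → ℂ) <
        Nat.card (Subgroup.center G) * (Subgroup.center G).index :=
      calc p * charDegree (χ : G → ℂ) < p * (Subgroup.center G).index :=
            Nat.mul_lt_mul_of_pos_left hcon hp.pos
        _ ≤ Nat.card (Subgroup.center G) * (Subgroup.center G).index :=
            Nat.mul_le_mul_right _ h4
    omega
  have h6 : charDegree (χ : G → ℂ) = 1 := by nlinarith
  have hcomm := comm_of_faithful_linear χ hf h6
  have hcenter : Subgroup.center G = ⊤ :=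
    (Subgroup.eq_top_iff' _).2 fun g => Subgroup.mem_center_iff.2 fun x => hcomm x g
  have hbot : commutator G = ⊥ := (commutator_eq_bot_iff_center_eq_top G).2 hcenter
  haveI : Nontrivial G := by
    rw [← Finite.one_lt_card_iff_nontrivial, hcard, h6, mul_one]
    exact hp.one_lt
  rw [hperf] at hbot
  exact top_ne_bot hbot

end Cfsg.Agent.Lib.Helper80.PrimeCod
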