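import Mathlib
import Cfsg.Agent.Lib.Helper3.Spectral
import Cfsg.Agent.Lib.Helper77.LocalRing
import Cfsg.Agent.Lib.CT.Wedderburn

/-!
# Faithful principal block characters of degree less than `2p` in perfect groups
-/

set_option autoImplicit false

namespace Cfsg.Agent.Lib.Helper80.Deg2p

open Cfsg Cfsg.Agent.Lib.Helper77.LocalRing Cfsg.Agent.Lib.CT.Wedderburn
  Cfsg.Agent.Lib.Helper3.Spectral

open scoped ComplexConjugate

/-- Counting the eigenvalues equal to a given root of unity by a character sum. -/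
theorem sum_pow_eq_card {d r : ℕ} (hr : 0 < r) (μ : Fin d → ℂ) (hμ : ∀ t, μ t ^ r = 1) (ω : ℂ)
    (hω : ω ^ r = 1) :
    ∑ i ∈ Finset.range r, (ω⁻¹) ^ i * ∑ t, μ t ^ i
      = (r : ℂ) * ((Finset.univ.filter fun t => μ t = ω).card : ℂ) := by
  classical
  have hω0 : ω ≠ 0 := by
    rintro rfl
    rw [zero_pow hr.ne'] at hω
    exact zero_ne_one hω
  calc ∑ i ∈ Finset.range r, (ω⁻¹) ^ i * ∑ t, μ t ^ i
      = ∑ t, ∑ i ∈ Finset.range r, (ω⁻¹ * μ t) ^ i := by
        rw [Finset.sum_comm]
        refine Finset.sum_congr rfl fun i _ => ?_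
        rw [Finset.mul_sum]
        refine Finset.sum_congr rfl fun t _ => ?_
        rw [mul_pow]
    _ = ∑ t, if μ t = ω then (r : ℂ) else 0 := by
        refine Finset.sum_congr rfl fun t _ => ?_
        split_ifs with h
        · rw [h, inv_mul_cancel₀ hω0]
          simp
        · have hx : ω⁻¹ * μ t ≠ 1 := by
            intro h1
            apply h
            have h2 := congrArg (fun z => ω * z) h1
            simp only [mul_one] at h2
            rw [← mul_assoc, mul_inv_cancel₀ hω0, one_mul] at h2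
            exact h2
          have hxr : (ω⁻¹ * μ t) ^ r = 1 := by
            rw [mul_pow, inv_pow, hω, hμ, inv_one, one_mul]
          have h3 := mul_geom_sum (ω⁻¹ * μ t) r
          rw [hxr, sub_self] at h3
          exact (mul_eq_zero.mp h3).resolve_left (sub_ne_zero.mpr hx)
    _ = (r : ℂ) * ((Finset.univ.filter fun t => μ t = ω).card : ℂ) := by
        rw [Finset.sum_ite, Finset.sum_const_zero, add_zero, Finset.sum_const, nsmul_eq_mul]
        ring

theorem pow_apply_eigen {V : Type*} [AddCommGroup V] [Module ℂ V] (T : V →ₗ[ℂ] V) (v : V)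
    (c : ℂ) (h : T v = c • v) (i : ℕ) : (T ^ i) v = c ^ i • v := by
  induction i with
  | zero => simp
  | succ i ih =>
    rw [pow_succ, Module.End.mul_apply, h, map_smul, ih, smul_smul, pow_succ']

/-- The determinant of an endomorphism with an eigenbasis is the product of the eigenvalues. -/
theorem det_eq_prod_of_eigenbasis {V : Type*} [AddCommGroup V] [Module ℂ V]
    {ι : Type*} [Fintype ι] [DecidableEq ι] (b : Module.Basis ι ℂ V) (T : V →ₗ[ℂ] V) (μ : ι → ℂ)
    (h : ∀ i, T (b i) = μ i • b i) : LinearMap.det T = ∏ i, μ i := by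
  rw [← LinearMap.det_toMatrix b T]
  have h1 : LinearMap.toMatrix b b T = Matrix.diagonal μ := by
    ext i j
    rw [LinearMap.toMatrix_apply, h j, map_smul, Finsupp.smul_apply, Module.Basis.repr_self,
      Matrix.diagonal_apply, Finsupp.single_apply, smul_eq_mul]
    by_cases hij : i = j
    · rw [if_pos hij, if_pos hij.symm, mul_one, hij]
    · rw [if_neg hij, if_neg (fun h' => hij h'.symm), mul_zero]
  rw [h1, Matrix.det_diagonal]

/-- A natural number `x` with `x / p` in the local ideal is divisible by `p ^ 2`. -/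
theorem sq_dvd_of_memLocalIdeal_div {M : Ideal AlgInt} {p : ℕ} (hM : IsPModular p M) (x : ℕ)
    (h : MemLocalIdeal M ((x : ℂ) / (p : ℂ))) : p ^ 2 ∣ x := by
  have hMp := isPrime_of_isPModular hM
  have hp : p.Prime := hM.1
  have hp0 : (p : ℂ) ≠ 0 := by exact_mod_cast hp.ne_zero
  have h1 : p ∣ x := by
    by_contra hpx
    have hx' : ¬ MemLocalIdeal M (x : ℂ) := fun h' => hpx ((memLocalIdeal_natCast_iff hM x).mp h')
    have hxinv := memLocalRing_inv (memLocalRing_natCast hMp x) hx'
    have h2 := memLocalIdeal_mul_right hMp h hxinv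
    have h3 := memLocalIdeal_mul_left hMp (memLocalRing_natCast hMp p) h2
    have hx0 : (x : ℂ) ≠ 0 := by
      intro h0
      apply hx'
      rw [h0]
      exact memLocalIdeal_zero hMp
    have h4 : (p : ℂ) * ((x : ℂ) / (p : ℂ) * (x : ℂ)⁻¹) = 1 := by
      field_simp
    rw [h4] at h3
    exact not_memLocalIdeal_one hMp h3
  obtain ⟨y, rfl⟩ := h1
  have h5 : ((p * y : ℕ) : ℂ) / (p : ℂ) = (y : ℂ) := by
    push_cast
    field_simp
  rw [h5] at h
  obtain ⟨z, rfl⟩ := (memLocalIdeal_natCast_iff hM y).mp h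
  exact ⟨z, by ring⟩

variable {G : Type*} [Group G]

/-- In a perfect group, every representation has determinant one. -/
theorem det_eq_one_of_perfect (hperf : commutator G = ⊤) {V : Type*} [AddCommGroup V]
    [Module ℂ V] (ρ : Representation ℂ G V) (g : G) : LinearMap.det (ρ g) = 1 := by
  let f : G →* ℂ := (LinearMap.det : (V →ₗ[ℂ] V) →* ℂ).comp ρ
  have h1 : commutator G ≤ f.toHomUnits.ker := Abelianization.commutator_subset_ker f.toHomUnits
  have h2 : g ∈ f.toHomUnits.ker := h1 (by rw [hperf]; exact Subgroup.mem_top g)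
  have h3 : f.toHomUnits g = 1 := MonoidHom.mem_ker.mp h2
  have h4 := congrArg (fun u : ℂˣ => (u : ℂ)) h3
  simpa [f] using h4

/-- Let `G` be perfect and `χ` a faithful irreducible character in the principal block of degree
less than `2p`.  Then a `p`-regular element centralizing a Sylow `p`-subgroup is trivial. -/
theorem eq_one_of_mem_centralizer_sylow [Finite G] (p : ℕ) [Fact p.Prime] (M : Ideal AlgInt)
    (hM : IsPModular p M) (hperf : commutator G = ⊤) (P : Sylow p G) (χ : IrrCharacter G)
    (hχ : χ ∈ principalBlock M G)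
    (hfaith : ∀ g : G, (χ : G → ℂ) g = (χ : G → ℂ) 1 → g = 1)
    (hdeg : charDegree (χ : G → ℂ) < 2 * p) (k : G)
    (hk : k ∈ Subgroup.centralizer ((P : Subgroup G) : Set G)) (hreg : ¬ p ∣ orderOf k) :
    k = 1 := by
  classical
  have hp : p.Prime := Fact.out
  have hMp := isPrime_of_isPModular hM
  obtain ⟨n, ρ, hirr, hρχ⟩ := χ.2
  set r := orderOf k with hr
  have hrpos : 0 < r := orderOf_pos k
  obtain ⟨b, μ, hb, hμ⟩ := exists_eigenbasis ρ k
  rw [← hr] at hμ
  generalize Module.finrank ℂ (Fin n → ℂ) = d at b μ hb hμ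
  have hpow : ∀ i : ℕ, (χ : G → ℂ) (k ^ i) = ∑ t, μ t ^ i := by
    intro i
    rw [← hρχ]
    show LinearMap.trace ℂ _ (ρ (k ^ i)) = _
    apply trace_eq_sum_of_eigenbasis b
    intro t
    rw [map_pow]
    exact pow_apply_eigen (ρ k) (b t) (μ t) (hb t) i
  have hχ1 : (χ : G → ℂ) 1 = (d : ℂ) := by
    have h1 := hpow 0
    rw [pow_zero] at h1
    rw [h1]
    simp
  have hdeg' : charDegree (χ : G → ℂ) = d := charDegree_eq_of_apply_one hχ1
  have hd0 : (d : ℂ) ≠ 0 := by
    rw [← hχ1]
    exact irr_apply_one_ne_zero χ.2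
  have hdpos : 0 < d := Nat.pos_of_ne_zero (fun h => hd0 (by rw [h, Nat.cast_zero]))
  rw [hdeg'] at hdeg
  -- the congruences from the principal block
  have hε : ∀ i : ℕ, MemLocalIdeal M (1 - (χ : G → ℂ) (k ^ i) / (d : ℂ)) := by
    intro i
    have hki : k ^ i ∈ Subgroup.centralizer ((P : Subgroup G) : Set G) := Subgroup.pow_mem _ hk i
    have h1 := hχ (k ^ i)
    have hidx : ¬ p ∣ (Subgroup.centralizer ({k ^ i} : Set G)).index := by
      have hle : (P : Subgroup G) ≤ Subgroup.centralizer ({k ^ i} : Set G) := by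
        intro u hu
        rw [Subgroup.mem_centralizer_iff]
        intro h hh
        rw [Set.mem_singleton_iff] at hh
        subst hh
        exact (Subgroup.mem_centralizer_iff.mp hki u hu).symm
      intro hdvd
      exact P.not_dvd_index (hdvd.trans (Subgroup.index_dvd_of_le hle))
    have h2 : centralChar (fun _ : G => (1 : ℂ)) (k ^ i) - centralChar (χ : G → ℂ) (k ^ i)
        = ((Subgroup.centralizer ({k ^ i} : Set G)).index : ℂ) *
          (1 - (χ : G → ℂ) (k ^ i) / (d : ℂ)) := by
      unfold centralChar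
      rw [hχ1]
      ring
    rw [h2] at h1
    rcases memLocalIdeal_or_of_mul hMp (memLocalRing_natCast hMp _) h1 with h3 | h3
    · exact absurd ((memLocalIdeal_natCast_iff hM _).mp h3) hidx
    · exact h3
  -- multiplicities of nontrivial eigenvalues
  have hcount : ∀ ω : ℂ, ω ^ r = 1 → ω ≠ 1 →
      MemLocalIdeal M ((r : ℂ) * ((Finset.univ.filter fun t => μ t = ω).card : ℂ) / (d : ℂ)) := by
    intro ω hω hω1
    have h1 := sum_pow_eq_card hrpos μ hμ ω hω
    have hω0 : ω ≠ 0 := by
      rintro rfl
      rw [zero_pow hrpos.ne'] at hω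
      exact zero_ne_one hω
    have hinvr : (ω⁻¹) ^ r = 1 := by rw [inv_pow, hω, inv_one]
    have hinv1 : ω⁻¹ ≠ 1 := fun h => hω1 (inv_eq_one.mp h)
    have hgeom : ∑ i ∈ Finset.range r, (ω⁻¹) ^ i = 0 := by
      have h3 := mul_geom_sum (ω⁻¹) r
      rw [hinvr, sub_self] at h3
      exact (mul_eq_zero.mp h3).resolve_left (sub_ne_zero.mpr hinv1)
    have hint : IsIntegral ℤ (ω⁻¹) := by
      apply IsIntegral.of_pow hrpos
      rw [hinvr]
      exact isIntegral_one
    have h2 : (r : ℂ) * ((Finset.univ.filter fun t => μ t = ω).card : ℂ) / (d : ℂ)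
        = - ∑ i ∈ Finset.range r, (ω⁻¹) ^ i * (1 - (χ : G → ℂ) (k ^ i) / (d : ℂ)) := by
      rw [← h1]
      have h4 : ∑ i ∈ Finset.range r, (ω⁻¹) ^ i * (1 - (χ : G → ℂ) (k ^ i) / (d : ℂ))
          = ∑ i ∈ Finset.range r, (ω⁻¹) ^ i
            - (∑ i ∈ Finset.range r, (ω⁻¹) ^ i * ∑ t, μ t ^ i) / (d : ℂ) := by
        rw [Finset.sum_div, ← Finset.sum_sub_distrib]
        refine Finset.sum_congr rfl fun i _ => ?_
        rw [hpow i]
        ring
      rw [h4, hgeom]
      ring
    rw [h2]
    exact memLocalIdeal_neg (memLocalIdeal_sum hMp _ _ fun i _ =>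
      memLocalIdeal_mul_left hMp (memLocalRing_pow hMp (memLocalRing_of_isIntegral hMp hint) i)
        (hε i))
  have hcopr : Nat.Coprime p r := (Nat.Prime.coprime_iff_not_dvd hp).mpr hreg
  -- every nontrivial eigenvalue has multiplicity divisible by `p`, and zero if `p ∣ d`
  have hmult : ∀ ω : ℂ, ω ^ r = 1 → ω ≠ 1 →
      p ∣ (Finset.univ.filter fun t => μ t = ω).card ∧
        (p ∣ d → (Finset.univ.filter fun t => μ t = ω).card = 0) := by
    intro ω hω hω1
    have h1 := hcount ω hω hω1
    have hle : (Finset.univ.filter fun t => μ t = ω).card ≤ d := by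
      have := Finset.card_le_univ (Finset.univ.filter fun t => μ t = ω)
      simpa using this
    by_cases hpd : p ∣ d
    · have hdp : d = p := by
        obtain ⟨c, hc⟩ := hpd
        have hc1 : c = 1 := by
          rcases c with _ | _ | c
          · omega
          · rfl
          · nlinarith
        rw [hc, hc1, mul_one]
      have h2 : p ^ 2 ∣ r * (Finset.univ.filter fun t => μ t = ω).card := by
        apply sq_dvd_of_memLocalIdeal_div hM
        have h1' : ((d : ℕ) : ℂ) = ((p : ℕ) : ℂ) := by rw [hdp]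
        rw [← h1']
        push_cast
        exact h1
      have h3 : p ^ 2 ∣ (Finset.univ.filter fun t => μ t = ω).card :=
        (Nat.Coprime.pow_left 2 hcopr).dvd_of_dvd_mul_left h2
      have h4 : (Finset.univ.filter fun t => μ t = ω).card = 0 := by
        by_contra hne
        have h5 := Nat.le_of_dvd (Nat.pos_of_ne_zero hne) h3
        have h6 : p < p ^ 2 := by
          have := hp.two_le
          nlinarith
        omega
      exact ⟨by rw [h4]; exact dvd_zero p, fun _ => h4⟩
    · refine ⟨?_, fun h => absurd h hpd⟩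
      have h2 : MemLocalIdeal M ((r : ℂ) * ((Finset.univ.filter fun t => μ t = ω).card : ℂ)) := by
        have h3 := memLocalIdeal_mul_right hMp h1 (memLocalRing_natCast hMp d)
        have h4 : (r : ℂ) * ((Finset.univ.filter fun t => μ t = ω).card : ℂ) / (d : ℂ) * (d : ℂ)
            = (r : ℂ) * ((Finset.univ.filter fun t => μ t = ω).card : ℂ) := by
          field_simp
        rwa [h4] at h3
      have h5 : p ∣ r * (Finset.univ.filter fun t => μ t = ω).card := by
        apply (memLocalIdeal_natCast_iff hM _).mp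
        push_cast
        exact h2
      exact hcopr.dvd_of_dvd_mul_left h5
  -- all eigenvalues are trivial
  have hall : ∀ t, μ t = 1 := by
    by_contra hne
    rw [not_forall] at hne
    obtain ⟨t₀, ht₀⟩ := hne
    obtain ⟨hdvd₀, hzero₀⟩ := hmult (μ t₀) (hμ t₀) ht₀
    have hpos₀ : 0 < (Finset.univ.filter fun t => μ t = μ t₀).card :=
      Finset.card_pos.mpr ⟨t₀, by simp⟩
    have hpd : ¬ p ∣ d := fun h => by
      have := hzero₀ h
      omega
    have hle₀ : p ≤ (Finset.univ.filter fun t => μ t = μ t₀).card := Nat.le_of_dvd hpos₀ hdvd₀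
    have honly : ∀ t, μ t = 1 ∨ μ t = μ t₀ := by
      intro t₁
      by_contra hcon
      rw [not_or] at hcon
      obtain ⟨hdvd₁, -⟩ := hmult (μ t₁) (hμ t₁) hcon.1
      have hpos₁ : 0 < (Finset.univ.filter fun t => μ t = μ t₁).card :=
        Finset.card_pos.mpr ⟨t₁, by simp⟩
      have hle₁ : p ≤ (Finset.univ.filter fun t => μ t = μ t₁).card := Nat.le_of_dvd hpos₁ hdvd₁
      have hdisj : Disjoint (Finset.univ.filter fun t => μ t = μ t₀)
          (Finset.univ.filter fun t => μ t = μ t₁) := by
        rw [Finset.disjoint_left]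
        intro t h1 h2
        rw [Finset.mem_filter] at h1 h2
        exact hcon.2 (h2.2.symm.trans h1.2)
      have hcard := Finset.card_le_univ ((Finset.univ.filter fun t => μ t = μ t₀) ∪
        (Finset.univ.filter fun t => μ t = μ t₁))
      rw [Finset.card_union_of_disjoint hdisj] at hcard
      simp only [Fintype.card_fin] at hcard
      omega
    have hcard₀ : (Finset.univ.filter fun t => μ t = μ t₀).card = p := by
      have hle : (Finset.univ.filter fun t => μ t = μ t₀).card ≤ d := by
        have := Finset.card_le_univ (Finset.univ.filter fun t => μ t = μ t₀)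
        simpa using this
      obtain ⟨c, hc⟩ := hdvd₀
      have hc1 : c = 1 := by
        rcases c with _ | _ | c
        · omega
        · rfl
        · nlinarith
      rw [hc, hc1, mul_one]
    have hdet : LinearMap.det (ρ k) = (μ t₀) ^ p := by
      rw [det_eq_prod_of_eigenbasis b (ρ k) μ hb, ← hcard₀, ← Finset.prod_const,
        Finset.prod_filter]
      refine Finset.prod_congr rfl fun t _ => ?_
      rcases honly t with h | h
      · by_cases h' : μ t = μ t₀
        · rw [if_pos h']
          exact h'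
        · rw [if_neg h']
          exact h
      · rw [if_pos h]
        exact h
    rw [det_eq_one_of_perfect hperf ρ k] at hdet
    have h1 : (μ t₀) ^ (Nat.gcd p r) = 1 := pow_gcd_eq_one.mpr ⟨hdet.symm, hμ t₀⟩
    rw [hcopr.gcd_eq_one, pow_one] at h1
    exact ht₀ h1
  apply hfaith
  have h1 := hpow 1
  rw [pow_one] at h1
  rw [h1, hχ1]
  simp [hall]

/-- Let `G` be perfect and `χ` a faithful irreducible character in the principal block of degree
less than `2p`.  Then the centralizer of a Sylow `p`-subgroup is a `p`-group. -/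
theorem isPGroup_centralizer [Finite G] (p : ℕ) [Fact p.Prime] (M : Ideal AlgInt)
    (hM : IsPModular p M) (hperf : commutator G = ⊤) (P : Sylow p G) (χ : IrrCharacter G)
    (hχ : χ ∈ principalBlock M G)
    (hfaith : ∀ g : G, (χ : G → ℂ) g = (χ : G → ℂ) 1 → g = 1)
    (hdeg : charDegree (χ : G → ℂ) < 2 * p) :
    IsPGroup p ↥(Subgroup.centralizer ((P : Subgroup G) : Set G)) := by
  have hp : p.Prime := Fact.out
  intro g
  refine ⟨(orderOf (g : G)).factorization p, ?_⟩
  apply Subtype.ext
  rw [Subgroup.coe_pow, Subgroup.coe_one]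
  apply eq_one_of_mem_centralizer_sylow p M hM hperf P χ hχ hfaith hdeg
  · exact Subgroup.pow_mem _ g.2 _
  · rw [orderOf_pow_of_dvd (pow_ne_zero _ hp.ne_zero) (Nat.ordProj_dvd _ _)]
    exact Nat.not_dvd_ordCompl hp (orderOf_pos (g : G)).ne'

end Cfsg.Agent.Lib.Helper80.Deg2p
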