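import Mathlib
import Cfsg.Agent.Lib.Helper25.ACStmt
import Cfsg.Agent.Lib.Helper25.ACOddStmt

/-!
# S3911 / KEYODD: the induction step (from `MinCase`)
-/

set_option autoImplicit false

universe u

namespace Cfsg.Agent.Lib.Helper80.AOKEYODD

open Cfsg.Agent.Lib.Helper25.ACStmt Cfsg.Agent.Lib.Helper25.ACOddStmt

theorem main (hMin : MinCase.{u}) : KeyOdd.{u} := by
  intro G _ _ hB M hMn hM1 hodd hIH
  by_cases hex : ∃ N : Subgroup G, N.Normal ∧ N ≤ M ∧ N ≠ ⊥ ∧ N ≠ M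
  · obtain ⟨N, hNn, hNM, hN1, hNne⟩ := hex
    have hoddN : Odd (Nat.card ↥N) := Odd.of_dvd_nat hodd (Subgroup.card_dvd_of_le hNM)
    have hlt : Nat.card ↥N < Nat.card ↥M := by
      by_contra hge
      exact hNne (Subgroup.eq_of_le_of_card_ge hNM (not_lt.1 hge))
    haveI := hNn
    exact ⟨N, hNn, hN1, hNM, hIH G hB N hoddN hlt⟩
  · have hmin : ∀ N : Subgroup G, N.Normal → N ≤ M → N = ⊥ ∨ N = M := by
      intro N hNn hNM
      by_contra hcon
      rw [not_or] at hcon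
      exact hex ⟨N, hNn, hNM, hcon.1, hcon.2⟩
    exact hMin G hB M hMn hM1 hodd hmin

end Cfsg.Agent.Lib.Helper80.AOKEYODD
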