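import Mathlib
import Cfsg.Agent.Lib.Helper80.PNilB0
import Cfsg.Agent.Lib.Helper80.ItoConv
import Cfsg.Agent.Lib.Helper76.PSolv
import Cfsg.Agent.Lib.Helper16.Quot
import Cfsg.Agent.Lib.Helper47.Basic
import Cfsg.Agent.S4487
import Cfsg.Agent.S0169
import Cfsg.Agent.S0017

/-!
Fong's description of the principal block of a `p`-solvable group: it consists of the irreducible
characters whose kernel contains `O_{p'}(G)`.  Consequences: in a `p`-solvable group the Sylow
`p`-subgroups are abelian if and only if all characters of the principal block have height zero.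
Namespace `Cfsg.Agent.Lib.Helper80.FongB0`.
-/

set_option autoImplicit false

namespace Cfsg.Agent.Lib.Helper80.FongB0

open Cfsg Cfsg.Agent.Lib.Helper80.Integrality
open Cfsg.Agent.Lib.CT.Wedderburn Cfsg.Agent.Lib.CT.ThirdMain Cfsg.Agent.Lib.Helper77.LocalRing
open Cfsg.Agent.Lib.Helper80.PNilB0
open scoped ComplexConjugate

universe u
variable {G : Type u} [Group G]

/-- The order of `O_{p'}(G)` is prime to `p`. -/
theorem not_dvd_card_pPrimeCore [Finite G] (p : ℕ) [Fact p.Prime] :
    ¬ p ∣ Nat.card (pPrimeCore p G) := by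
  have h := Cfsg.Agent.Lib.Helper76.PSolv.pPrimeCore_coprime (G := G) p
  intro hd
  have h1 := Nat.Coprime.eq_one_of_dvd h.symm hd
  exact (Fact.out : p.Prime).one_lt.ne' h1

/-- If `G / O_{p'}(G)` is `p`-constrained, the principal `p`-block of `G` consists of the
irreducible characters with `O_{p'}(G)` in their kernel. -/
theorem mem_principalBlock_iff [Finite G] (p : ℕ) [Fact p.Prime] (M : Ideal AlgInt)
    (hM : IsPModular p M)
    (hconstr : Subgroup.centralizer ((pCore p (G ⧸ pPrimeCore p G) : Subgroup _) :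
      Set (G ⧸ pPrimeCore p G)) ≤ pCore p (G ⧸ pPrimeCore p G))
    (χ : IrrCharacter G) :
    χ ∈ principalBlock M G ↔ ∀ n ∈ pPrimeCore p G, (χ : G → ℂ) n = (χ : G → ℂ) 1 := by
  have hMp := isPrime_of_isPModular hM
  constructor
  · intro hχ n hn
    exact Cfsg.Agent.Lib.Helper75.PNilBlock.apply_eq_of_mem_principalBlock p M hM
      (pPrimeCore p G) (not_dvd_card_pPrimeCore p) χ hχ n hn
  · intro h
    obtain ⟨χbar, hχbar, hval⟩ :=
      Cfsg.Agent.Lib.CT.Kernel.exists_quotient_irr (N := pPrimeCore p G) χ.2 h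
    have h1 := Cfsg.Agent.S4487.result p M hM
      (Cfsg.Agent.Lib.Helper76.PSolv.pPrimeCore_quotient p) hconstr
      (triv (G ⧸ pPrimeCore p G)) ⟨χbar, hχbar⟩
    have h2 := Cfsg.Agent.Lib.Helper16.Quot.sameBlock_comp_mk hMp (pPrimeCore p G) _ _ h1
    have e : (fun g : G => χbar (g : G ⧸ pPrimeCore p G)) = (χ : G → ℂ) := funext hval
    have h3 : SameBlock M (fun _ : G => (1 : ℂ)) (fun g : G => χbar (g : G ⧸ pPrimeCore p G)) :=
      h2
    rw [e] at h3
    exact h3

/-- Fong's theorem on the principal block of a `p`-solvable group. -/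
theorem mem_principalBlock_iff_of_isPSolvable [Finite G] (p : ℕ) [Fact p.Prime]
    (M : Ideal AlgInt) (hM : IsPModular p M) (hs : IsPSolvable p G) (χ : IrrCharacter G) :
    χ ∈ principalBlock M G ↔ ∀ n ∈ pPrimeCore p G, (χ : G → ℂ) n = (χ : G → ℂ) 1 :=
  mem_principalBlock_iff p M hM
    (Cfsg.Agent.Lib.Helper76.PSolv.centralizer_pCore_le p
      (Cfsg.Agent.Lib.Helper76.PSolv.isPSolvable_quotient p _ hs)
      (Cfsg.Agent.Lib.Helper76.PSolv.pPrimeCore_quotient p)) χ

/-- Fong's theorem on the principal block of a solvable group. -/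
theorem mem_principalBlock_iff_of_isSolvable [Finite G] [Group.IsSolvable G] (p : ℕ)
    [Fact p.Prime] (M : Ideal AlgInt) (hM : IsPModular p M) (χ : IrrCharacter G) :
    χ ∈ principalBlock M G ↔ ∀ n ∈ pPrimeCore p G, (χ : G → ℂ) n = (χ : G → ℂ) 1 :=
  mem_principalBlock_iff p M hM
    (Cfsg.Agent.S0017.result p (Cfsg.Agent.Lib.Helper76.PSolv.pPrimeCore_quotient p)) χ

/-- In a `p`-solvable group, the Sylow `p`-subgroups are abelian if and only if all irreducible
characters in the principal `p`-block have degree prime to `p`. -/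
theorem sylow_comm_iff [Finite G] (p : ℕ) [Fact p.Prime] (M : Ideal AlgInt)
    (hM : IsPModular p M) (hsolv : IsPSolvable p G) (P : Sylow p G) :
    (∀ a ∈ (P : Subgroup G), ∀ b ∈ (P : Subgroup G), a * b = b * a) ↔
      ∀ χ ∈ principalBlock M G, ¬ p ∣ charDegree (χ : G → ℂ) := by
  have hp : p.Prime := Fact.out
  have hπ : Function.Surjective (QuotientGroup.mk' (pPrimeCore p G)) :=
    QuotientGroup.mk'_surjective _
  have hsolv' : IsPSolvable p (G ⧸ pPrimeCore p G) :=
    Cfsg.Agent.Lib.Helper76.PSolv.isPSolvable_quotient p _ hsolv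
  have hcore' : pPrimeCore p (G ⧸ pPrimeCore p G) = ⊥ :=
    Cfsg.Agent.Lib.Helper76.PSolv.pPrimeCore_quotient p
  have hconstr := Cfsg.Agent.Lib.Helper76.PSolv.centralizer_pCore_le p hsolv' hcore'
  set Pb : Sylow p (G ⧸ pPrimeCore p G) := P.mapSurjective hπ with hPb
  have hPbmem : ∀ x ∈ (Pb : Subgroup (G ⧸ pPrimeCore p G)),
      ∃ a ∈ (P : Subgroup G), QuotientGroup.mk' (pPrimeCore p G) a = x := by
    intro x hx
    rw [hPb, Sylow.coe_mapSurjective] at hx
    exact Subgroup.mem_map.mp hx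
  constructor
  · intro hab χ hχ
    have hQle : pCore p (G ⧸ pPrimeCore p G) ≤ Pb :=
      Cfsg.Agent.Lib.Helper76.PSolv.pCore_le_sylow Pb
    have hPbab : ∀ x ∈ (Pb : Subgroup (G ⧸ pPrimeCore p G)),
        ∀ y ∈ (Pb : Subgroup (G ⧸ pPrimeCore p G)), x * y = y * x := by
      intro x hx y hy
      obtain ⟨a, ha, rfl⟩ := hPbmem x hx
      obtain ⟨b, hb, rfl⟩ := hPbmem y hy
      rw [← map_mul, ← map_mul, hab a ha b hb]
    have hPble : (Pb : Subgroup (G ⧸ pPrimeCore p G)) ≤ pCore p (G ⧸ pPrimeCore p G) := by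
      intro x hx
      apply hconstr
      rw [Subgroup.mem_centralizer_iff]
      intro y hy
      exact hPbab y (hQle hy) x hx
    have heq : pCore p (G ⧸ pPrimeCore p G) = Pb := le_antisymm hQle hPble
    have hker := (mem_principalBlock_iff_of_isPSolvable p M hM hsolv χ).mp hχ
    obtain ⟨χbar, hχbar, hval⟩ :=
      Cfsg.Agent.Lib.CT.Kernel.exists_quotient_irr (N := pPrimeCore p G) χ.2 hker
    obtain ⟨n, ρ, hρ, hchar⟩ := hχbar
    have hnorm := Cfsg.Agent.Lib.Helper47.Basic.pCore_normal p (G ⧸ pPrimeCore p G)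
    have hdvd := Cfsg.Agent.S0169.ito ρ hρ (pCore p (G ⧸ pPrimeCore p G)) (by
      intro a ha b hb
      rw [heq] at ha hb
      exact hPbab a ha b hb)
    rw [heq] at hdvd
    have hdeg : charDegree (χ : G → ℂ) = n := by
      have h1 : (χ : G → ℂ) 1 = (n : ℂ) := by
        rw [← hval 1]
        have h2 : χbar ((1 : G) : G ⧸ pPrimeCore p G) = ρ.character 1 := by
          rw [hchar]
          rfl
        rw [h2, Representation.char_one]
        simp
      rw [apply_one_eq_charDegree (isCharacter_of_irr χ.2)] at h1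
      exact_mod_cast h1
    rw [hdeg]
    intro hd
    exact Pb.not_dvd_index (hd.trans hdvd)
  · intro h a ha b hb
    have hdeg : ∀ ψ : IrrCharacter (G ⧸ pPrimeCore p G),
        ¬ p ∣ charDegree (ψ : G ⧸ pPrimeCore p G → ℂ) := by
      intro ψ
      have hinf : IsIrrCharacter G (fun g : G => (ψ : G ⧸ pPrimeCore p G → ℂ) (g : G ⧸ pPrimeCore p G)) :=
        Cfsg.Agent.Lib.CT.Kernel.isIrrCharacter_inflation (pPrimeCore p G) ψ.2
      have hmem : (⟨_, hinf⟩ : IrrCharacter G) ∈ principalBlock M G := by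
        rw [mem_principalBlock_iff_of_isPSolvable p M hM hsolv]
        intro n hn
        show (ψ : G ⧸ pPrimeCore p G → ℂ) (n : G ⧸ pPrimeCore p G)
          = (ψ : G ⧸ pPrimeCore p G → ℂ) ((1 : G) : G ⧸ pPrimeCore p G)
        rw [(QuotientGroup.eq_one_iff n).mpr hn]
        rfl
      exact h _ hmem
    obtain ⟨Pb', hPb'n, hPb'ab⟩ :=
      Cfsg.Agent.Lib.Helper80.ItoConv.ito_conv_pSolvable p hsolv' hdeg
    have huniq := Sylow.unique_of_normal Pb' hPb'n
    have hPbeq : Pb = Pb' := Subsingleton.elim _ _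
    have ha' : QuotientGroup.mk' (pPrimeCore p G) a ∈ (Pb' : Subgroup (G ⧸ pPrimeCore p G)) := by
      rw [← hPbeq, hPb, Sylow.coe_mapSurjective]
      exact Subgroup.mem_map_of_mem _ ha
    have hb' : QuotientGroup.mk' (pPrimeCore p G) b ∈ (Pb' : Subgroup (G ⧸ pPrimeCore p G)) := by
      rw [← hPbeq, hPb, Sylow.coe_mapSurjective]
      exact Subgroup.mem_map_of_mem _ hb
    have hcomm := hPb'ab _ ha' _ hb'
    -- the commutator lies in `O_{p'}(G) ∩ P`
    set c := a * b * (b * a)⁻¹ with hc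
    have hcK : c ∈ pPrimeCore p G := by
      rw [← QuotientGroup.eq_one_iff]
      have h1 : QuotientGroup.mk' (pPrimeCore p G) c = 1 := by
        rw [hc, map_mul, map_mul, map_inv, map_mul, hcomm]
        rw [mul_inv_cancel]
      exact h1
    have hcP : c ∈ (P : Subgroup G) :=
      (P : Subgroup G).mul_mem ((P : Subgroup G).mul_mem ha hb)
        ((P : Subgroup G).inv_mem ((P : Subgroup G).mul_mem hb ha))
    obtain ⟨k, hk⟩ := P.isPGroup' ⟨c, hcP⟩
    have hk' : c ^ p ^ k = 1 := by
      have := congrArg Subtype.val hk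
      simpa using this
    have hK' : c ^ Nat.card (pPrimeCore p G) = 1 := by
      have h1 : (⟨c, hcK⟩ : pPrimeCore p G) ^ Nat.card (pPrimeCore p G) = 1 := pow_card_eq_one'
      have h2 := congrArg Subtype.val h1
      rw [Subgroup.coe_pow, Subgroup.coe_one] at h2
      exact h2
    have hcop : Nat.Coprime (p ^ k) (Nat.card (pPrimeCore p G)) :=
      Nat.Coprime.pow_left k
        (Cfsg.Agent.Lib.Helper76.PSolv.pPrimeCore_coprime (G := G) p).symm
    have h4 : orderOf c ∣ Nat.gcd (p ^ k) (Nat.card (pPrimeCore p G)) :=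
      Nat.dvd_gcd (orderOf_dvd_of_pow_eq_one hk') (orderOf_dvd_of_pow_eq_one hK')
    rw [hcop.gcd_eq_one, Nat.dvd_one, orderOf_eq_one_iff] at h4
    have h5 : a * b * (b * a)⁻¹ = 1 := h4
    exact mul_inv_eq_one.mp h5

/-- In the principal block, height zero means degree prime to `p`. -/
theorem blockHeight_eq_zero_iff (p : ℕ) [Fact p.Prime] (M : Ideal AlgInt) (hMp : M.IsPrime)
    (χ : IrrCharacter G) :
    blockHeight p (principalBlock M G) (χ : G → ℂ) = 0 ↔ ¬ p ∣ charDegree (χ : G → ℂ) := by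
  have hp : p.Prime := Fact.out
  rw [blockHeight_principalBlock p M hMp, Nat.factorization_eq_zero_iff]
  constructor
  · rintro (h | h | h)
    · exact absurd hp h
    · exact h
    · exact absurd h (charDegree_pos χ).ne'
  · intro h
    exact Or.inr (Or.inl h)

/-- A nontrivial finite group has a nontrivial irreducible character. -/
theorem exists_irr_ne_one [Finite G] [Nontrivial G] :
    ∃ χ : IrrCharacter G, (χ : G → ℂ) ≠ fun _ => 1 := by
  classical
  by_contra hcon
  push Not at hcon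
  have : Fintype G := Fintype.ofFinite G
  have := finite_irrCharacter G
  have : Fintype (IrrCharacter G) := Fintype.ofFinite (IrrCharacter G)
  have hsub : ∀ χ : IrrCharacter G, χ = triv G := fun χ => Subtype.ext (hcon χ)
  have h := Cfsg.Agent.Lib.CT.Orth.sum_charDegree_sq_sum (G := G)
  rw [Finset.sum_eq_single (triv G) (fun χ _ hχ => absurd (hsub χ) hχ)
    (fun h => absurd (Finset.mem_univ _) h)] at h
  have h1 : charDegree ((triv G : IrrCharacter G) : G → ℂ) = 1 := by simp [charDegree, triv]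
  rw [h1] at h
  have h2 : 1 < Nat.card G := Finite.one_lt_card
  omega

/-- A constant irreducible character is the principal character. -/
theorem eq_one_of_const [Finite G] (χ : IrrCharacter G)
    (h : ∀ g, (χ : G → ℂ) g = (χ : G → ℂ) 1) : (χ : G → ℂ) = fun _ => 1 := by
  classical
  have : Fintype G := Fintype.ofFinite G
  have h1 := irr_orthonormal χ (triv G)
  have hG : (Nat.card G : ℂ) ≠ 0 := Nat.cast_ne_zero.mpr Nat.card_pos.ne'
  have h2 : classInner (χ : G → ℂ) ((triv G : IrrCharacter G) : G → ℂ) = (χ : G → ℂ) 1 := by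
    rw [classInner, Finset.sum_congr rfl (fun g _ => by rw [h g])]
    simp only [triv, map_one, mul_one, Finset.sum_const, Finset.card_univ, nsmul_eq_mul]
    rw [← Nat.card_eq_fintype_card]
    field_simp
  rw [h2] at h1
  by_cases he : χ = triv G
  · rw [he]
    rfl
  · rw [if_neg he] at h1
    exact absurd h1 (irr_apply_one_ne_zero χ.2)

/-- For a solvable group and a set `π` of primes: the principal character is the only
irreducible character lying in the principal `p`-block for every `p ∈ π` if and only if the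
subgroups `O_{p'}(G)`, `p ∈ π`, generate `G`. -/
theorem inter_principalBlock_iff [Finite G] [Group.IsSolvable G] (π : Set ℕ)
    (hπ : ∀ p ∈ π, p.Prime) (M : ℕ → Ideal AlgInt) (hM : ∀ p ∈ π, IsPModular p (M p)) :
    (∀ χ : IrrCharacter G, (∀ p ∈ π, χ ∈ principalBlock (M p) G) →
      (χ : G → ℂ) = fun _ => 1) ↔ ⨆ p ∈ π, pPrimeCore p G = ⊤ := by
  have hfong : ∀ p ∈ π, ∀ χ : IrrCharacter G, χ ∈ principalBlock (M p) G ↔
      ∀ n ∈ pPrimeCore p G, (χ : G → ℂ) n = (χ : G → ℂ) 1 := by
    intro p hp χ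
    have := Fact.mk (hπ p hp)
    exact mem_principalBlock_iff_of_isSolvable p (M p) (hM p hp) χ
  constructor
  · intro h
    by_contra hL
    set L := ⨆ p ∈ π, pPrimeCore p G with hLdef
    have hLn : L.Normal := inferInstance
    have hnt : Nontrivial (G ⧸ L) := by
      rw [← Finite.one_lt_card_iff_nontrivial, ← Subgroup.index_eq_card]
      have h1 : L.index ≠ 1 := fun h1 => hL (Subgroup.index_eq_one.mp h1)
      have h2 : L.index ≠ 0 := Subgroup.index_ne_zero_of_finite
      omega
    obtain ⟨ψ, hψ⟩ := exists_irr_ne_one (G := G ⧸ L)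
    apply hψ
    have hinf := Cfsg.Agent.Lib.CT.Kernel.isIrrCharacter_inflation L ψ.2
    have h1 := h ⟨_, hinf⟩ (fun p hp => (hfong p hp _).mpr (fun n hn => by
      have hnL : n ∈ L := (le_iSup₂ (f := fun p (_ : p ∈ π) => pPrimeCore p G) p hp) hn
      show (ψ : G ⧸ L → ℂ) (n : G ⧸ L) = (ψ : G ⧸ L → ℂ) ((1 : G) : G ⧸ L)
      rw [(QuotientGroup.eq_one_iff n).mpr hnL]
      rfl))
    funext x
    obtain ⟨g, rfl⟩ := QuotientGroup.mk_surjective x
    exact congrFun h1 g
  · intro hL χ hχ
    obtain ⟨N, hNn, hN⟩ := Cfsg.Agent.Lib.CT.Kernel.exists_normal_ker (isCharacter_of_irr χ.2)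
    have hle : ⨆ p ∈ π, pPrimeCore p G ≤ N :=
      iSup₂_le (fun p hp n hn => (hN n).mpr ((hfong p hp χ).mp (hχ p hp) n hn))
    rw [hL] at hle
    exact eq_one_of_const χ (fun g => (hN g).mp (hle (Subgroup.mem_top g)))

end Cfsg.Agent.Lib.Helper80.FongB0
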