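import Mathlib
import Cfsg.Agent.Lib.Helper80.GaloisRat
import Cfsg.Agent.Lib.Helper80.FongB0
import Cfsg.Agent.Lib.Helper75.GaloisBlock
import Cfsg.Agent.Lib.Helper16.Quot
import Cfsg.Agent.Lib.CT.Orth
import Cfsg.Agent.S4488

/-!
# The principal block and `O_{p'}(G)`; sums of squared absolute values over the principal block
-/

set_option autoImplicit false

namespace Cfsg.Agent.Lib.Helper80.LambdaB0

open Cfsg Cfsg.Agent.Lib.Helper77.LocalRing Cfsg.Agent.Lib.CT.Wedderburn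
  Cfsg.Agent.Lib.CT.ThirdMain Cfsg.Agent.Lib.CT.Orth Cfsg.Agent.Lib.Helper75.RealBlock2

open scoped ComplexConjugate

universe u
variable {G : Type u} [Group G]

/-- Inflation of irreducible characters from `G ⧸ N` to `G`. -/
noncomputable def infl (N : Subgroup G) [N.Normal] (ψ : IrrCharacter (G ⧸ N)) : IrrCharacter G :=
  ⟨fun g : G => (ψ : G ⧸ N → ℂ) (g : G ⧸ N),
    Cfsg.Agent.Lib.CT.Kernel.isIrrCharacter_inflation N ψ.2⟩

theorem infl_apply (N : Subgroup G) [N.Normal] (ψ : IrrCharacter (G ⧸ N)) (g : G) :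
    (infl N ψ : G → ℂ) g = (ψ : G ⧸ N → ℂ) (g : G ⧸ N) := rfl

theorem infl_injective (N : Subgroup G) [N.Normal] : Function.Injective (infl N) := by
  intro ψ₁ ψ₂ h
  apply Subtype.ext
  funext q
  obtain ⟨g, rfl⟩ := QuotientGroup.mk_surjective q
  exact congrFun (congrArg Subtype.val h) g

/-- For a normal `p'`-subgroup `N`, a character of `G ⧸ N` lies in the principal block iff its
inflation does. -/
theorem infl_mem_principalBlock_iff [Finite G] (p : ℕ) [Fact p.Prime] (M : Ideal AlgInt)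
    (hM : IsPModular p M) (N : Subgroup G) [N.Normal] (hN : ¬ p ∣ Nat.card N)
    (ψ : IrrCharacter (G ⧸ N)) :
    infl N ψ ∈ principalBlock M G ↔ ψ ∈ principalBlock M (G ⧸ N) := by
  have hMp := isPrime_of_isPModular hM
  constructor
  · intro h
    exact Cfsg.Agent.Lib.Helper16.Quot.sameBlock_of_comp_mk hM N hN (fun _ => (1 : ℂ))
      (ψ : G ⧸ N → ℂ) (triv (G ⧸ N)).2 ψ.2 h
  · intro h
    exact Cfsg.Agent.Lib.Helper16.Quot.sameBlock_comp_mk hMp N (fun _ => (1 : ℂ))
      (ψ : G ⧸ N → ℂ) h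

/-- Every principal block character is inflated from `G ⧸ N`, for a normal `p'`-subgroup `N`. -/
theorem exists_infl_eq [Finite G] (p : ℕ) [Fact p.Prime] (M : Ideal AlgInt)
    (hM : IsPModular p M) (N : Subgroup G) [N.Normal] (hN : ¬ p ∣ Nat.card N)
    (χ : IrrCharacter G) (hχ : χ ∈ principalBlock M G) :
    ∃ ψ : IrrCharacter (G ⧸ N), infl N ψ = χ := by
  have hker : ∀ n ∈ N, (χ : G → ℂ) n = (χ : G → ℂ) 1 := fun n hn =>
    Cfsg.Agent.Lib.Helper75.PNilBlock.apply_eq_of_mem_principalBlock p M hM N hN χ hχ n hn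
  obtain ⟨χbar, hχbar, hval⟩ := Cfsg.Agent.Lib.CT.Kernel.exists_quotient_irr (N := N) χ.2 hker
  exact ⟨⟨χbar, hχbar⟩, Subtype.ext (funext hval)⟩

theorem bijOn_infl [Finite G] (p : ℕ) [Fact p.Prime] (M : Ideal AlgInt)
    (hM : IsPModular p M) (N : Subgroup G) [N.Normal] (hN : ¬ p ∣ Nat.card N) :
    Set.BijOn (infl N) (principalBlock M (G ⧸ N)) (principalBlock M G) := by
  refine ⟨fun ψ hψ => (infl_mem_principalBlock_iff p M hM N hN ψ).mpr hψ,
    fun _ _ _ _ h => infl_injective N h, fun χ hχ => ?_⟩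
  obtain ⟨ψ, rfl⟩ := exists_infl_eq p M hM N hN χ hχ
  exact ⟨ψ, (infl_mem_principalBlock_iff p M hM N hN ψ).mp hχ, rfl⟩

/-- Sums over the principal block of `G` are sums over the principal block of `G ⧸ N`. -/
theorem finsum_principalBlock_eq [Finite G] (p : ℕ) [Fact p.Prime] (M : Ideal AlgInt)
    (hM : IsPModular p M) (N : Subgroup G) [N.Normal] (hN : ¬ p ∣ Nat.card N)
    {A : Type*} [AddCommMonoid A] (f : IrrCharacter G → A) :
    ∑ᶠ χ ∈ principalBlock M G, f χ = ∑ᶠ ψ ∈ principalBlock M (G ⧸ N), f (infl N ψ) :=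
  (finsum_mem_eq_of_bijOn (infl N) (bijOn_infl p M hM N hN) (fun _ _ => rfl)).symm

/-- The sum of `|χ(x)|²` over the principal block is a positive integer. -/
theorem exists_nat_sum_normSq [Finite G] (p : ℕ) [Fact p.Prime] (M : Ideal AlgInt)
    (hM : IsPModular p M) (x : G) :
    ∃ n : ℕ, 0 < n ∧ ∑ᶠ χ ∈ principalBlock M G, Complex.normSq ((χ : G → ℂ) x) = n := by
  classical
  have hMp := isPrime_of_isPModular hM
  have := finite_irrCharacter G
  have : Fintype (IrrCharacter G) := Fintype.ofFinite _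
  set S := {χ : IrrCharacter G // χ ∈ principalBlock M G} with hS
  have : Fintype S := Fintype.ofFinite S
  set c : S → G → ℂ := fun s => (s.1 : G → ℂ) with hc
  have hcc : ∀ s, IsCharacter G (c s) := fun s => isCharacter_of_irr s.1.2
  have hstab : ∀ j : ℕ, j.Coprime (Nat.card G) →
      ∃ π : S → S, Function.Injective π ∧ ∀ s g, c (π s) g = c s (g ^ j) := by
    intro j hj
    have htriv : pk j hj (triv G) = triv G := Subtype.ext (funext fun g => rfl)
    refine ⟨fun s => ⟨pk j hj s.1,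
      Cfsg.Agent.Lib.Helper75.GaloisBlock.pk_mem_blockOf_of_fixed p M hM j hj (triv G) htriv
        s.1 s.2⟩, ?_, fun s g => rfl⟩
    intro s₁ s₂ h
    exact Subtype.ext (pk_injective j hj (congrArg Subtype.val h))
  obtain ⟨q, hq⟩ := Cfsg.Agent.Lib.Helper80.GaloisRat.exists_rat_of_stable c hcc hstab x x⁻¹
  have hint : IsIntegral ℤ ((q : ℚ) : ℂ) := by
    rw [← hq]
    refine IsIntegral.sum _ fun s _ => IsIntegral.mul ?_ ?_
    · exact Cfsg.Agent.Lib.Helper80.Integrality.isIntegral_irrCharacter s.1 x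
    · exact Cfsg.Agent.Lib.Helper80.Integrality.isIntegral_irrCharacter s.1 x⁻¹
  obtain ⟨z, hz⟩ := Cfsg.Agent.S4488.int_of_integral_rat q hint
  have hsum : ∑ᶠ χ ∈ principalBlock M G, Complex.normSq ((χ : G → ℂ) x)
      = ∑ s : S, Complex.normSq (c s x) := by
    rw [← finsum_set_coe_eq_finsum_mem, finsum_eq_sum_of_fintype]
  have hreal : ((∑ s : S, Complex.normSq (c s x) : ℝ) : ℂ) = ((z : ℤ) : ℂ) := by
    rw [Complex.ofReal_sum]
    have h1 : ∀ s : S, ((Complex.normSq (c s x) : ℝ) : ℂ) = c s x * c s x⁻¹ := by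
      intro s
      rw [char_apply_inv (hcc s) x, Complex.mul_conj]
    rw [Finset.sum_congr rfl (fun s _ => h1 s), hq, hz]
    push_cast
    rfl
  have hreal' : (∑ s : S, Complex.normSq (c s x) : ℝ) = ((z : ℤ) : ℝ) := by
    exact_mod_cast hreal
  have hpos : (1 : ℝ) ≤ ∑ s : S, Complex.normSq (c s x) := by
    have h2 := Finset.single_le_sum (f := fun s : S => Complex.normSq (c s x))
      (fun s _ => Complex.normSq_nonneg _)
      (Finset.mem_univ (⟨triv G, triv_mem_principalBlock hMp⟩ : S))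
    have h3 : Complex.normSq (c ⟨triv G, triv_mem_principalBlock hMp⟩ x) = 1 := by
      show Complex.normSq ((1 : ℂ)) = 1
      simp
    rw [h3] at h2
    exact h2
  rw [hreal'] at hpos
  have hz1 : 1 ≤ z := by exact_mod_cast hpos
  refine ⟨z.toNat, by omega, ?_⟩
  rw [hsum, hreal']
  have h4 : ((z.toNat : ℕ) : ℤ) = z := Int.toNat_of_nonneg (by omega)
  exact_mod_cast congrArg (fun t : ℤ => (t : ℝ)) h4.symm

/-- Over all irreducible characters, the sum of `|ψ(x)|²` is the order of the centralizer. -/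
theorem sum_normSq_eq_card_centralizer [Finite G] [Fintype (IrrCharacter G)] (x : G) :
    ∑ ψ : IrrCharacter G, Complex.normSq ((ψ : G → ℂ) x)
      = (Nat.card ↥(Subgroup.centralizer ({x} : Set G)) : ℝ) := by
  have := Fintype.ofFinite G
  have h := second_orthogonality_sum_of_isConj x x (IsConj.refl x)
  have h1 : ((∑ ψ : IrrCharacter G, Complex.normSq ((ψ : G → ℂ) x) : ℝ) : ℂ)
      = ((Nat.card ↥(Subgroup.centralizer ({x} : Set G)) : ℝ) : ℂ) := by
    rw [Complex.ofReal_sum]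
    push_cast
    rw [← h]
    refine Finset.sum_congr rfl fun ψ _ => ?_
    rw [Complex.mul_conj]
  exact_mod_cast h1

theorem finsum_mem_le_sum {α : Type*} [Fintype α] (s : Set α) (f : α → ℝ) (hf : ∀ a, 0 ≤ f a) :
    ∑ᶠ a ∈ s, f a ≤ ∑ a, f a := by
  classical
  rw [finsum_mem_def, finsum_eq_sum_of_fintype]
  refine Finset.sum_le_sum fun a _ => ?_
  by_cases h : a ∈ s
  · rw [Set.indicator_of_mem h]
  · rw [Set.indicator_of_notMem h]
    exact hf a

/-- The main theorem on `λ(G, x)`. -/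
theorem lambda_main [Finite G] (p : ℕ) [Fact p.Prime] (M : Ideal AlgInt) (hM : IsPModular p M)
    (x : G) :
    (∃ n : ℕ, 0 < n ∧ ∑ᶠ χ ∈ principalBlock M G, Complex.normSq ((χ : G → ℂ) x) = n) ∧
    ∑ᶠ χ ∈ principalBlock M G, Complex.normSq ((χ : G → ℂ) x)
      = ∑ᶠ ψ ∈ principalBlock M (G ⧸ pPrimeCore p G),
          Complex.normSq ((ψ : G ⧸ pPrimeCore p G → ℂ) (QuotientGroup.mk x)) ∧
    ∑ᶠ χ ∈ principalBlock M G, Complex.normSq ((χ : G → ℂ) x)
      ≤ (Nat.card ↥(Subgroup.centralizer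
          ({(QuotientGroup.mk x : G ⧸ pPrimeCore p G)} : Set (G ⧸ pPrimeCore p G))) : ℝ) ∧
    ((∑ᶠ χ ∈ principalBlock M G, charDegree (χ : G → ℂ) ^ 2) = (pPrimeCore p G).index ↔
      ∀ B : Set (IrrCharacter (G ⧸ pPrimeCore p G)), IsPBlock M B →
        B = principalBlock M (G ⧸ pPrimeCore p G)) := by
  classical
  have hMp := isPrime_of_isPModular hM
  set N := pPrimeCore p G with hNdef
  have hN : ¬ p ∣ Nat.card N := Cfsg.Agent.Lib.Helper80.FongB0.not_dvd_card_pPrimeCore p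
  have := finite_irrCharacter (G ⧸ N)
  have : Fintype (IrrCharacter (G ⧸ N)) := Fintype.ofFinite _
  have h2 : ∑ᶠ χ ∈ principalBlock M G, Complex.normSq ((χ : G → ℂ) x)
      = ∑ᶠ ψ ∈ principalBlock M (G ⧸ N),
          Complex.normSq ((ψ : G ⧸ N → ℂ) (QuotientGroup.mk x)) :=
    finsum_principalBlock_eq p M hM N hN (fun χ => Complex.normSq ((χ : G → ℂ) x))
  refine ⟨exists_nat_sum_normSq p M hM x, h2, ?_, ?_⟩
  · rw [h2, ← sum_normSq_eq_card_centralizer (QuotientGroup.mk x : G ⧸ N)]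
    exact finsum_mem_le_sum _ _ (fun ψ => Complex.normSq_nonneg _)
  · have h3 : ∑ᶠ χ ∈ principalBlock M G, charDegree (χ : G → ℂ) ^ 2
        = ∑ᶠ ψ ∈ principalBlock M (G ⧸ N), charDegree (ψ : G ⧸ N → ℂ) ^ 2 := by
      rw [finsum_principalBlock_eq p M hM N hN (fun χ => charDegree (χ : G → ℂ) ^ 2)]
      refine finsum_mem_congr rfl fun ψ _ => ?_
      have h4 : charDegree (infl N ψ : G → ℂ) = charDegree (ψ : G ⧸ N → ℂ) := by
        unfold charDegree
        rw [infl_apply, QuotientGroup.mk_one]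
      rw [h4]
    have h5 : N.index = ∑ ψ : IrrCharacter (G ⧸ N), charDegree (ψ : G ⧸ N → ℂ) ^ 2 := by
      have : Fintype (G ⧸ N) := Fintype.ofFinite _
      rw [sum_charDegree_sq_sum, Subgroup.index_eq_card]
    have h6 : ∑ᶠ ψ ∈ principalBlock M (G ⧸ N), charDegree (ψ : G ⧸ N → ℂ) ^ 2
        = ∑ ψ : IrrCharacter (G ⧸ N),
            if ψ ∈ principalBlock M (G ⧸ N) then charDegree (ψ : G ⧸ N → ℂ) ^ 2 else 0 := by
      rw [finsum_mem_def, finsum_eq_sum_of_fintype]
      refine Finset.sum_congr rfl fun ψ _ => ?_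
      by_cases h : ψ ∈ principalBlock M (G ⧸ N)
      · rw [Set.indicator_of_mem h, if_pos h]
      · rw [Set.indicator_of_notMem h, if_neg h]
    rw [h3, h5, h6]
    constructor
    · intro heq B hB
      have hall : ∀ ψ : IrrCharacter (G ⧸ N), ψ ∈ principalBlock M (G ⧸ N) := by
        by_contra hnot
        rw [not_forall] at hnot
        obtain ⟨ψ₀, hψ₀⟩ := hnot
        have hlt : (∑ ψ : IrrCharacter (G ⧸ N),
            if ψ ∈ principalBlock M (G ⧸ N) then charDegree (ψ : G ⧸ N → ℂ) ^ 2 else 0)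
            < ∑ ψ : IrrCharacter (G ⧸ N), charDegree (ψ : G ⧸ N → ℂ) ^ 2 := by
          apply Finset.sum_lt_sum
          · intro ψ _
            split_ifs
            · exact le_rfl
            · exact Nat.zero_le _
          · refine ⟨ψ₀, Finset.mem_univ _, ?_⟩
            rw [if_neg hψ₀]
            exact pow_pos (irr_charDegree_pos ψ₀.2) 2
        omega
      obtain ⟨χ₀, rfl⟩ := hB
      ext ψ
      constructor
      · intro _
        exact hall ψ
      · intro _
        show SameBlock M (χ₀ : G ⧸ N → ℂ) (ψ : G ⧸ N → ℂ)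
        exact Cfsg.Agent.Lib.Helper16.ZR.sameBlock_trans hMp
          (Cfsg.Agent.Lib.Helper16.ZR.sameBlock_symm (hall χ₀)) (hall ψ)
    · intro hall
      refine Finset.sum_congr rfl fun ψ _ => ?_
      have hψ : ψ ∈ principalBlock M (G ⧸ N) := by
        have h7 := hall (blockOf M (ψ : G ⧸ N → ℂ)) ⟨ψ, rfl⟩
        rw [← h7]
        exact Cfsg.Agent.Lib.Helper16.ZR.sameBlock_refl hMp _
      rw [if_pos hψ]

end Cfsg.Agent.Lib.Helper80.LambdaB0
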