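import Cfsg.Agent.Lib.Helper54.S72Stmt

/-!
# S1372 / OMEGA (pure group theory)

`V = Ω₁(Z(T))` for a `t`-subgroup `T`: nontrivial, normalized by `N_G(T)`, and either of prime
order or `⟨V, x⟩` is an elementary abelian subgroup of `C_G(x)` of order `> t²`.
-/

set_option autoImplicit false

universe u

namespace Cfsg.Agent.Lib.Helper80.S72OMEGA

/-- `Ω₁(Z(T))` as a subgroup of `G`. -/
def omegaZ {G : Type u} [Group G] (t : ℕ) (T : Subgroup G) : Subgroup G where
  carrier := {z | z ∈ T ∧ (∀ y ∈ T, y * z = z * y) ∧ z ^ t = 1}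
  one_mem' := ⟨T.one_mem, fun y _ => by simp, one_pow _⟩
  mul_mem' := by
    rintro a b ⟨haT, hac, hat⟩ ⟨hbT, hbc, hbt⟩
    refine ⟨T.mul_mem haT hbT, fun y hy => ?_, ?_⟩
    · rw [← mul_assoc, hac y hy, mul_assoc, hbc y hy, mul_assoc]
    · have hcomm : Commute a b := (hac b hbT).symm
      rw [hcomm.mul_pow, hat, hbt, one_mul]
  inv_mem' := by
    rintro a ⟨haT, hac, hat⟩
    refine ⟨T.inv_mem haT, fun y hy => ?_, by rw [inv_pow, hat, inv_one]⟩
    have := hac y hy
    calc y * a⁻¹ = a⁻¹ * (a * y) * a⁻¹ := by group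
      _ = a⁻¹ * (y * a) * a⁻¹ := by rw [this]
      _ = a⁻¹ * y := by group

theorem mem_omegaZ {G : Type u} [Group G] {t : ℕ} {T : Subgroup G} {z : G} :
    z ∈ omegaZ t T ↔ z ∈ T ∧ (∀ y ∈ T, y * z = z * y) ∧ z ^ t = 1 := Iff.rfl

theorem main : Cfsg.Agent.Lib.Helper54.S72Stmt.Omega.{u} := by
  intro G _ _ t ht T hT x hxT hxo hnot
  haveI : Fact t.Prime := ⟨ht⟩
  have hVT : omegaZ t T ≤ T := fun z hz => hz.1
  have hx1 : x ≠ 1 := by
    rintro rfl
    rw [orderOf_one] at hxo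
    exact ht.ne_one hxo.symm
  -- `V ≠ ⊥`
  have hVne : omegaZ t T ≠ ⊥ := by
    haveI : Nontrivial ↥T :=
      ⟨⟨⟨x, hxT⟩, 1, fun h => hx1 (by simpa using congrArg Subtype.val h)⟩⟩
    haveI := hT.center_nontrivial
    have hZ : IsPGroup t ↥(Subgroup.center ↥T) := hT.to_subgroup _
    obtain ⟨n, hn⟩ := IsPGroup.iff_card.1 hZ
    have hn0 : n ≠ 0 := by
      rintro rfl
      have := Finite.one_lt_card (α := ↥(Subgroup.center ↥T))
      rw [pow_zero] at hn
      omega
    have hdvd : t ∣ Nat.card ↥(Subgroup.center ↥T) := by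
      rw [hn]; exact dvd_pow_self t hn0
    obtain ⟨z, hz⟩ := exists_prime_orderOf_dvd_card' t hdvd
    have hzV : ((z : ↥T) : G) ∈ omegaZ t T := by
      refine ⟨(z : ↥T).2, fun y hy => ?_, ?_⟩
      · have := Subgroup.mem_center_iff.1 z.2 ⟨y, hy⟩
        exact congrArg Subtype.val this
      · have h1 : z ^ t = 1 := by rw [← hz]; exact pow_orderOf_eq_one z
        have h2 := congrArg (fun w : ↥(Subgroup.center ↥T) => ((w : ↥T) : G)) h1
        simpa using h2
    intro hbot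
    rw [hbot, Subgroup.mem_bot] at hzV
    have hz1 : z = 1 := by
      apply Subtype.ext; apply Subtype.ext; simpa using hzV
    rw [hz1, orderOf_one] at hz
    exact ht.ne_one hz.symm
  -- normalized by `N_G(T)`
  have hnorm : ∀ g : G, g ∈ Subgroup.normalizer (T : Set G) →
      g ∈ Subgroup.normalizer ((omegaZ t T : Subgroup G) : Set G) := by
    have key : ∀ g : G, g ∈ Subgroup.normalizer (T : Set G) →
        ∀ h ∈ omegaZ t T, g * h * g⁻¹ ∈ omegaZ t T := by
      intro g hg h hh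
      obtain ⟨hhT, hhc, hht⟩ := mem_omegaZ.1 hh
      have hg' := Subgroup.mem_normalizer_iff.1 hg
      refine mem_omegaZ.2 ⟨(hg' h).1 hhT, fun y hy => ?_, by
        rw [conj_pow, hht, mul_one, mul_inv_cancel]⟩
      have hy' : g⁻¹ * y * g ∈ T := by
        rw [hg' (g⁻¹ * y * g)]
        simpa [mul_assoc] using hy
      have := hhc _ hy'
      calc y * (g * h * g⁻¹) = g * (g⁻¹ * y * g * h) * g⁻¹ := by group
        _ = g * (h * (g⁻¹ * y * g)) * g⁻¹ := by rw [this]
        _ = g * h * g⁻¹ * y := by group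
    intro g hg
    rw [Subgroup.mem_normalizer_iff]
    intro h
    refine ⟨key g hg h, fun hh => ?_⟩
    have := key g⁻¹ (inv_mem hg) _ hh
    simpa [mul_assoc] using this
  refine ⟨omegaZ t T, hVT, hVne, hnorm, ?_⟩
  have hVp : IsPGroup t ↥(omegaZ t T) := hT.to_le hVT
  obtain ⟨k, hk⟩ := IsPGroup.iff_card.1 hVp
  have hk0 : k ≠ 0 := by
    rintro rfl
    rw [pow_zero] at hk
    exact hVne (Subgroup.card_eq_one.1 hk)
  by_cases hk1 : k = 1
  · left; rw [hk, hk1, pow_one]; exact ht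
  right
  have hk2 : 2 ≤ k := by omega
  have hScomm : ∀ a ∈ ((omegaZ t T : Subgroup G) : Set G) ∪ {x},
      ∀ b ∈ ((omegaZ t T : Subgroup G) : Set G) ∪ {x}, a * b = b * a := by
    rintro a (ha | ha) b (hb | hb)
    · exact ((mem_omegaZ.1 hb).2.1 a (hVT ha))
    · rw [Set.mem_singleton_iff.1 hb]
      exact ((mem_omegaZ.1 ha).2.1 x hxT).symm
    · rw [Set.mem_singleton_iff.1 ha]
      exact ((mem_omegaZ.1 hb).2.1 x hxT)
    · rw [Set.mem_singleton_iff.1 ha, Set.mem_singleton_iff.1 hb]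
  have hE1 : ∀ b ∈ Subgroup.closure (((omegaZ t T : Subgroup G) : Set G) ∪ {x}),
      ∀ a ∈ ((omegaZ t T : Subgroup G) : Set G) ∪ {x}, a * b = b * a := by
    intro b hb
    refine Subgroup.closure_induction
      (p := fun b _ => ∀ a ∈ ((omegaZ t T : Subgroup G) : Set G) ∪ {x}, a * b = b * a)
      ?_ ?_ ?_ ?_ hb
    · intro b hb a ha; exact hScomm a ha b hb
    · intro a _; simp
    · intro b c _ _ hb hc a ha
      rw [← mul_assoc, hb a ha, mul_assoc, hc a ha, mul_assoc]
    · intro b _ hb a ha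
      have := hb a ha
      calc a * b⁻¹ = b⁻¹ * (b * a) * b⁻¹ := by group
        _ = b⁻¹ * (a * b) * b⁻¹ := by rw [this]
        _ = b⁻¹ * a := by group
  have hEcomm : ∀ a ∈ Subgroup.closure (((omegaZ t T : Subgroup G) : Set G) ∪ {x}),
      ∀ b ∈ Subgroup.closure (((omegaZ t T : Subgroup G) : Set G) ∪ {x}), a * b = b * a := by
    intro a ha b hb
    refine Subgroup.closure_induction (p := fun a _ => a * b = b * a) ?_ ?_ ?_ ?_ ha
    · intro a ha; exact hE1 b hb a ha
    · simp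
    · intro a c _ _ ha hc
      rw [mul_assoc, hc, ← mul_assoc, ha, mul_assoc]
    · intro a _ ha
      calc a⁻¹ * b = a⁻¹ * (b * a) * a⁻¹ := by group
        _ = a⁻¹ * (a * b) * a⁻¹ := by rw [ha]
        _ = b * a⁻¹ := by group
  have hEexp : ∀ a ∈ Subgroup.closure (((omegaZ t T : Subgroup G) : Set G) ∪ {x}),
      a ^ t = 1 := by
    intro a ha
    refine Subgroup.closure_induction (p := fun a _ => a ^ t = 1) ?_ ?_ ?_ ?_ ha
    · rintro a (ha | ha)
      · exact (mem_omegaZ.1 ha).2.2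
      · rw [Set.mem_singleton_iff.1 ha]
        have := pow_orderOf_eq_one x
        rwa [hxo] at this
    · exact one_pow _
    · intro a b ha hb hat hbt
      have hc : Commute a b := hEcomm a ha b hb
      rw [hc.mul_pow, hat, hbt, one_mul]
    · intro a _ hat; rw [inv_pow, hat, inv_one]
  have hxE : x ∈ Subgroup.closure (((omegaZ t T : Subgroup G) : Set G) ∪ {x}) :=
    Subgroup.subset_closure (Or.inr rfl)
  have hVE : omegaZ t T ≤ Subgroup.closure (((omegaZ t T : Subgroup G) : Set G) ∪ {x}) :=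
    fun v hv => Subgroup.subset_closure (Or.inl hv)
  have hxV : x ∉ omegaZ t T := by
    intro hxV
    apply hnot
    intro y hy
    rw [Subgroup.mem_centralizer_iff]
    intro h hh
    rw [Set.mem_singleton_iff.1 hh]
    exact ((mem_omegaZ.1 hxV).2.1 y hy).symm
  refine ⟨Subgroup.closure (((omegaZ t T : Subgroup G) : Set G) ∪ {x}), ?_, ?_, ?_⟩
  · intro e he
    rw [Subgroup.mem_centralizer_iff]
    intro h hh
    rw [Set.mem_singleton_iff.1 hh]
    exact hEcomm x hxE e he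
  · exact ⟨⟨⟨fun a b => Subtype.ext (hEcomm a.1 a.2 b.1 b.2)⟩⟩, hEexp⟩
  · have hlt : Nat.card ↥(omegaZ t T) <
        Nat.card ↥(Subgroup.closure (((omegaZ t T : Subgroup G) : Set G) ∪ {x})) := by
      by_contra hle
      have := Subgroup.eq_of_le_of_card_ge hVE (not_lt.1 hle)
      exact hxV (this ▸ hxE)
    calc t ^ 2 ≤ t ^ k := Nat.pow_le_pow_right ht.pos hk2
      _ = Nat.card ↥(omegaZ t T) := hk.symm
      _ < _ := hlt

end Cfsg.Agent.Lib.Helper80.S72OMEGA
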